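import Cfsg.Agent.RankOneClass.Odd.CaseB
import Cfsg.Agent.Char.UniqueDivisible

/-!
# In a rank-one set-up with two commuting involutions `Q` is a 2-group
-/

set_option autoImplicit false
set_option linter.unusedSectionVars false

namespace Cfsg.Agent.RankOneClass

open Subgroup MulAction Cfsg.Agent.RankOne Cfsg.Agent.Zassenhaus Cfsg.Agent.RankOneClass.Odd
open scoped _root_.Classical

universe u v

/-- One step of the induction. -/
theorem isPGroup_Q_step {G : Type u} {Ω : Type v} [Group G] [Finite G] [MulAction G Ω] {a : Ω}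
    {t : G} {Q : Subgroup G} (hC : Ctx G Ω a t Q) (hind : Smaller G Ω) : IsPGroup 2 Q := by
  letI := Fintype.ofFinite G
  obtain ⟨S, O, hd, hZ⟩ := exists_dec_ctx hC
  have hc : Cfg a t Q S O := ⟨hC, hind, hd, hZ⟩
  by_cases hO : O = ⊥
  · suffices h : Q ≤ S from hd.two.to_le h
    intro x hx
    obtain ⟨y, hy, z, hz, rfl⟩ := hd.split x hx
    rw [hO, mem_bot] at hz
    simpa [hz] using hy
  exfalso
  haveI : Nontrivial ↥O := (Subgroup.nontrivial_iff_ne_bot O).2 hO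
  haveI := nilpotent_Q hC.setup hC.two
  haveI : Group.IsNilpotent ↥O :=
    Group.nilpotent_of_mulEquiv (Subgroup.subgroupOfEquivOfLe hd.O_le)
  obtain ⟨f, hf⟩ := Char.exists_linear_ne_one (G := ↥O) inferInstance
  let lam : IrrCharacter ↥O :=
    ⟨_, Char.isIrr_mul_hom Char.isIrrCharacter_one f⟩
  have hlam : cdeg lam = 1 := cdeg_eq (by simp [lam])
  have hne : (lam : ↥O → ℂ) ≠ fun _ => 1 := fun e => hf (MonoidHom.ext fun x => Units.ext (by
    simpa [lam] using congrFun e x))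
  obtain ⟨j, hj⟩ := exists_mult hc.ctx hc.dec hc.pair
  set L := stabC hc.dec.normO lam with hL
  by_cases hB : L ≠ ⊥ ∧ qq G a ^ j = 1
  · exact hc.caseB hlam hne (by rw [hj, hB.2, one_mul]) hB.1
  obtain ⟨-, -, -, hLp⟩ := hc.stab_facts hne
  obtain ⟨C, hC2, hC0, A, hA, hcard⟩ :=
    exists_lin_bound hc.ctx hc.dec hc.pair hj (hc.lone hne) hLp
  have hCM : C < qq G a ^ j := by
    have h4 := hC.four_le_qq
    have h1 : 1 ≤ qq G a ^ j := Nat.one_le_pow _ _ (by omega)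
    by_cases hb : L = ⊥
    · rw [hC0 hb]; omega
    · have hM : qq G a ^ j ≠ 1 := fun e => hB ⟨hb, e⟩
      by_contra hlt
      have := Nat.mul_le_mul (le_of_not_gt hlt) (le_of_not_gt hlt)
      nlinarith [show 2 ≤ qq G a ^ j by omega]
  obtain ⟨η₀, hη₀⟩ := Finset.card_pos.1 (show 0 < A.card by omega)
  exact hc.caseA hlam hne hj (hA η₀ hη₀).1 (if_pos (hA η₀ hη₀).2)

theorem isPGroup_Q_aux : ∀ (n : ℕ) (G : Type u) (Ω : Type v) [Group G] [Finite G] [MulAction G Ω]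
    [FaithfulSMul G Ω] (a : Ω) (t : G) (Q : Subgroup G), Nat.card G = n →
    Cfsg.IsRankOneSetup G Ω a t Q →
    (∃ x y : G, x ≠ 1 ∧ y ≠ 1 ∧ x ≠ y ∧ x * x = 1 ∧ y * y = 1 ∧ x * y = y * x) →
    IsPGroup 2 Q := by
  intro n
  induction n using Nat.strong_induction_on with
  | _ n ih =>
    intro G Ω _ _ _ hf a t Q hn hS h2
    exact isPGroup_Q_step ⟨hf, hS, h2⟩
      fun G' Ω' _ _ _ _ a' t' Q' hlt hS' h2' => ih _ (hn ▸ hlt) G' Ω' a' t' Q' rfl hS' h2'

/-- In a rank-one set-up with two commuting involutions `Q` is a 2-group. -/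
theorem isPGroup_Q {G : Type u} {Ω : Type v} [Group G] [Finite G] [MulAction G Ω]
    [FaithfulSMul G Ω] {a : Ω} {t : G} {Q : Subgroup G} (hS : Cfsg.IsRankOneSetup G Ω a t Q)
    (h2 : ∃ x y : G, x ≠ 1 ∧ y ≠ 1 ∧ x ≠ y ∧ x * x = 1 ∧ y * y = 1 ∧ x * y = y * x) :
    IsPGroup 2 Q :=
  isPGroup_Q_aux _ G Ω a t Q rfl hS h2

theorem pGroupStmt (G : Type u) {Ω : Type v} [Group G] [Finite G] [MulAction G Ω] (a : Ω) (t : G)
    (Q : Subgroup G) : PGroupStmt.{u, v} G a t Q := fun hC _ => by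
  haveI := hC.faithful
  exact isPGroup_Q hC.setup hC.two

end Cfsg.Agent.RankOneClass
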