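import Cfsg.Agent.RankOneClass.Abelian.Chars
import Cfsg.Agent.RankOneClass.OddPart

/-!
# An abelian `Q` has order at most `q²`
-/

set_option autoImplicit false
set_option linter.unusedSectionVars false

namespace Cfsg.Agent.RankOneClass.Abelian

open Subgroup MulAction Cfsg.Agent.RankOne Cfsg.Agent.Zassenhaus Cfsg.Agent.RankOneClass.Odd
open scoped ComplexConjugate _root_.Classical

universe u v

/-- A self-conjugate row outside the family. -/
theorem own_real {X : Type u} {ι : Type v} [Fintype X] [DecidableEq X] [Fintype ι] [DecidableEq ι]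
    {R : Rows X ι} {J : Finset ι} (P : Part R J) (a : X → ℤ) (A : ℤ) {i0 : ι} (hi0 : i0 ∈ J)
    (hf0 : R.f i0 = 1) (ha : ∀ j ∈ J, ip a (R.m j) = R.k * R.f j) (haa : ip a a = A + R.k)
    (hasa : ip a (a ∘ R.σ) = A + R.k) (hA : 0 ≤ A) (hW : A + 2 < weight R J) {j : ι} (hj : j ∈ J) :
    a (P.e j) = P.x * R.f j := by
  set z := P.ε * (R.k - ip a P.c) - P.x with hz
  set V : X → ℤ := a - R.m i0 with hV
  have hf0' : (R.f i0 : ℤ) = 1 := by exact_mod_cast hf0
  have hb0 := P.bar_mem i0 hi0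
  have hVe : ∀ i ∈ J, V (P.e i) = z * R.f i - (if i0 = i then P.ε else 0) := by
    intro i hi
    rw [hV, Pi.sub_apply, P.prop_row a 1 (fun l hl => by rw [ha l hl]; ring) hi, P.row_at hi0 hi,
      hf0', hz]
    ring
  have h0 : ip (R.m i0) (R.m i0) = 1 + R.k := by rw [R.gram, if_pos rfl, hf0']; ring
  have h0a : ip a (R.m i0) = R.k := by rw [ha i0 hi0, hf0']; ring
  have hVV : ip V V = A + 1 := by
    rw [hV, ip_sub_left, ip_sub_right, ip_sub_right, ip_comm (R.m i0) a, h0, h0a, haa]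
    ring
  have hms : R.m i0 ∘ R.σ = R.m (R.bar i0) := funext fun χ => by
    rw [Function.comp_apply, ← R.m_bar i0 (R.σ χ), R.σσ]
  have hVs : ip V (V ∘ R.σ) = A := by
    have hc : V ∘ R.σ = a ∘ R.σ - R.m (R.bar i0) := by
      funext χ; simp [hV, ← hms]
    have h5 : ip (R.m i0) (a ∘ R.σ) = R.k := by
      rw [← ip_comp_swap _ R.σσ, hms, ip_comm, ha _ hb0, R.f_bar, hf0']; ring
    have h6 : ip a (R.m (R.bar i0)) = R.k := by rw [ha _ hb0, R.f_bar, hf0']; ring
    have h7 : ip (R.m i0) (R.m (R.bar i0)) = R.k := by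
      rw [R.gram, if_neg (R.bar_ne i0).symm, R.f_bar, hf0']; ring
    rw [hc, hV, ip_sub_left, ip_sub_right, ip_sub_right, hasa, h6, h5, h7]
    ring
  have hb := bessel_pair P V
  rw [hVV, hVs] at hb
  have hbi : ∀ i, (i0 = R.bar i) ↔ (R.bar i0 = i) := fun i =>
    ⟨fun e => by rw [e, R.barbar], fun e => by rw [← e, R.barbar]⟩
  have hsum : ∑ i ∈ J, (V (P.e i) + V (P.e (R.bar i))) * (V (P.e i) + V (P.e (R.bar i))) =
      4 * z * z * weight R J - 8 * z * P.ε + 2 := by
    have hterm : ∀ i ∈ J, (V (P.e i) + V (P.e (R.bar i))) * (V (P.e i) + V (P.e (R.bar i))) =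
        4 * z * z * ((R.f i : ℤ) * R.f i) +
          (if i0 = i then 1 - 4 * z * P.ε * R.f i else 0) +
          (if R.bar i0 = i then 1 - 4 * z * P.ε * R.f i else 0) := by
      intro i hi
      rw [hVe i hi, hVe _ (P.bar_mem i hi), R.f_bar]
      by_cases h : i0 = i
      · subst h
        rw [if_pos rfl, if_pos rfl, if_neg (R.bar_ne i0).symm, if_neg (R.bar_ne i0)]
        linear_combination P.εε
      · by_cases h' : R.bar i0 = i
        · subst h'
          rw [if_neg h, R.barbar, if_pos rfl, if_neg h, if_pos rfl]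
          linear_combination P.εε
        · rw [if_neg h, if_neg (fun e => h' ((hbi i).1 e)), if_neg h, if_neg h']
          ring
    rw [Finset.sum_congr rfl hterm, Finset.sum_add_distrib, Finset.sum_add_distrib,
      Finset.sum_ite_eq, if_pos hi0, Finset.sum_ite_eq, if_pos hb0, R.f_bar, hf0', weight,
      ← Finset.mul_sum]
    ring
  rw [hsum] at hb
  have hz0 : z = 0 := by
    by_contra hne
    have h1 : 1 ≤ z * z := (Int.one_le_abs (mul_ne_zero hne hne)).trans_eq (abs_mul_self _)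
    have h2 : z * P.ε ≤ z * z := by
      rcases P.hε with h | h <;> rw [h] <;> nlinarith [sq_nonneg (z - 1), sq_nonneg (z + 1)]
    have h4 : weight R J - 2 ≤ z * z * (weight R J - 2) := le_mul_of_one_le_left (by linarith) h1
    nlinarith
  have h6 := hVe j hj
  rw [hz0, zero_mul, zero_sub, hV, Pi.sub_apply, P.row_at hi0 hj, hf0'] at h6
  linear_combination h6

variable {G : Type u} {Ω : Type v} [Group G] [Fintype G] [MulAction G Ω] {a : Ω} {t : G}
  {Q : Subgroup G}

/-- The trivial decomposition of a 2-group `Q`. -/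
theorem dec_self (hC : Ctx G Ω a t Q) (h2 : IsPGroup 2 Q) : Cfg a t Q Q (⊥ : Subgroup G) where
  ctx := hC
  ind _ _ _ _ _ _ _ _ _ _ hS h2' := isPGroup_Q hS h2'
  zle := hC.zGrp_le
  dec :=
    { S_le := le_rfl
      O_le := bot_le
      comm := fun x _ y hy => by rw [mem_bot.1 hy]; exact Commute.one_right x
      two := h2
      odd := by rw [Subgroup.card_bot]; exact odd_one
      normS := (frame hC).norm
      normO := fun d _ x hx => by rw [mem_bot] at hx ⊢; rw [hx]; simp
      split := fun x hx => ⟨x, hx, 1, one_mem _, mul_one x⟩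
      disj := fun x _ hx => mem_bot.1 hx }

/-- The family of free non-real characters. -/
theorem freeFam (hC : Ctx G Ω a t Q) : Fam (frame hC) (freeSet (frame hC).norm) where
  free θ hθ d hd := ((mem_freeSet _).1 hθ).1 d hd
  stable θ hθ d := by
    obtain ⟨h1, h2⟩ := (mem_freeSet _).1 hθ
    refine (mem_freeSet _).2 ⟨fun e he => ?_, fun he => h2 ?_⟩
    · have := h1 (d⁻¹ * e * d) (by rw [actC_mul, actC_mul, he, actC_inv_cancel])
      exact (conj_eq_one_iff (a := d⁻¹)).1 (by rw [inv_inv]; exact this)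
    · rw [← actC_conjIrr] at he
      exact actC_injective _ d he
  conj_mem θ hθ := by
    obtain ⟨h1, h2⟩ := (mem_freeSet _).1 hθ
    refine (mem_freeSet _).2 ⟨fun e he => h1 e ?_, fun he => h2 ?_⟩
    · rw [actC_conjIrr] at he
      exact Function.LeftInverse.injective (g := Char.conjIrr) Char.conjIrr_conjIrr he
    · rw [Char.conjIrr_conjIrr] at he
      exact he.symm
  nonreal θ hθ d e := by
    obtain ⟨h1, h2⟩ := (mem_freeSet _).1 hθ
    have h3 : d * d = 1 := h1 _ (by rw [actC_mul, e, actC_conjIrr, e, Char.conjIrr_conjIrr])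
    obtain ⟨j, hj⟩ := hC.setup.odd_card.of_dvd_nat (orderOf_dvd_natCard (G := ↥(twoPt G a t)) d)
    have h4 := pow_orderOf_eq_one d
    rw [hj, pow_succ, pow_mul, pow_two, h3, one_pow, one_mul] at h4
    rw [h4, actC_one] at e
    exact h2 e.symm

variable (hC : Ctx G Ω a t Q) (hab : IsMulCommutative Q)
include hC hab

/-- The numbers of characters. -/
theorem count_facts (h2 : IsPGroup 2 Q) {i : ℕ} (hQ : Nat.card Q = qq G a ^ (i + 3)) :
    qq G a ^ (i + 2) < (freeSet (frame hC).norm).card ∧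
      (Nat.card (vGrp G a t) + 4) * Nat.card (twoPt G a t) < (freeSet (frame hC).norm).card ∧
      (Nat.card (twoPt G a t) + 1) ^ 2 < Nat.card Q ∧
      ∃ θ ∈ freeSet (frame hC).norm, ∀ z : ↥Q, (z : G) ∈ zGrp G a → (θ : ↥Q → ℂ) z = 1 := by
  obtain ⟨f, hf, hqf⟩ := hC.exists_qq_pow
  have hvf : Nat.card (vGrp G a t) ∣ f := by
    have h := hC.relIndex_dvd hqf
    rwa [wGrp_eq_bot hC hab h2, Subgroup.relIndex_bot_left] at h
  obtain ⟨hA, hB, hCn, hE⟩ := small_numeric hqf hf hvf hC.odd_vGrp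
  have hD : Nat.card (twoPt G a t) = (qq G a - 1) * Nat.card (vGrp G a t) := card_D hC
  have hodd : Odd (Nat.card (twoPt G a t)) := hC.setup.odd_card
  have hv : 0 < Nat.card (vGrp G a t) := Nat.card_pos
  have hq := hC.four_le_qq
  have hD0 : 0 < Nat.card (twoPt G a t) := Nat.card_pos
  have hq1 : qq G a ≤ qq G a ^ (i + 1) := Nat.le_self_pow (by omega) _
  have hq3 : qq G a ^ 3 ≤ qq G a ^ (i + 3) := Nat.pow_le_pow_right (by omega) (by omega)
  -- the bounds on fixed points
  have hcube : ∀ d : ↥(twoPt G a t), d ≠ 1 →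
      Nat.card (zGrp G a ⊓ centralizer {(d : G)} : Subgroup G) ^ 3 ≤ qq G a := fun d hd =>
    cent_cube hC hab h2 d.2 fun e => hd (Subtype.ext e)
  have hle : ∀ d : ↥(twoPt G a t),
      Nat.card (zGrp G a ⊓ centralizer {(d : G)} : Subgroup G) ≤ qq G a := fun d =>
    Nat.le_of_dvd Nat.card_pos (card_dvd_of_le inf_le_left)
  have hexp := exponent_le hC hab h2 (i + 3) le_rfl (fun k hk x hx =>
    conj_mem_Q hC.setup (twoPt_le (Ctx.kGrp_le G a t hk)) hx) hQ
  have hfixQ := two_mul_fixSet (frame hC).norm hodd (k := 1) (g := qq G a ^ (i + 1)) fun d hd => by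
    rw [one_mul]
    refine (card_fix_le hC hab (frame hC).norm le_rfl hexp d).trans ?_
    rw [pow_add, mul_comm, pow_add (qq G a), mul_comm (qq G a ^ i), pow_one]
    exact Nat.mul_le_mul (hcube d hd) (Nat.pow_le_pow_left (hle d) i)
  have hcommQ : ∀ x y : ↥Q, x * y = y * x := fun x y => mul_comm' x y
  have htot := card_le_sum (frame hC).norm hcommQ
  have hreal := real_le hC hab (R := Q) le_rfl
  rw [one_mul] at hfixQ
  have hfix4 : 4 * (fixSet (frame hC).norm).card ≤ qq G a ^ (i + 3) := by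
    have h1 : (Nat.card (twoPt G a t) - 1) * qq G a ^ (i + 1) ≤
        qq G a * Nat.card (vGrp G a t) * qq G a ^ (i + 1) :=
      Nat.mul_le_mul_right _ (le_trans (Nat.sub_le _ _)
        (hD ▸ Nat.mul_le_mul_right _ (Nat.sub_le _ _)))
    calc 4 * (fixSet (frame hC).norm).card = 2 * (2 * (fixSet (frame hC).norm).card) := by ring
      _ ≤ 2 * (qq G a * Nat.card (vGrp G a t) * qq G a ^ (i + 1)) :=
          Nat.mul_le_mul_left 2 (hfixQ.trans h1)
      _ = (2 * Nat.card (vGrp G a t)) * (qq G a * qq G a ^ (i + 1)) := by ring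
      _ ≤ qq G a * (qq G a * qq G a ^ (i + 1)) := Nat.mul_le_mul_right _ hE
      _ = _ := by ring
  have hn4 : 4 * qq G a ^ (i + 2) ≤ qq G a ^ (i + 3) := by
    rw [pow_succ' _ (i + 2)]; exact Nat.mul_le_mul_right _ hq
  rw [hQ] at htot
  have hCn' : 2 * ((Nat.card (vGrp G a t) + 4) * Nat.card (twoPt G a t) + qq G a) < qq G a ^ 3 := by
    rw [hD]; exact hCn
  refine ⟨by omega, by omega, by rw [hQ, hD]; omega, ?_⟩
  -- a character trivial on `Z`
  set R : Subgroup G := (sqHom hab (le_refl Q)).range with hRdef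
  have hRQ : R ≤ Q := range_sq_le hab le_rfl
  have hnR : NormBy (twoPt G a t) R := fun d hd x hx =>
    range_invariant hab le_rfl (fun y hy => conj_mem_Q hC.setup (twoPt_le hd) hy) x hx
  have hQne : Q ≠ ⊥ := fun e => by
    rw [e, Subgroup.card_bot] at hQ
    have := Nat.one_lt_pow (n := i + 3) (by omega) (show 1 < qq G a by omega)
    omega
  have hRc : Nat.card R = qq G a ^ (i + 2) := by
    have h := card_sq_invariant hC hab h2 le_rfl (fun k hk x hx =>
      conj_mem_Q hC.setup (twoPt_le (Ctx.kGrp_le G a t hk)) hx) hQne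
    rw [hQ, pow_succ', Nat.mul_left_cancel_iff (by omega)] at h
    exact h.symm
  have hexpR := exponent_le hC hab h2 (i + 2) hRQ
    (fun k hk x hx => hnR k (Ctx.kGrp_le G a t hk) x hx) hRc
  have hfixR := two_mul_fixSet hnR hodd (k := Nat.card (vGrp G a t)) (g := 2 * qq G a ^ (i + 1))
    fun d hd => by
    refine (Nat.mul_le_mul_left _ (card_fix_le hC hab hnR hRQ hexpR d)).trans ?_
    set c := Nat.card (zGrp G a ⊓ centralizer {(d : G)} : Subgroup G)
    have h1 : (Nat.card (vGrp G a t) * c ^ 2) ^ 3 ≤ (2 * qq G a) ^ 3 := by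
      calc (Nat.card (vGrp G a t) * c ^ 2) ^ 3 = Nat.card (vGrp G a t) ^ 3 * (c ^ 3) ^ 2 := by ring
        _ ≤ (8 * qq G a) * qq G a ^ 2 :=
          Nat.mul_le_mul hA.le (Nat.pow_le_pow_left (hcube d hd) 2)
        _ = _ := by ring
    calc Nat.card (vGrp G a t) * c ^ (i + 2) = (Nat.card (vGrp G a t) * c ^ 2) * c ^ i := by ring
      _ ≤ (2 * qq G a) * qq G a ^ i :=
          Nat.mul_le_mul ((Nat.pow_le_pow_iff_left (by norm_num)).1 h1)
            (Nat.pow_le_pow_left (hle d) i)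
      _ = _ := by ring
  have hfixR' : (fixSet hnR).card < (qq G a - 1) * qq G a ^ (i + 1) := by
    refine Nat.lt_of_mul_lt_mul_left (a := 2 * Nat.card (vGrp G a t)) ?_
    calc 2 * Nat.card (vGrp G a t) * (fixSet hnR).card
        = Nat.card (vGrp G a t) * (2 * (fixSet hnR).card) := by ring
      _ ≤ _ := hfixR
      _ < Nat.card (twoPt G a t) * (2 * qq G a ^ (i + 1)) :=
          Nat.mul_lt_mul_of_pos_right (by omega) (by omega)
      _ = _ := by rw [hD]; ring
  have hrealR := real_le hC hab hRQ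
  have htotR := card_le_sum hnR fun x y : ↥R => Subtype.ext (comm_Q hab (hRQ x.2) (hRQ y.2)).eq
  have hq2 : (qq G a - 1) * qq G a ^ (i + 1) + qq G a ^ (i + 1) = qq G a ^ (i + 2) := by
    rw [← Nat.succ_mul, pow_succ' (qq G a) (i + 1)]
    congr 1
    omega
  rw [hRc] at htotR
  obtain ⟨ψ, hψ⟩ := Finset.card_pos.1 (show 0 < (freeSet hnR).card by omega)
  obtain ⟨hψ1, hψ2⟩ := (mem_freeSet hnR).1 hψ
  have hψd : cdeg ψ = 1 :=
    cdeg_one_of_comm (fun x y : ↥R => Subtype.ext (comm_Q hab (hRQ x.2) (hRQ y.2)).eq) ψ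
  let π : ↥Q →* ↥R := (sqHom hab (le_refl Q)).rangeRestrict
  have hπ : Function.Surjective π := (sqHom hab (le_refl Q)).rangeRestrict_surjective
  let θ : IrrCharacter ↥Q :=
    ⟨_, Char.isIrr_mul_hom Char.isIrrCharacter_one ((linHom ψ hψd).comp π)⟩
  have hθ : ∀ x, (θ : ↥Q → ℂ) x = (ψ : ↥R → ℂ) (π x) := fun x => by
    show 1 * ((linHom ψ hψd (π x) : ℂˣ) : ℂ) = _
    rw [one_mul, linHom_apply]
  refine ⟨θ, (mem_freeSet _).2 ⟨fun d hd => hψ1 d (Subtype.ext (funext fun y => ?_)), fun e => hψ2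
    (Subtype.ext (funext fun y => ?_))⟩, fun z hz => ?_⟩
  · obtain ⟨x, rfl⟩ := hπ y
    have h := congrFun (congrArg Subtype.val hd) x
    rw [actC_apply, hθ, hθ] at h
    rw [actC_apply]
    refine Eq.trans (congrArg _ (Subtype.ext ?_)) h
    show ((cjHom hnR d⁻¹ (π x) : ↥R) : G) =
      ((cjHom (frame hC).norm d⁻¹ x : ↥Q) : G) * (cjHom (frame hC).norm d⁻¹ x : ↥Q)
    rw [cjHom_coe, cjHom_coe]
    show _ * ((x : G) * x) * _ = _
    group
  · obtain ⟨x, rfl⟩ := hπ y
    have h := congrFun (congrArg Subtype.val e) x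
    rw [Char.conjIrr_apply, hθ] at h
    rw [Char.conjIrr_apply]
    exact h
  · rw [hθ, show π z = 1 from Subtype.ext (hC.zGrp_sq hz), (cdeg_spec ψ).2, hψd, Nat.cast_one]

set_option maxHeartbeats 4000000 in
/-- `|Q| ≥ q³` is impossible. -/
theorem false_of_big (h2 : IsPGroup 2 Q) {i : ℕ} (hQ : Nat.card Q = qq G a ^ (i + 3)) : False := by
  obtain ⟨hcM, hcW, hcn, θ₀, hθ₀, hθ₀Z⟩ := count_facts hC hab h2 hQ
  have hc := dec_self hC h2
  set hT := freeFam hC
  set T := freeSet (frame hC).norm with hTdef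
  have hcommQ : ∀ x y : ↥Q, x * y = y * x := fun x y => mul_comm' x y
  have hdeg : ∀ θ : IrrCharacter ↥Q, cdeg θ = 1 := cdeg_one_of_comm hcommQ
  have hf : ∀ l : Idx T, hT.rows.f l = 1 := fun l => by rw [hT.rows_f, hdeg]
  have hWcard : hT.W = (Fintype.card (Idx T) : ℤ) := by
    simp [Fam.W, weight, hf]
  have hTW : hT.W * (Nat.card (twoPt G a t) : ℤ) = (T.card : ℤ) := by
    rw [hT.W_eq, Finset.card_eq_sum_ones]
    simp [hdeg]
  set v := Nat.card (vGrp G a t)
  have hvW : (v : ℤ) + 4 < hT.W := by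
    refine lt_of_mul_lt_mul_right ?_ (Int.natCast_nonneg (Nat.card (twoPt G a t)))
    rw [hTW]
    exact_mod_cast hcW
  obtain ⟨P⟩ : Nonempty (Part hT.rows Finset.univ) := by
    refine exists_part hT.rows ?_ fun l hl => absurd (hf l) (by omega)
    rw [show linJ hT.rows = Finset.univ from Finset.eq_univ_of_forall fun l => mem_linJ.2 (hf l),
      Finset.card_univ]
    omega
  set one := oneChr ↥Q
  have hone : one ∉ T := fun h => ((mem_freeSet _).1 h).2
    (Subtype.ext (funext fun _ => by simp [one, oneChr]))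
  set i₀ : Idx T := idx θ₀ hθ₀
  -- the coefficients
  have hstab : ∀ θ : IrrCharacter ↥Q, θ ≠ one →
      Nat.card {d : ↥(twoPt G a t) // actC (frame hC).norm d θ = θ} ≤ v := by
    intro θ hθ
    refine Nat.card_le_card_of_injective _ (show Function.Injective
      ((vPart hC).comp (stabC (frame hC).norm θ).subtype) from (injective_iff_map_eq_one _).2
        fun d hd => by_contra fun hd1 => ?_)
    obtain ⟨k, hk, e⟩ := exists_eq_vPart hC d.1
    rw [show vPart hC d.1 = 1 from hd, OneMemClass.coe_one, mul_one] at e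
    obtain ⟨x, hx1, hx⟩ := exists_cent_of_fixed (frame hC).norm ((mem_stabC _).1 d.2)
      fun h => hθ (Subtype.ext h)
    refine hx1 (Subtype.ext (hC.kGrp_fpf hk (fun h => hd1 (Subtype.ext (Subtype.ext (e.trans h))))
      x.2 (e ▸ mul_inv_eq_iff_eq_mul.1 (congrArg Subtype.val hx))))
  have hcoef : ∀ θ : IrrCharacter ↥Q, θ ≠ one →
      hT.coef P θ = P.x * hT.W + if θ ∈ T then P.ε else 0 := by
    intro θ hθ
    by_cases hm : θ ∈ T
    · rw [if_pos hm, hT.coef_mem P hm, hdeg, Nat.cast_one, mul_one, mul_one]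
    rw [if_neg hm, add_zero]
    have hs := hstab θ hθ
    by_cases hr : Char.conjIrr θ = θ
    · refine hT.coef_of_prop P fun l => ?_
      have haa : ip (mv θ) (mv θ) =
          (Nat.card {d : ↥(twoPt G a t) // actC (frame hC).norm d θ = θ} : ℤ) + hT.rows.k := by
        rw [ip_mv, (frame hC).gram, hdeg]
        simp only [Fam.rows]; push_cast; ring
      exact own_real P (mv θ) (Nat.card {d : ↥(twoPt G a t) // actC (frame hC).norm d θ = θ})
        (Finset.mem_univ i₀) (hf i₀) (fun j _ => by rw [hT.ip_rep θ hm j, hdeg]; push_cast; ring) haa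
        (by
          show ip (mv θ) (mv θ ∘ conjPerm) = _
          rw [← mv_conj', hr]
          exact haa)
        (Int.natCast_nonneg _) (by
          have := (Nat.cast_le (α := ℤ)).2 hs
          linarith) (Finset.mem_univ l)
    · have hnr : ∀ d, actC (frame hC).norm d θ ≠ Char.conjIrr θ := fun d e => by
        have h3 : actC (frame hC).norm (d * d) θ = θ := by
          rw [actC_mul, e, actC_conjIrr, e, Char.conjIrr_conjIrr]
        obtain ⟨j, hj⟩ :=
          hC.setup.odd_card.of_dvd_nat (orderOf_dvd_natCard (G := ↥(twoPt G a t)) d)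
        have h4 : d ∈ stabC (frame hC).norm θ := by
          have h5 : d = (d * d) ^ (j + 1) := by
            rw [← pow_two, ← pow_mul, show 2 * (j + 1) = orderOf d + 1 by omega, pow_succ,
              pow_orderOf_eq_one, one_mul]
          rw [h5]
          exact pow_mem ((mem_stabC _).2 h3) _
        exact hr (e.symm.trans ((mem_stabC _).1 h4))
      rw [hT.coef_own P hm hnr (hf i₀) ?_, hdeg, Nat.cast_one, mul_one]
      have := (Nat.cast_le (α := ℤ)).2 hs
      rw [hdeg]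
      push_cast
      linarith
  set c₀ : ℤ := hT.coef P one - P.x * hT.W
  -- the residual function
  let cf : IrrCharacter ↥Q → ℤ := fun θ =>
    (if θ = one then c₀ else 0) + if θ ∈ T then P.ε else 0
  let g : ↥Q → ℂ := ∑ θ : IrrCharacter ↥Q, (cf θ : ℂ) • (θ : ↥Q → ℂ)
  have hg : ∀ x : ↥Q, g x = (c₀ : ℂ) + (P.ε : ℂ) * ∑ θ ∈ T, (θ : ↥Q → ℂ) x := by
    intro x
    simp only [g, cf, Finset.sum_apply, Pi.smul_apply, smul_eq_mul, Int.cast_add, add_mul,
      Finset.sum_add_distrib, apply_ite (Int.cast : ℤ → ℂ), Int.cast_zero, ite_mul, zero_mul,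
      Finset.sum_ite_eq', Finset.mem_univ, if_true, Finset.sum_ite_mem, Finset.univ_inter,
      Finset.mul_sum]
    simp [one, oneChr]
  have hRf : ∀ x : ↥Q, x ≠ 1 → hT.Rf P x = g x := by
    intro x hx
    rw [hT.Rf_res]
    have e : ∀ θ : IrrCharacter ↥Q, hT.coef P θ = P.x * hT.W + cf θ := by
      intro θ
      by_cases h : θ = one
      · rw [h]
        simp [cf, c₀, hone]
      · simp only [cf, if_neg h, zero_add]
        exact hcoef θ h
    have hreg := Char.regular_eq_sum x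
    simp only [(cdeg_spec _).2, hdeg, Nat.cast_one, one_mul, if_neg hx] at hreg
    simp only [e, Int.cast_add, add_mul, Finset.sum_add_distrib, ← Finset.mul_sum, hreg, mul_zero,
      zero_add, g, Finset.sum_apply, Pi.smul_apply, smul_eq_mul]
  -- the value at an involution
  obtain ⟨s, r, hsr⟩ := hC.exists_link
  have hsZ : s ∈ zSharp G a := mem_zSharp.2 ⟨subset_closure hsr.1, hsr.1.2.1⟩
  have hs2 : s * s = 1 := hsr.1.2.2
  have hsQ : s ∈ Q := hC.zGrp_le (mem_zSharp.1 hsZ).1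
  have hchr : ∀ θ : IrrCharacter ↥Q, hc.dec.chr θ (oneChr ↥(⊥ : Subgroup G)) = θ := fun θ =>
    Subtype.ext (funext fun x => by
      have e : hc.dec.equiv x = (x, 1) := by
        rw [← hc.dec.equiv_mul x 1]
        exact congrArg _ (Subtype.ext (mul_one _).symm)
      rw [Dec.chr_apply, e]
      simp [oneChr])
  have hzsum : ∀ θ : IrrCharacter ↥Q, ∑ z ∈ zSharp G a, extendByZero Q (θ : ↥Q → ℂ) z =
      (((qq G a : ℤ) * omInd hc.pair θ - 1 : ℤ) : ℂ) := fun θ => by
    have h := hc.zsum_chr θ (μ := oneChr ↥(⊥ : Subgroup G)) (cdeg_oneChr _)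
    rw [hchr, hdeg, Nat.cast_one, one_mul] at h
    exact h
  have hind : ∀ θ : IrrCharacter ↥Q, indFun Q (θ : ↥Q → ℂ) s =
      (((v : ℤ) * ((qq G a : ℤ) * omInd hc.pair θ - 1) : ℤ) : ℂ) := fun θ => by
    rw [hc.ind_at_invol θ hsZ, hzsum]
    push_cast; ring
  have hom₀ : omInd hc.pair θ₀ = 1 := if_pos (funext fun z => by
    have h := apply_om hc.pair θ₀ z
    rw [hdeg, Nat.cast_one, one_mul] at h
    rw [← h]
    exact hθ₀Z _ z.2)
  obtain ⟨θ₁, hθ₁, hom₁⟩ : ∃ θ ∈ T, omInd hc.pair θ = 0 := by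
    by_contra hall
    push Not at hall
    have hM : Nat.card Q = qq G a ^ (i + 2) * qq G a := by rw [hQ, pow_succ]
    have hsub : T ⊆ linTriv hc.pair := fun θ hθ => (mem_linTriv hc.pair).2 (by
      by_contra h
      exact hall θ hθ (if_neg h))
    have := Finset.card_le_card hsub
    rw [card_linTriv hC hc.dec hc.pair hM] at this
    omega
  set i₁ : Idx T := idx θ₁ hθ₁
  have hmv₀ : mv (rep i₀) = mv θ₀ := mv_rep i₀
  have hmv₁ : mv (rep i₁) = mv θ₁ := mv_rep i₁
  set y : Idx T → ℤ := fun l => iVal (P.e l) hs2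
  have hrow : ∀ l : Idx T, P.ε * (y l - y i₀) =
      (v : ℤ) * ((qq G a : ℤ) * omInd hc.pair (rep l) - 1) - (v : ℤ) * ((qq G a : ℤ) - 1) := by
    intro l
    have h := hT.diff P l i₀ (hf i₀) (fun χ => (χ : G → ℂ) s)
    simp only [hf, Nat.cast_one, one_mul, sub_mul, Finset.sum_sub_distrib, hmv₀] at h
    rw [← ind_apply_sum, ← ind_apply_sum, hind, hind, hom₀, mul_one, iVal_spec _ hs2,
      iVal_spec _ hs2] at h
    exact_mod_cast h.symm
  set δ : ℤ := P.ε * y i₀ - (v : ℤ) * ((qq G a : ℤ) - 1) with hδdef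
  have hsQ1 : (⟨s, hsQ⟩ : ↥Q) ≠ 1 := fun e => hsr.1.2.1 (congrArg Subtype.val e)
  have hcW0 : c₀ = P.ε * hT.W * δ := by
    have h1 : hT.Rf P s = ((∑ l, y l : ℤ) : ℂ) := by
      simp only [Fam.Rf, hf, Nat.cast_one, one_mul, Int.cast_sum, y, iVal_spec _ hs2]
    have h2' : ∑ θ ∈ T, (θ : ↥Q → ℂ) ⟨s, hsQ⟩ =
        ((∑ l : Idx T, (v : ℤ) * ((qq G a : ℤ) * omInd hc.pair (rep l) - 1) : ℤ) : ℂ) := by
      have h := hT.sum_apply hsQ1
      simp only [hdeg, hf, Nat.cast_one, one_mul] at h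
      rw [h, Int.cast_sum]
      exact Finset.sum_congr rfl fun l _ => hind (rep l)
    have h3 := hRf ⟨s, hsQ⟩ hsQ1
    rw [hg, h2'] at h3
    rw [show ((⟨s, hsQ⟩ : ↥Q) : G) = s from rfl, h1] at h3
    have h4 : (∑ l, y l) = c₀ + P.ε * ∑ l : Idx T, (v : ℤ) * ((qq G a : ℤ) * omInd hc.pair (rep l) - 1) := by
      exact_mod_cast h3
    rw [hWcard]
    have h5 : ∑ l : Idx T, (y l - P.ε * ((v : ℤ) * ((qq G a : ℤ) * omInd hc.pair (rep l) - 1))) =
        (Fintype.card (Idx T) : ℤ) * (P.ε * δ) := by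
      rw [Finset.sum_congr rfl fun l _ => show _ = P.ε * δ by
        simp only [δ]
        linear_combination P.ε * hrow l - y l * P.εε]
      simp
    rw [Finset.sum_sub_distrib, ← Finset.mul_sum, h4] at h5
    linear_combination h5
  -- the norm on the nontrivial elements of `Q`
  have hεT : (c₀ + P.ε * T.card) ^ 2 ≥ (Nat.card Q : ℤ) * c₀ ^ 2 := by
    have hcls : IsClassFunction G (hT.Rf P) := fun g' x => by
      simp only [Fam.Rf]
      exact Finset.sum_congr rfl fun l _ => by rw [Char.isClassFunction_of_isIrr (P.e l).2 g' x]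
    have hle := sum_conjugates_le hC
      (U := ((Finset.univ : Finset ↥Q).erase 1).image (fun x : ↥Q => (x : G))) (fun x hx => by
        obtain ⟨w, hw, rfl⟩ := Finset.mem_image.1 hx
        exact ⟨smul_a_of_mem_Q hC.setup w.2, fun c h => fixes_only hC.setup w.2
          (fun e => (Finset.mem_erase.1 hw).1 (Subtype.ext e)) h⟩)
      (fun g' => Complex.normSq (hT.Rf P g')) (fun _ => Complex.normSq_nonneg _)
      (fun g' x => by rw [hcls x g'])
    have hG : ∑ g' : G, Complex.normSq (hT.Rf P g') = (Nat.card G : ℝ) * (hT.W : ℝ) := by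
      have h := hT.norm_Rf P
      simp only [Complex.mul_conj] at h
      exact_mod_cast h
    rw [hG, Finset.sum_image fun x _ z _ e => Subtype.ext e,
      Finset.sum_congr rfl fun x hx => by rw [hRf x (Finset.mem_erase.1 hx).1],
      Finset.sum_erase_eq_sub (Finset.mem_univ _)] at hle
    have hnorm : ∑ x : ↥Q, Complex.normSq (g x) =
        (Nat.card Q : ℝ) * ((c₀ : ℝ) ^ 2 + T.card) := by
      have h : classInner g g = ((c₀ ^ 2 + T.card : ℤ) : ℂ) := by
        simp only [g, Char.classInner_sum_left, Char.classInner_smul_left,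
          Char.classInner_sum_right, Char.classInner_smul_right, Char.classInner_irrChar,
          map_intCast, mul_ite, mul_one, mul_zero, Finset.sum_ite_eq, Finset.sum_ite_eq',
          Finset.mem_univ, if_true]
        have e : ∀ θ : IrrCharacter ↥Q, cf θ * cf θ =
            (if θ = one then c₀ ^ 2 else 0) + if θ ∈ T then 1 else 0 := by
          intro θ
          by_cases h1 : θ = one
          · subst h1; simp [cf, hone, pow_two]
          · simp only [cf, if_neg h1, zero_add]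
            split_ifs
            · exact P.εε
            · simp
        have e' : ∑ θ : IrrCharacter ↥Q, cf θ * cf θ = c₀ ^ 2 + T.card := by
          simp [e, Finset.sum_add_distrib]
        exact_mod_cast e'
      rw [classInner, inv_mul_eq_iff_eq_mul₀ (Nat.cast_ne_zero.2 Nat.card_pos.ne')] at h
      simp only [Complex.mul_conj] at h
      exact_mod_cast h
    have hg1 : g 1 = ((c₀ + P.ε * T.card : ℤ) : ℂ) := by
      rw [hg]
      simp [(cdeg_spec _).2, hdeg]
    rw [hnorm, hg1, ← Complex.ofReal_intCast, Complex.normSq_ofReal] at hle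
    have hn : (0 : ℝ) < (Nat.card Q : ℝ) + 1 := by positivity
    have hTW' : (hT.W : ℝ) * (Nat.card (twoPt G a t) : ℝ) = (T.card : ℝ) := by exact_mod_cast hTW
    have hGc : (Nat.card G : ℝ) =
        (Nat.card Q : ℝ) * Nat.card (twoPt G a t) * ((Nat.card Q : ℝ) + 1) := by
      exact_mod_cast card_group hC.setup
    rw [hGc] at hle
    have hle' := le_of_mul_le_mul_left (hle.trans_eq (show
      (Nat.card Q : ℝ) * Nat.card (twoPt G a t) * ((Nat.card Q : ℝ) + 1) * (hT.W : ℝ) =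
        ((Nat.card Q : ℝ) + 1) * ((Nat.card Q : ℝ) * T.card) by rw [← hTW']; ring)) hn
    have h6 : (Nat.card Q : ℝ) * (c₀ : ℝ) ^ 2 ≤ ((c₀ + P.ε * T.card : ℤ) : ℝ) ^ 2 := by
      rw [pow_two ((c₀ + P.ε * T.card : ℤ) : ℝ)]
      linarith
    exact_mod_cast h6
  have hWpos : 0 < hT.W := by linarith
  have hδ0 : δ = 0 := by
    by_contra hne
    set D := (Nat.card (twoPt G a t) : ℤ)
    have h1 : (Nat.card Q : ℤ) * δ ^ 2 ≤ (δ + D) ^ 2 := by
      refine le_of_mul_le_mul_left ?_ (show (0 : ℤ) < (P.ε * hT.W) ^ 2 by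
        rw [mul_pow, pow_two P.ε, P.εε, one_mul]; positivity)
      rw [hcW0, ← hTW] at hεT
      rw [← mul_pow]
      refine le_trans (le_of_eq ?_) (hεT.trans (le_of_eq ?_)) <;> ring
    have hd1 : 1 ≤ δ ^ 2 := by
      have := mul_self_pos.2 hne
      nlinarith
    have h2' : (δ + D) ^ 2 ≤ δ ^ 2 * (1 + D) ^ 2 := by
      have hab' : δ ≤ δ ^ 2 := by
        rcases le_or_gt δ 0 with h | h <;> nlinarith
      nlinarith [Int.natCast_nonneg (Nat.card (twoPt G a t)), mul_le_mul_of_nonneg_left hd1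
        (sq_nonneg D)]
    have hcn' : (D + 1) ^ 2 < (Nat.card Q : ℤ) := by simp only [D]; exact_mod_cast hcn
    nlinarith [mul_lt_mul_of_pos_right hcn' (show (0 : ℤ) < δ ^ 2 by linarith)]
  -- the pairs of involutions
  have hy0 : y i₀ = P.ε * ((v : ℤ) * ((qq G a : ℤ) - 1)) := by
    linear_combination P.ε * hδdef.symm.trans hδ0 - y i₀ * P.εε
  have hy1 : y i₁ = -(P.ε * (v : ℤ)) := by
    have h := hrow i₁
    have e : (v : ℤ) * ((qq G a : ℤ) * omInd hc.pair (rep i₁) - 1) =
        (v : ℤ) * ((qq G a : ℤ) * omInd hc.pair θ₁ - 1) := by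
      have e1 : indFun Q (rep i₁ : ↥Q → ℂ) s = indFun Q (θ₁ : ↥Q → ℂ) s := by
        rw [ind_eq_sum, ind_eq_sum, hmv₁]
      rw [hind, hind] at e1
      exact_mod_cast e1
    rw [e, hom₁] at h
    linear_combination P.ε * h - (y i₁ - y i₀) * P.εε + hy0
  have hd := hT.diff P i₁ i₀ (hf i₀) (fun χ => ((invols G).card : ℂ) ^ 2 *
    (χ : G → ℂ) s ^ 2 / (χ : G → ℂ) 1)
  simp only [hf, Nat.cast_one, one_mul, sub_mul, Finset.sum_sub_distrib, hmv₀, hmv₁] at hd
  rw [hc.pair_row _ hsZ, hc.pair_row _ hsZ, hzsum, hzsum, hdeg, hdeg, hom₀, hom₁,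
    (cdeg_spec (P.e i₁)).2, (cdeg_spec (P.e i₀)).2, iVal_spec _ hs2, iVal_spec _ hs2,
    show iVal (P.e i₁) hs2 = y i₁ from rfl, show iVal (P.e i₀) hs2 = y i₀ from rfl, hy1, hy0,
    card_invols hC] at hd
  have hdeg1 : (cdeg (P.e i₁) : ℂ) = cdeg (P.e i₀) := by
    have h := hT.deg_e P i₁ (hf i₀)
    rw [hf, Nat.cast_one, one_mul] at h
    exact_mod_cast h
  set d := cdeg (P.e i₀)
  set q := qq G a
  have hq : 4 ≤ q := hC.four_le_qq
  set D := Nat.card (twoPt G a t) with hDdef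
  have hD : D = (q - 1) * v := card_D hC
  rw [hdeg1] at hd
  have hd0 : (d : ℂ) ≠ 0 := Nat.cast_ne_zero.2 (cdeg_spec _).1.ne'
  have hDC : (D : ℂ) = ((q : ℂ) - 1) * v := by
    rw [hD]; push_cast [Nat.cast_sub (show 1 ≤ q by omega)]; ring
  push_cast [Nat.cast_sub (show 1 ≤ q by omega), Nat.cast_sub (show 2 ≤ q by omega)] at hd
  field_simp at hd
  have hne : ((Nat.card Q : ℂ) + 1) * (D : ℂ) * ((q : ℂ) - 2) * q ≠ 0 := by
    refine mul_ne_zero (mul_ne_zero (mul_ne_zero ?_ ?_) ?_) ?_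
    · exact_mod_cast (show Nat.card Q + 1 ≠ 0 by omega)
    · exact_mod_cast (show D ≠ 0 from Nat.card_pos.ne')
    · rw [sub_ne_zero]; exact_mod_cast (show q ≠ 2 by omega)
    · exact_mod_cast (show q ≠ 0 by omega)
  have hkey : (d : ℂ) = (P.ε : ℂ) * (((Nat.card Q : ℂ) + 1) * D) := by
    have hε : (P.ε : ℂ) * P.ε = 1 := by exact_mod_cast P.εε
    refine mul_left_cancel₀ hne ?_
    linear_combination (-((Nat.card Q : ℂ) + 1)) * hd +
      (((Nat.card Q : ℂ) + 1) ^ 2 * q * ((q : ℂ) - 2) * ((q : ℂ) - 1) ^ 2 * (v : ℂ) ^ 2 * P.ε) * hε -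
      (((Nat.card Q : ℂ) + 1) ^ 2 * q * ((q : ℂ) - 2) * P.ε * ((D : ℂ) + ((q : ℂ) - 1) * v)) * hDC
  have hkey' : (d : ℤ) = P.ε * (((Nat.card Q : ℤ) + 1) * D) := by exact_mod_cast hkey
  have hwd := hT.weight_deg P (hf i₀)
  rw [mul_assoc, show ((cdeg (P.e i₀) : ℤ)) * cdeg (P.e i₀) = (((Nat.card Q : ℤ) + 1) * D) ^ 2 by
    rw [show (cdeg (P.e i₀) : ℤ) = _ from hkey']; linear_combination
      (((Nat.card Q : ℤ) + 1) * D) ^ 2 * P.εε, card_group hC.setup] at hwd
  push_cast at hwd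
  rw [← hDdef] at hwd
  have hD1 : (1 : ℤ) ≤ D := by exact_mod_cast (show 1 ≤ D from Nat.card_pos)
  have hn0 : (0 : ℤ) ≤ Nat.card Q := Int.natCast_nonneg _
  have h7 : ((Nat.card Q : ℤ) + 1) * D * (((Nat.card Q : ℤ) + 1) * D * hT.W) ≤
      ((Nat.card Q : ℤ) + 1) * D * Nat.card Q := by linarith
  have h8 := le_of_mul_le_mul_left h7 (by positivity)
  nlinarith [mul_le_mul (show (1 : ℤ) ≤ D from hD1) (show (1 : ℤ) ≤ hT.W by linarith) (by norm_num)
    (by linarith)]

end Cfsg.Agent.RankOneClass.Abelian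

namespace Cfsg.Agent.RankOneClass

open Cfsg.Agent.RankOne

universe u v

theorem abelianStmt (G : Type u) {Ω : Type v} [Group G] [Finite G] [MulAction G Ω] (a : Ω) (t : G)
    (Q : Subgroup G) : AbelianStmt.{u, v} G a t Q := fun hC _ h2 hab => by
  letI := Fintype.ofFinite G
  obtain ⟨j, hj1, hj⟩ := hC.card_Q_pow h2
  rcases Nat.lt_or_ge j 3 with h | h
  · interval_cases j
    · exact Or.inl (by rw [hj, pow_one])
    · exact Or.inr hj
  · obtain ⟨i, rfl⟩ : ∃ i, j = i + 3 := ⟨j - 3, by omega⟩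
    exact (Abelian.false_of_big hC hab h2 hj).elim

end Cfsg.Agent.RankOneClass
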