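import Cfsg.Agent.RankOneClass.BaseCard
import Cfsg.Agent.RankOne.Semilinear

/-!
`Z` is the additive group of a field with `q` elements on which `K` is the multiplicative group and
`V` acts through field automorphisms with kernel `W`.
-/

set_option autoImplicit false

open Subgroup MulAction

namespace Cfsg.Agent.RankOneClass

open Cfsg.Agent.RankOne

universe u v

variable {G : Type u} {Ω : Type v} [Group G] [MulAction G Ω] {a : Ω} {t : G} {Q : Subgroup G}

/-- Field coordinates on `Z` based at the involution `s`. -/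
structure ZField (G : Type u) [Group G] [MulAction G Ω] (a : Ω) (t : G) (s : G) (F : Type)
    [Field F] where
  coord : G → F
  coord_mul : ∀ z ∈ zGrp G a, ∀ z' ∈ zGrp G a, coord (z * z') = coord z + coord z'
  coord_eq_zero : ∀ z ∈ zGrp G a, coord z = 0 → z = 1
  coord_surj : ∀ x : F, ∃ z ∈ zGrp G a, coord z = x
  coord_base : coord s = 1
  mult : G → F
  mult_mul : ∀ k ∈ kGrp G a t, ∀ k' ∈ kGrp G a t, mult (k * k') = mult k * mult k'
  mult_inj : ∀ k ∈ kGrp G a t, ∀ k' ∈ kGrp G a t, mult k = mult k' → k = k'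
  mult_ne : ∀ k ∈ kGrp G a t, mult k ≠ 0
  mult_surj : ∀ x : F, x ≠ 0 → ∃ k ∈ kGrp G a t, mult k = x
  conj_K : ∀ k ∈ kGrp G a t, ∀ z ∈ zGrp G a, coord (k * z * k⁻¹) = mult k * coord z
  aut : G → F ≃+* F
  aut_mul : ∀ v ∈ vGrp G a t, ∀ v' ∈ vGrp G a t, aut (v * v') = aut v * aut v'
  aut_eq_one : ∀ v ∈ vGrp G a t, (aut v = 1 ↔ v ∈ wGrp G a t)
  conj_V : ∀ v ∈ vGrp G a t, ∀ z ∈ zGrp G a, coord (v * z * v⁻¹) = aut v (coord z)
  conj_mult : ∀ v ∈ vGrp G a t, ∀ k ∈ kGrp G a t, mult (v * k * v⁻¹) = aut v (mult k)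

namespace Ctx

/-- `Z` is a field. -/
theorem exists_zField [Finite G] (hC : Ctx G Ω a t Q) {s r : G} (h : IsLink G a t Q s r) :
    ∃ (F : Type) (_ : Field F) (_ : Fintype F),
      Fintype.card F = qq G a ∧ Nonempty (ZField G a t s F) := by
  classical
  haveI : Fact (Nat.Prime 2) := ⟨Nat.prime_two⟩
  obtain ⟨f, hf2, hf⟩ := hC.exists_qq_pow
  have hsZ : s ∈ zGrp G a := subset_closure h.1
  have hs1 : s ≠ 1 := h.1.2.1
  letI : CommGroup (zGrp G a) :=
    { (inferInstance : Group (zGrp G a)) with
      mul_comm := fun x y => Subtype.ext (hC.zGrp_comm x.2 y.2).eq }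
  have hex : ∀ z : G, ∃ k ∈ kGrp G a t, z ∈ zGrp G a → z ≠ 1 → k * s * k⁻¹ = z := fun z => by
    by_cases hz : z ∈ zGrp G a ∧ z ≠ 1
    · obtain ⟨k, hk, e⟩ := hC.exists_kGrp_conj hsZ hs1 hz.1 hz.2
      exact ⟨k, hk, fun _ _ => e⟩
    · exact ⟨1, one_mem _, fun h1 h2 => (hz ⟨h1, h2⟩).elim⟩
  choose κ hκK hκ using hex
  have hκ_eq : ∀ {k z : G}, k ∈ kGrp G a t → k * s * k⁻¹ = z → κ z = k := by
    intro k z hk e
    have hzZ : z ∈ zGrp G a := e ▸ hC.conj_mem_zGrp (twoPt_le (kGrp_le G a t hk)) hsZ
    have hz1 : z ≠ 1 := fun h1 => hs1 (by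
      rw [h1, mul_inv_eq_one, mul_eq_left] at e; exact e)
    exact hC.kGrp_conj_inj (hκK z) hk hsZ hs1 ((hκ z hzZ hz1).trans e.symm)
  set F := Additive (zGrp G a) with hFdef
  let act : G → F → F := fun k x => Additive.ofMul (if hk : k ∈ twoPt G a t then
    ⟨k * x.toMul * k⁻¹, hC.conj_mem_zGrp (twoPt_le hk) x.toMul.2⟩ else 1)
  have act_val : ∀ {k : G}, k ∈ twoPt G a t → ∀ x : F,
      ((act k x).toMul : G) = k * x.toMul * k⁻¹ := by
    intro k hk x
    show ((if hk : k ∈ twoPt G a t then
      (⟨k * x.toMul * k⁻¹, hC.conj_mem_zGrp (twoPt_le hk) x.toMul.2⟩ : zGrp G a) else 1 : zGrp G a) : G) = _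
    rw [dif_pos hk]
  have hval : ∀ x y : F, (x.toMul : G) = (y.toMul : G) → x = y := fun x y e =>
    Additive.toMul.injective (Subtype.ext e)
  have hKD : ∀ x : F, κ (x.toMul : G) ∈ twoPt G a t := fun x => kGrp_le G a t (hκK _)
  let one : F := Additive.ofMul ⟨s, hsZ⟩
  let mul : F → F → F := fun x y => if x = 0 then 0 else act (κ (x.toMul : G)) y
  have ne1 : ∀ {x : F}, x ≠ 0 → (x.toMul : G) ≠ 1 := fun {x} hx e => hx (hval _ _ e)
  have hκs : ∀ {x : F}, x ≠ 0 → κ (x.toMul : G) * s * (κ (x.toMul : G))⁻¹ = x.toMul :=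
    fun {x} hx => hκ _ x.toMul.2 (ne1 hx)
  have act_zero : ∀ {k : G}, k ∈ twoPt G a t → act k 0 = 0 := fun {k} hk => hval _ _ (by
    rw [act_val hk]; show k * 1 * k⁻¹ = 1; simp)
  have act_add : ∀ {k : G}, k ∈ twoPt G a t → ∀ x y : F, act k (x + y) = act k x + act k y :=
    fun {k} hk x y => hval _ _ (by
      show _ = ((act k x).toMul : G) * (act k y).toMul
      rw [act_val hk, act_val hk, act_val hk]
      show k * ((x.toMul : G) * y.toMul) * k⁻¹ = _
      group)
  have act_ne : ∀ {k : G}, k ∈ twoPt G a t → ∀ {x : F}, x ≠ 0 → act k x ≠ 0 := by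
    intro k hk x hx e
    apply ne1 hx
    have e' := act_val hk x
    rw [e] at e'
    have e2 : k * (x.toMul : G) * k⁻¹ = 1 := e'.symm
    rwa [mul_inv_eq_one, mul_eq_left] at e2
  have mul_zero' : ∀ x, mul x 0 = 0 := fun x => by
    by_cases hx : x = 0
    · simp [mul, hx]
    · simp only [mul, if_neg hx]; exact act_zero (hKD x)
  have zero_mul' : ∀ x, mul 0 x = 0 := fun x => by simp [mul]
  have κ_mul : ∀ {x y : F}, x ≠ 0 → y ≠ 0 →
      κ ((mul x y).toMul : G) = κ (x.toMul : G) * κ (y.toMul : G) := by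
    intro x y hx hy
    refine hκ_eq (mul_mem (hκK _) (hκK _)) ?_
    simp only [mul, if_neg hx]
    rw [act_val (hKD x)]
    calc _ = κ (x.toMul : G) * (κ (y.toMul : G) * s * (κ (y.toMul : G))⁻¹) *
          (κ (x.toMul : G))⁻¹ := by group
      _ = _ := by rw [hκs hy]
  have comm' : ∀ x y, mul x y = mul y x := by
    intro x y
    by_cases hx : x = 0
    · rw [hx, zero_mul', mul_zero']
    by_cases hy : y = 0
    · rw [hy, zero_mul', mul_zero']
    simp only [mul, if_neg hx, if_neg hy]
    refine hval _ _ ?_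
    rw [act_val (hKD x), act_val (hKD y)]
    conv_lhs => rw [← hκs hy]
    conv_rhs => rw [← hκs hx]
    calc κ (x.toMul : G) * (κ (y.toMul : G) * s * (κ (y.toMul : G))⁻¹) * (κ (x.toMul : G))⁻¹
        = (κ (x.toMul : G) * κ (y.toMul : G)) * s * (κ (x.toMul : G) * κ (y.toMul : G))⁻¹ := by group
      _ = (κ (y.toMul : G) * κ (x.toMul : G)) * s * (κ (y.toMul : G) * κ (x.toMul : G))⁻¹ := by
          rw [(hC.kGrp_comm (hκK _) (hκK _)).eq]
      _ = _ := by group
  have assoc' : ∀ x y z, mul (mul x y) z = mul x (mul y z) := by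
    intro x y z
    by_cases hx : x = 0
    · simp [hx, zero_mul']
    by_cases hy : y = 0
    · simp [hy, zero_mul', mul_zero']
    have hxy : mul x y ≠ 0 := by simp only [mul, if_neg hx]; exact act_ne (hKD x) hy
    refine hval _ _ ?_
    have e1 : mul (mul x y) z = act (κ ((mul x y).toMul : G)) z := if_neg hxy
    have e2 : mul x (mul y z) = act (κ (x.toMul : G)) (act (κ (y.toMul : G)) z) := by
      simp only [mul, if_neg hx, if_neg hy]
    rw [e1, e2, κ_mul hx hy, act_val (mul_mem (hKD x) (hKD y)), act_val (hKD x), act_val (hKD y)]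
    group
  have ldistrib : ∀ x y z, mul x (y + z) = mul x y + mul x z := by
    intro x y z
    by_cases hx : x = 0
    · simp [mul, hx]
    · simp only [mul, if_neg hx]; exact act_add (hKD x) y z
  have κs : κ (s : G) = 1 := hκ_eq (one_mem _) (by simp)
  have one_ne : one ≠ 0 := fun e => hs1 (congrArg (fun z : F => ((z.toMul : zGrp G a) : G)) e)
  have one_mul' : ∀ x, mul one x = x := fun x => by
    simp only [mul, if_neg one_ne]
    refine hval _ _ ?_
    rw [act_val (hKD one)]
    show κ s * _ * (κ s)⁻¹ = _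
    rw [κs]; simp
  letI instR : CommRing F :=
    { (inferInstance : AddCommGroup F) with
      mul := mul
      one := one
      left_distrib := ldistrib
      right_distrib := fun x y z => by
        show mul (x + y) z = mul x z + mul y z
        rw [comm' (x + y), ldistrib, comm' z x, comm' z y]
      zero_mul := zero_mul'
      mul_zero := mul_zero'
      mul_assoc := assoc'
      one_mul := one_mul'
      mul_one := fun x => (comm' x one).trans (one_mul' x)
      mul_comm := comm' }
  have mul_def : ∀ x y : F, x * y = mul x y := fun _ _ => rfl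
  have hfield : IsField F :=
    { exists_pair_ne := ⟨0, 1, fun e => one_ne e.symm⟩
      mul_comm := comm'
      mul_inv_cancel := by
        intro x hx
        have hk : (κ (x.toMul : G))⁻¹ ∈ twoPt G a t := inv_mem (hKD x)
        refine ⟨act (κ (x.toMul : G))⁻¹ one, hval _ _ ?_⟩
        show ((mul x _).toMul : G) = s
        simp only [mul, if_neg hx]
        rw [act_val (hKD x), act_val hk]
        show _ * (_ * s * _) * _ = s
        group }
  letI : Field F := hfield.toField
  haveI : Finite F := inferInstanceAs (Finite (zGrp G a))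
  haveI := Fintype.ofFinite F
  have hcardF : Fintype.card F = 2 ^ f := by
    rw [← Nat.card_eq_fintype_card, ← hf]; rfl
  let F0 := GaloisField 2 f
  haveI : Finite F0 := Nat.finite_of_card_ne_zero (by
    rw [GaloisField.card 2 f (by omega)]; positivity)
  letI : Fintype F0 := Fintype.ofFinite F0
  have hcard0 : Fintype.card F0 = 2 ^ f := by
    rw [← Nat.card_eq_fintype_card]; exact GaloisField.card 2 f (by omega)
  let e : F ≃+* F0 := FiniteField.ringEquivOfCardEq (hcardF.trans hcard0.symm)
  -- semilinear action of `V`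
  have hvs : ∀ v ∈ vGrp G a t, v * s * v⁻¹ = s := fun v hv => by
    rw [(hC.link_vGrp h hv).1.eq, mul_inv_cancel_right]
  have hact_comp : ∀ {k l : G}, k ∈ twoPt G a t → l ∈ twoPt G a t → ∀ x : F,
      act k (act l x) = act (k * l) x := fun {k l} hk hl x => hval _ _ (by
    rw [act_val hk, act_val hl, act_val (mul_mem hk hl)]; group)
  have hact_one : ∀ x : F, act 1 x = x := fun x => hval _ _ (by
    rw [act_val (one_mem _)]; simp)
  have hVD : ∀ v : vGrp G a t, (v : G) ∈ twoPt G a t := fun v => vGrp_le G a t v.2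
  let σ : vGrp G a t → (F ≃+* F) := fun v =>
    { toFun := act v
      invFun := act (v : G)⁻¹
      left_inv := fun x => by rw [hact_comp (inv_mem (hVD v)) (hVD v), inv_mul_cancel, hact_one]
      right_inv := fun x => by rw [hact_comp (hVD v) (inv_mem (hVD v)), mul_inv_cancel, hact_one]
      map_add' := act_add (hVD v)
      map_mul' := fun x y => by
        show act v (mul x y) = mul (act v x) (act v y)
        by_cases hx : x = 0
        · rw [hx, zero_mul', act_zero (hVD v), zero_mul']
        have hx' : act v x ≠ 0 := act_ne (hVD v) hx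
        simp only [mul, if_neg hx, if_neg hx']
        have hκ' : κ ((act v x).toMul : G) = v * κ (x.toMul : G) * (v : G)⁻¹ := by
          refine hκ_eq (hC.conj_mem_kGrp (hVD v) (hκK _)) ?_
          rw [act_val (hVD v)]
          calc _ = (v : G) * (κ (x.toMul : G) * ((v : G)⁻¹ * s * v) * (κ (x.toMul : G))⁻¹) *
                (v : G)⁻¹ := by group
            _ = _ := by
              rw [show (v : G)⁻¹ * s * v = s by simpa using hvs _ (inv_mem v.2), hκs hx]
        refine hval _ _ ?_
        rw [act_val (hVD v), act_val (hKD x), hκ',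
          act_val (kGrp_le G a t (hC.conj_mem_kGrp (hVD v) (hκK _))), act_val (hVD v)]
        group }
  have hσ : ∀ (v : vGrp G a t) (x : F), σ v x = act v x := fun _ _ => rfl
  let crd : G → F := fun z => if hz : z ∈ zGrp G a then Additive.ofMul ⟨z, hz⟩ else 0
  have crd_val : ∀ {z : G} (hz : z ∈ zGrp G a), ((crd z).toMul : G) = z := fun {z} hz => by
    simp [crd, dif_pos hz]
  have crd_eq : ∀ {z : G}, z ∈ zGrp G a → ∀ {x : F}, (x.toMul : G) = z → crd z = x :=
    fun {z} hz {x} hx => hval _ _ ((crd_val hz).trans hx.symm)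
  let au : G → (F0 ≃+* F0) := fun v => if hv : v ∈ vGrp G a t then
    (e.symm.trans (σ ⟨v, hv⟩)).trans e else 1
  have au_apply : ∀ {v : G} (hv : v ∈ vGrp G a t) (x : F0),
      au v x = e (σ ⟨v, hv⟩ (e.symm x)) := fun {v} hv x => by simp [au, dif_pos hv]
  have hcz : ∀ {k : G}, k ∈ twoPt G a t → ∀ {z : G}, z ∈ zGrp G a →
      crd (k * z * k⁻¹) = act k (crd z) := fun {k} hk {z} hz => by
    refine crd_eq (hC.conj_mem_zGrp (twoPt_le hk) hz) ?_
    rw [act_val hk, crd_val hz]
  have hk_mul : ∀ {k : G}, k ∈ kGrp G a t → ∀ y : F,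
      act k y = crd (k * s * k⁻¹) * y := fun {k} hk y => by
    have hks : k * s * k⁻¹ ∈ zGrp G a := hC.conj_mem_zGrp (twoPt_le (kGrp_le G a t hk)) hsZ
    have hne : crd (k * s * k⁻¹) ≠ 0 := fun e0 => hs1 (by
      have := crd_val hks
      rw [e0] at this
      have e2 : k * s * k⁻¹ = 1 := this.symm
      rwa [mul_inv_eq_one, mul_eq_left] at e2)
    rw [mul_def]
    simp only [mul, if_neg hne]
    rw [crd_val hks, hκ_eq hk rfl]
  refine ⟨F0, inferInstance, inferInstance, hcard0.trans hf.symm, ⟨
    { coord := fun z => e (crd z)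
      coord_mul := fun z hz z' hz' => by
        rw [← map_add]
        refine congrArg e (crd_eq (mul_mem hz hz') ?_)
        show ((crd z).toMul : G) * (crd z').toMul = _
        rw [crd_val hz, crd_val hz']
      coord_eq_zero := fun z hz hz0 => by
        have h0 : crd z = 0 := by simpa using hz0
        have := crd_val hz
        rw [h0] at this
        exact this.symm
      coord_surj := fun x => ⟨((e.symm x).toMul : G), (e.symm x).toMul.2, by
        rw [crd_eq (e.symm x).toMul.2 rfl, e.apply_symm_apply]⟩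
      coord_base := by
        rw [crd_eq hsZ (x := (1 : F)) rfl, map_one]
      mult := fun k => e (crd (k * s * k⁻¹))
      mult_mul := fun k hk k' hk' => by
        rw [← map_mul, ← hk_mul hk,
          ← hcz (kGrp_le G a t hk) (hC.conj_mem_zGrp (twoPt_le (kGrp_le G a t hk')) hsZ)]
        exact congrArg (fun z => e (crd z)) (by group)
      mult_inj := fun k hk k' hk' he => by
        have h1 := congrArg (fun x : F => ((x.toMul : zGrp G a) : G)) (e.injective he)
        simp only [crd_val (hC.conj_mem_zGrp (twoPt_le (kGrp_le G a t hk)) hsZ),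
          crd_val (hC.conj_mem_zGrp (twoPt_le (kGrp_le G a t hk')) hsZ)] at h1
        exact hC.kGrp_conj_inj hk hk' hsZ hs1 h1
      mult_ne := fun k hk h0 => by
        have hks := hC.conj_mem_zGrp (twoPt_le (kGrp_le G a t hk)) hsZ
        have h1 := crd_val hks
        rw [show crd (k * s * k⁻¹) = 0 by simpa using h0] at h1
        have e2 : k * s * k⁻¹ = 1 := h1.symm
        rw [mul_inv_eq_one, mul_eq_left] at e2
        exact hs1 e2
      mult_surj := fun x hx => by
        have hx' : e.symm x ≠ 0 := by simpa using hx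
        exact ⟨κ ((e.symm x).toMul : G), hκK _, by
          rw [hκs hx', crd_eq (e.symm x).toMul.2 rfl, e.apply_symm_apply]⟩
      conj_K := fun k hk z hz => by
        rw [← map_mul, ← hk_mul hk, hcz (kGrp_le G a t hk) hz]
      aut := au
      aut_mul := fun v hv v' hv' => RingEquiv.ext fun x => by
        rw [RingAut.mul_apply, au_apply (mul_mem hv hv'), au_apply hv, au_apply hv',
          e.symm_apply_apply, hσ, hσ, hσ, hact_comp (vGrp_le G a t hv) (vGrp_le G a t hv')]
      aut_eq_one := fun v hv => by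
        constructor
        · intro h1
          refine hC.mem_wGrp.2 ⟨vGrp_le G a t hv, fun z hz => ?_⟩
          have h2 : au v (e (crd z)) = e (crd z) := by rw [h1]; rfl
          rw [au_apply hv, e.symm_apply_apply, e.injective.eq_iff, hσ] at h2
          have h3 := congrArg (fun x : F => ((x.toMul : zGrp G a) : G)) h2
          simp only [act_val (vGrp_le G a t hv), crd_val hz] at h3
          exact mul_inv_eq_iff_eq_mul.1 h3
        · intro hw
          refine RingEquiv.ext fun x => ?_
          rw [au_apply hv, hσ]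
          show e _ = x
          refine (congrArg e (hval _ _ ?_)).trans (e.apply_symm_apply x)
          rw [act_val (vGrp_le G a t hv), ((hC.mem_wGrp.1 hw).2 _ (e.symm x).toMul.2).eq,
            mul_inv_cancel_right]
      conj_V := fun v hv z hz => by
        rw [au_apply hv, e.symm_apply_apply, hσ, hcz (vGrp_le G a t hv) hz]
      conj_mult := fun v hv k hk => by
        rw [au_apply hv, e.symm_apply_apply, hσ,
          ← hcz (vGrp_le G a t hv) (hC.conj_mem_zGrp (twoPt_le (kGrp_le G a t hk)) hsZ)]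
        refine congrArg (fun z => e (crd z)) ?_
        calc v * k * v⁻¹ * s * (v * k * v⁻¹)⁻¹ = v * (k * (v⁻¹ * s * v) * k⁻¹) * v⁻¹ := by group
          _ = v * (k * s * k⁻¹) * v⁻¹ := by
              rw [show v⁻¹ * s * v = s by simpa using hvs _ (inv_mem hv)] }⟩⟩

end Ctx

/-- `V → Aut F` of a field coordinate system. -/
noncomputable def ZField.autHom {s : G} {F : Type} [Field F] (X : ZField G a t s F) :
    vGrp G a t →* (F ≃+* F) :=
  MonoidHom.mk' (fun v => X.aut v) fun v v' => X.aut_mul v v.2 v' v'.2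

namespace Ctx

/-- The fixed field of a field automorphism of order `n` has `r` elements with `r ^ n = q`. -/
theorem card_fixed_pow {F : Type*} [Field F] [Fintype F] (σ : F ≃+* F) :
    Nat.card {x : F // σ x = x} ^ orderOf σ = Fintype.card F := by
  classical
  set H := Subgroup.zpowers σ
  haveI : Finite (F ≃+* F) := Finite.of_injective (fun σ : F ≃+* F => (σ : F → F)) DFunLike.coe_injective
  haveI := Fintype.ofFinite H
  have h1 : {x : F // σ x = x} ≃ FixedPoints.subfield H F :=
    Equiv.subtypeEquivRight fun x => by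
      constructor
      · rintro hx ⟨g, hg⟩
        exact smul_eq_self_of_mem_zpowers hg hx
      · intro hx
        exact hx ⟨σ, mem_zpowers σ⟩
  have h2 := Module.natCard_eq_pow_finrank (K := FixedPoints.subfield H F) (V := F)
  rw [FixedPoints.finrank_eq_card, ← Nat.card_eq_fintype_card (α := H), Nat.card_zpowers,
    ← Nat.card_congr h1, Nat.card_eq_fintype_card (α := F)] at h2
  exact h2.symm

/-- For `v ∈ V` with automorphism of order `n`: `|C_Z(v)| ^ n = q`. -/
theorem card_centralizer_pow [Finite G] (hC : Ctx G Ω a t Q) {s : G} {F : Type} [Field F]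
    [Fintype F] (X : ZField G a t s F) (hF : Fintype.card F = qq G a) {v : G}
    (hv : v ∈ vGrp G a t) :
    Nat.card ↥(zGrp G a ⊓ centralizer {v}) ^ orderOf (X.aut v) = qq G a := by
  have hmap : ∀ z ∈ zGrp G a, (z ∈ centralizer ({v} : Set G) ↔ X.aut v (X.coord z) = X.coord z) := by
    intro z hz
    rw [mem_centralizer_singleton_iff, ← X.conj_V v hv z hz]
    constructor
    · intro e; rw [← e, mul_inv_cancel_right]
    · intro e
      have hz' : v * z * v⁻¹ ∈ zGrp G a := hC.conj_mem_zGrp (twoPt_le (vGrp_le G a t hv)) hz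
      have e0 : X.coord (z * (v * z * v⁻¹)) = 0 := by
        rw [X.coord_mul z hz _ hz', e]
        have h2 : (2 : F) = 0 := by
          haveI : Fact (Nat.Prime 2) := ⟨Nat.prime_two⟩
          obtain ⟨f, hf2, hf⟩ := hC.exists_qq_pow
          have hh : ((2 : F) ^ f) = 0 := by
            have := FiniteField.cast_card_eq_zero F
            rw [hF, hf] at this
            exact_mod_cast this
          exact eq_zero_of_pow_eq_zero hh
        rw [← two_mul, h2, zero_mul]
      have e1 := X.coord_eq_zero _ (mul_mem hz hz') e0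
      have e2 : v * z * v⁻¹ = z := (eq_inv_of_mul_eq_one_right e1).trans (hC.zGrp_inv hz)
      exact (mul_inv_eq_iff_eq_mul.1 e2).symm
  have h : Nat.card ↥(zGrp G a ⊓ centralizer {v}) = Nat.card {x : F // X.aut v x = x} := by
    refine Nat.card_congr (Equiv.ofBijective
      (fun z => ⟨X.coord z.1, (hmap z.1 z.2.1).1 z.2.2⟩) ⟨?_, ?_⟩)
    · rintro ⟨z, hz⟩ ⟨z', hz'⟩ he
      have he' : X.coord z = X.coord z' := congrArg Subtype.val he
      have h0 : X.coord 1 = 0 := by
        have := X.coord_mul 1 (one_mem _) 1 (one_mem _)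
        rw [one_mul] at this
        exact left_eq_add.1 this
      have h1 : X.coord (z * z') = 0 := by
        have hz2 : X.coord (z' * z') = 0 := by rw [hC.zGrp_sq hz'.1, h0]
        rw [X.coord_mul z' hz'.1 z' hz'.1] at hz2
        rw [X.coord_mul z hz.1 z' hz'.1, he', hz2]
      have h2 := X.coord_eq_zero _ (mul_mem hz.1 hz'.1) h1
      exact Subtype.ext ((eq_inv_of_mul_eq_one_left h2).trans (hC.zGrp_inv hz'.1))
    · rintro ⟨x, hx⟩
      obtain ⟨z, hz, rfl⟩ := X.coord_surj x
      exact ⟨⟨z, hz, (hmap z hz).2 hx⟩, rfl⟩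
  rw [h, card_fixed_pow, hF]

/-- `[V : W]` divides `f` where `q = 2^f`. -/
theorem relIndex_dvd [Finite G] (hC : Ctx G Ω a t Q) {f : ℕ} (hf : qq G a = 2 ^ f) :
    (wGrp G a t).relIndex (vGrp G a t) ∣ f := by
  classical
  obtain ⟨s, r, h⟩ := hC.exists_link
  obtain ⟨F, _, _, hF, ⟨X⟩⟩ := hC.exists_zField h
  have hker : X.autHom.ker = (wGrp G a t).subgroupOf (vGrp G a t) := by
    ext v
    rw [MonoidHom.mem_ker, mem_subgroupOf]
    exact X.aut_eq_one v v.2
  haveI : CharP F 2 := charP_of_card_eq_prime_pow (hF.trans hf)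
  letI : Algebra (ZMod 2) F := ZMod.algebra F 2
  haveI : Fact (Nat.Prime 2) := ⟨Nat.prime_two⟩
  have h1 : (wGrp G a t).relIndex (vGrp G a t) = Nat.card X.autHom.range := by
    rw [relIndex, ← hker, Subgroup.index_ker]
  have h2 := card_subgroup_dvd_card X.autHom.range
  rw [← h1, card_ringAut_eq_finrank] at h2
  have h3 := Module.card_eq_pow_finrank (K := ZMod 2) (V := F)
  rw [hF, hf, ZMod.card] at h3
  rwa [← Nat.pow_right_injective le_rfl h3] at h2

/-- `[V : W]` is odd. -/
theorem relIndex_odd [Finite G] (hC : Ctx G Ω a t Q) :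
    Odd ((wGrp G a t).relIndex (vGrp G a t)) :=
  hC.odd_vGrp.of_dvd_nat ((wGrp G a t).subgroupOf (vGrp G a t)).index_dvd_card

end Ctx

end Cfsg.Agent.RankOneClass
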