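import Cfsg.Agent.RankOneClass.UniBound.Three
import Cfsg.Agent.RankOneClass.UniBound.Galois

/-!
Stage D: `W` is large.
-/

set_option autoImplicit false
set_option linter.unusedSectionVars false

open Subgroup MulAction
open scoped Pointwise

namespace Cfsg.Agent.RankOneClass

open Cfsg.Agent.RankOne

universe u v

namespace UniBound

theorem two_pow_gt {f j : ℕ} (hf : 4 ≤ f) (hj : 3 * j ≤ f) : f * (2 ^ j + 1) < 2 ^ f + 1 := by
  obtain ⟨n, hn⟩ : ∃ n, n = f - j - 1 := ⟨_, rfl⟩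
  have key : ∀ n : ℕ, 3 ≤ n → 3 * (n + 1) ≤ 2 * 2 ^ n := by
    intro n hn
    induction n, hn using Nat.le_induction with
    | base => norm_num
    | succ n hn ih => rw [pow_succ]; omega
  have hfn : f ≤ 2 ^ n := by
    rcases Nat.lt_or_ge n 3 with h | h
    · have : n = 2 := by omega
      subst this
      omega
    · have := key n h
      omega
  calc f * (2 ^ j + 1) ≤ 2 ^ n * 2 ^ (j + 1) := Nat.mul_le_mul hfn (by
        have := Nat.one_le_two_pow (n := j); rw [pow_succ]; omega)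
    _ = 2 ^ f := by rw [← pow_add]; congr 1; omega
    _ < _ := Nat.lt_succ_self _

variable {G : Type u} {Ω : Type v} [Group G] [Finite G] [MulAction G Ω] {a : Ω} {t : G}
  {Q : Subgroup G} (hC : Ctx G Ω a t Q) (hL : Lines G a t Q)

include hC hL

theorem kGrp_le_sigGrp : kGrp G a t ≤ sigGrp G a t := by
  intro k hk
  obtain ⟨s, r, h⟩ := hC.exists_link
  rw [← SetLike.mem_coe, hC.coe_sigGrp h (hL.link_mem s r h)]
  exact ⟨1, one_mem _, k, hk, Or.inl (one_mul k).symm⟩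

/-- The conjugate of a torus stabilising the circle lies in `Σ W` up to index dividing `[V : W]`. -/
theorem index_dvd {T : Subgroup G} (φ : T →* MulAction.stabilizer G (line0 G a t)) :
    (((sigW hC hL).subgroupOf (MulAction.stabilizer G (line0 G a t))).comap φ).index ∣
      (wGrp G a t).relIndex (vGrp G a t) := by
  have hle : vGrp G a t ≤ MulAction.stabilizer G (line0 G a t) := fun v hv =>
    twoPt_line0 hC hL (Ctx.vGrp_le G a t hv)
  haveI : ((sigW hC hL).subgroupOf (MulAction.stabilizer G (line0 G a t))).Normal :=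
    ⟨fun x hx g => mem_subgroupOf.2 (conj_sigW hC hL g.2 _ (mem_subgroupOf.1 hx))⟩
  refine ((index_comap _ φ).dvd.trans (relIndex_dvd_index_of_normal _ _)).trans ?_
  obtain ⟨H, hH⟩ : ∃ H, H = (sigW hC hL).subgroupOf (MulAction.stabilizer G (line0 G a t)) := ⟨_, rfl⟩
  haveI : H.Normal := hH ▸ inferInstance
  rw [← hH]
  obtain ⟨ρ, hρ⟩ : ∃ ρ, ρ = (QuotientGroup.mk' H).comp (inclusion hle) := ⟨_, rfl⟩
  have hsurj : Function.Surjective ρ := by
    intro x
    obtain ⟨⟨g, hg⟩, rfl⟩ := QuotientGroup.mk'_surjective H x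
    obtain ⟨σ, hσ, hd⟩ := exists_sig_twoPt hC hL hg
    obtain ⟨k, hk, v, hv, e⟩ := hC.exists_kv hd
    refine ⟨⟨v, hv⟩, ?_⟩
    rw [hρ, MonoidHom.comp_apply, QuotientGroup.mk'_apply, QuotientGroup.mk'_apply,
      QuotientGroup.eq_iff_div_mem, hH, mem_subgroupOf]
    refine sig_le_sigW hC hL ?_
    rw [Subgroup.coe_div, div_eq_mul_inv]
    show v * g⁻¹ ∈ sigGrp G a t
    rw [show v * g⁻¹ = k⁻¹ * (σ * g) * g⁻¹ by rw [e]; group]
    rw [mul_assoc, mul_inv_cancel_right]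
    exact mul_mem (inv_mem (kGrp_le_sigGrp hC hL hk)) hσ
  have h1 : H.index = ρ.ker.index := by
    rw [index_ker, MonoidHom.range_eq_top.2 hsurj, Subgroup.card_top]
    rfl
  rw [h1, relIndex]
  refine index_dvd_of_le fun w hw => ?_
  rw [MonoidHom.mem_ker, hρ, MonoidHom.comp_apply, QuotientGroup.mk'_apply, QuotientGroup.eq_one_iff,
    hH, mem_subgroupOf]
  exact wGrp_le_sigW hC hL (mem_subgroupOf.1 hw)

/-- For `q ≠ 8` the conjugate of a torus stabilising the circle lies in `Σ W`. -/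
theorem conj_torus_sigW (hq : qq G a ≠ 8) {T : Subgroup G} (hT : T ≤ sigGrp G a t) (hcyc : IsCyclic T)
    (hcard : Nat.card T = qq G a + 1) {g : G}
    (hst : ∀ τ ∈ T, (g⁻¹ * τ * g) • line0 G a t = line0 G a t) :
    ∀ τ ∈ T, g⁻¹ * τ * g ∈ sigW hC hL := by
  haveI := finite_points hC.setup
  obtain ⟨f, hf2, hf⟩ := hC.exists_qq_pow
  letI := hcyc.commGroup
  obtain ⟨φ, hφ⟩ : ∃ φ : T →* MulAction.stabilizer G (line0 G a t),
      ∀ τ, (φ τ : G) = g⁻¹ * τ * g :=
    ⟨MonoidHom.mk' (fun τ => ⟨g⁻¹ * τ * g, hst τ τ.2⟩) fun x y => Subtype.ext (by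
      show g⁻¹ * ((x : G) * y) * g = g⁻¹ * x * g * (g⁻¹ * y * g)
      group), fun _ => rfl⟩
  obtain ⟨R, hR⟩ : ∃ R,
      R = ((sigW hC hL).subgroupOf (MulAction.stabilizer G (line0 G a t))).comap φ := ⟨_, rfl⟩
  have hmem : ∀ τ : T, τ ∈ R ↔ g⁻¹ * τ * g ∈ sigW hC hL := fun τ => by
    rw [hR, mem_comap, mem_subgroupOf, hφ]
  have hdW : R.index ∣ (wGrp G a t).relIndex (vGrp G a t) := hR ▸ index_dvd hC hL φ
  have hdf := hdW.trans (hC.relIndex_dvd hf)
  obtain ⟨e, he⟩ := hC.relIndex_odd.of_dvd_nat hdW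
  rcases Nat.eq_zero_or_pos e with rfl | he0
  · have htop : R = ⊤ := index_eq_one.1 (by omega)
    exact fun τ hτ => (hmem ⟨τ, hτ⟩).1 (htop ▸ mem_top _)
  exfalso
  have hd3 : 3 ≤ R.index := by omega
  have hdle := Nat.le_of_dvd (by omega) hdf
  have hf4 : 4 ≤ f := by
    rcases Nat.lt_or_ge f 4 with h | h
    · obtain rfl : f = 3 := by omega
      exact absurd hf (by simpa using hq)
    · exact h
  obtain ⟨τ0, hτ0⟩ := hcyc.exists_generator
  have hord0 : orderOf τ0 = qq G a + 1 := by rw [← hcard, orderOf_eq_card_of_forall_mem_zpowers hτ0]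
  have hnot : g⁻¹ * τ0 * g ∉ sigW hC hL := fun h => by
    have htop : R = ⊤ := (eq_top_iff' R).2 fun x => by
      obtain ⟨i, rfl⟩ := mem_zpowers_iff.1 (hτ0 x)
      exact zpow_mem ((hmem _).2 h) i
    rw [htop, index_top] at hd3
    omega
  have hdd : R.index ∣ qq G a + 1 := hcard ▸ R.index_dvd_card
  obtain ⟨o, ho⟩ := hdd
  have hyo : orderOf (τ0 ^ R.index) = o := by
    rw [orderOf_pow' _ (by omega), hord0, ho, Nat.gcd_mul_right_left,
      Nat.mul_div_cancel_left _ (by omega)]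
  obtain ⟨y, hy⟩ : ∃ y, y = ((τ0 ^ R.index : T) : G) := ⟨_, rfl⟩
  have hy' : orderOf y = o := by rw [hy, Subgroup.orderOf_coe, hyo]
  have hfodd : Odd (qq G a + 1) := (qq_even hC).add_one
  have hoodd : Odd o := hfodd.of_dvd_nat ⟨R.index, by rw [ho, mul_comm]⟩
  have ho3 : 3 ≤ o := by
    obtain ⟨k, hk⟩ := hoodd
    rcases Nat.eq_zero_or_pos k with rfl | h
    · have h2 := f.lt_two_pow_self
      rw [hk, hf, Nat.mul_zero, Nat.zero_add, Nat.mul_one] at ho
      omega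
    · omega
  obtain ⟨x, hx⟩ : ∃ x, x = g⁻¹ * (τ0 : G) * g := ⟨_, rfl⟩
  rw [← hx] at hnot
  have hxd : x ^ R.index = g⁻¹ * y * g := by
    rw [hx, hy, SubgroupClass.coe_pow]
    have := conj_pow (i := R.index) (a := g⁻¹) (b := (τ0 : G))
    rwa [inv_inv] at this
  have hyfpf : ∀ i : ℕ, 0 < i → i < o → Fpf Ω ((g⁻¹ * y * g) ^ i) := by
    intro i hi0 hio
    have hyi : y ^ i ≠ 1 := fun h => by
      have := Nat.le_of_dvd hi0 (hy' ▸ orderOf_dvd_of_pow_eq_one h)
      omega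
    have h1 := (torus_fpf hC hL hT hcard (pow_mem (hy ▸ (τ0 ^ R.index).2) i) hyi).conj g⁻¹
    rwa [inv_inv, ← show (g⁻¹ * y * g) ^ i = g⁻¹ * y ^ i * g by
      have := conj_pow (i := i) (a := g⁻¹) (b := y); rwa [inv_inv] at this] at h1
  obtain ⟨σ, hσ, w, hw, hσw⟩ : g⁻¹ * y * g ∈ sigW hC hL := by
    rw [hy]
    refine (hmem _).1 ?_
    exact R.pow_index_mem τ0
  have hpow : ∀ i : ℕ, ∀ c ∈ line0 G a t, (g⁻¹ * y * g) ^ i • c = σ ^ i • c := fun i c hc => by
    rw [hσw, (hL.sig_comm σ hσ w hw).mul_pow, mul_smul, (mem_wGrp_iff_fix hC).1 (pow_mem hw i) c hc]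
  have ha0 := Ctx.a_mem_line0 a t
  have hσ1 : ∀ c ∈ line0 G a t, σ • c ≠ c := fun c hc h => by
    have h1 := hyfpf 1 one_pos (by omega) c
    rw [hpow 1 c hc, pow_one] at h1
    exact h1 h
  have hσf : Fpf Ω σ := fun p hp => by
    by_cases h : p ∈ line0 G a t
    · exact hσ1 p h hp
    · exact hσ1 a ha0 (by rw [hL.sig_free σ hσ p h hp, one_smul])
  have hxst : x • line0 G a t = line0 G a t := hx ▸ hst τ0 τ0.2
  have hxσ : x * σ = σ * x := by
    have hcm : x * (g⁻¹ * y * g) * x⁻¹ = g⁻¹ * y * g := by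
      rw [← hxd, (Commute.self_pow x _).eq, mul_inv_cancel_right]
    have h1 : x * σ * x⁻¹ ∈ sigGrp G a t := by
      have := conj_mem_lineGrp x (M := line0 G a t) ((lineGrp_line0 hC hL).symm ▸ hσ)
      rwa [hxst, lineGrp_line0 hC hL] at this
    have h2 : x * w * x⁻¹ ∈ wGrp G a t := (mem_wGrp_iff_fix hC).2 fun c hc => by
      rw [mul_smul, mul_smul, (mem_wGrp_iff_fix hC).1 hw (x⁻¹ • c)
        (Set.mem_smul_set_iff_inv_smul_mem.1 (hxst.symm ▸ hc)), smul_inv_smul]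
    obtain ⟨e1, -⟩ := sigW_unique hC hL h1 hσ h2 hw (by
      rw [show x * σ * x⁻¹ * (x * w * x⁻¹) = x * (σ * w) * x⁻¹ by group, ← hσw]; exact hcm)
    exact mul_inv_eq_iff_eq_mul.1 e1
  -- an element of the torus through `σ` with the same effect on `a`
  obtain ⟨σ', hσ', hσ'σ, hσ'a⟩ : ∃ σ' ∈ sigGrp G a t, Commute σ' σ ∧ σ' • a = x • a := by
    obtain ⟨σ1, hσ1m, h1⟩ := exists_torus_mem hC hL hT hcyc hcard hσ hσf
    have hb : σ1 • a ∈ line0 G a t := smul_mem_line0 hC hL hσ1m ha0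
    have hc : σ1 • x • a ∈ line0 G a t :=
      smul_mem_line0 hC hL hσ1m (hxst ▸ Set.smul_mem_smul_set ha0)
    obtain ⟨τ1, hτ1⟩ := ((Nat.bijective_iff_injective_and_card
      (fun τ : T => (⟨(τ : G) • σ1 • a, smul_mem_line0 hC hL (hT τ.2) hb⟩ : line0 G a t))).2
      ⟨fun τ τ' e => by
        by_contra hne
        exact torus_fpf hC hL hT hcard (mul_mem (inv_mem τ'.2) τ.2)
          (fun h => hne (Subtype.ext (inv_mul_eq_one.1 h).symm)) _ (by
            rw [mul_smul, show (τ : G) • σ1 • a = (τ' : G) • σ1 • a from congrArg Subtype.val e,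
              inv_smul_smul]),
        by rw [hcard, Nat.card_coe_set_eq, hC.ncard_line0]⟩).2 ⟨_, hc⟩
    refine ⟨σ1⁻¹ * τ1 * σ1, mul_mem (mul_mem (inv_mem hσ1m) (hT τ1.2)) hσ1m, ?_, ?_⟩
    · have hcm : (τ1 : G) * (σ1 * σ * σ1⁻¹) = σ1 * σ * σ1⁻¹ * τ1 :=
        congrArg Subtype.val (mul_comm τ1 ⟨_, h1⟩)
      show σ1⁻¹ * τ1 * σ1 * σ = σ * (σ1⁻¹ * τ1 * σ1)
      calc σ1⁻¹ * τ1 * σ1 * σ = σ1⁻¹ * (τ1 * (σ1 * σ * σ1⁻¹)) * σ1 := by group
        _ = _ := by rw [hcm]; group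
    · rw [mul_smul, mul_smul, show (τ1 : G) • σ1 • a = σ1 • x • a from congrArg Subtype.val hτ1,
        inv_smul_smul]
  obtain ⟨c, hc⟩ : ∃ c, c = σ'⁻¹ * x := ⟨_, rfl⟩
  have hcσ : Commute c σ := hc ▸ (hσ'σ.inv_left).mul_left hxσ
  have hca : c • a = a := by rw [hc, mul_smul, ← hσ'a, inv_smul_smul]
  have hcst : c • line0 G a t = line0 G a t := by
    rw [hc, mul_smul, hxst, hL.sig_line _ (inv_mem hσ')]
  have hcW : c ∉ sigW hC hL := fun h => hnot (by
    rw [show x = σ' * c by rw [hc]; group]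
    exact mul_mem (sig_le_sigW hC hL hσ') h)
  have hcard' : ((fun i => σ ^ i • a) '' Set.Iio o).ncard = o := by
    rw [Set.ncard_image_of_injOn, ← Finset.coe_Iio, Set.ncard_coe_finset, Nat.card_Iio]
    intro i hi i' hi' e
    simp only [← hpow _ a ha0] at e
    rcases lt_trichotomy i i' with h | h | h
    · exfalso
      rw [← Nat.add_sub_cancel' h.le, pow_add, mul_smul] at e
      exact hyfpf (i' - i) (by omega) (by have := Set.mem_Iio.1 hi'; omega) a
        (MulAction.injective _ e).symm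
    · exact h
    · exfalso
      rw [← Nat.add_sub_cancel' h.le, pow_add, mul_smul] at e
      exact hyfpf (i - i') (by omega) (by have := Set.mem_Iio.1 hi; omega) a
        (MulAction.injective _ e)
  obtain ⟨j, hj, hle⟩ := fixed_three_le hC hL hcst hcW hf
    (S := (fun i => σ ^ i • a) '' Set.Iio o) (by
      rintro _ ⟨i, -, rfl⟩
      exact ⟨smul_mem_line0 hC hL (pow_mem hσ i) ha0, by
        rw [← mul_smul, (hcσ.pow_right i).eq, mul_smul, hca]⟩) (hcard'.symm ▸ ho3)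
  rw [hcard'] at hle
  have h1 := two_pow_gt hf4 hj
  have h2 : R.index * o ≤ f * (2 ^ j + 1) := Nat.mul_le_mul hdle hle
  omega

end UniBound

open UniBound in
/-- Stage D: `(q + 1) / gcd (3, q + 1)` divides `|W|`. -/
theorem wLargeStmt {G : Type u} {Ω : Type v} [Group G] [Finite G] [MulAction G Ω] (a : Ω) (t : G)
    (Q : Subgroup G) : WLargeStmt.{u, v} G a t Q := by
  intro hC hU hL
  haveI := finite_points hC.setup
  show qq G a + 1 ∣ Nat.gcd 3 (qq G a + 1) * Nat.card (wGrp G a t)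
  have h4 := hC.four_le_qq
  have h3 := hL.w_three
  have hdvd := hL.w_dvd
  by_cases hq : qq G a = 8
  · rw [hq] at hdvd ⊢
    have hle := Nat.le_of_dvd (by norm_num) hdvd
    obtain h | h : Nat.card (wGrp G a t) = 3 ∨ Nat.card (wGrp G a t) = 9 := by
      interval_cases h : Nat.card (wGrp G a t) <;> omega
    all_goals rw [h]; norm_num
  obtain ⟨p, hp⟩ : ∃ p : Ω, p ∉ line0 G a t := by
    by_contra h
    push Not at h
    have h2 := hC.ncard_line0
    rw [Set.eq_univ_of_forall h, Set.ncard_univ, card_points hC.setup, hU.card] at h2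
    have := Nat.pow_lt_pow_right (show 1 < qq G a by omega) (show 1 < 3 by norm_num)
    rw [pow_one] at this
    omega
  obtain ⟨T, hT, hcyc, hcard, -, g, hg⟩ := hL.torus p hp
  have hTL : ∀ τ ∈ T, τ • g • line0 G a t = g • line0 G a t := by
    intro τ hτ
    refine Set.eq_of_subset_of_ncard_le ?_ (le_of_eq (by simp only [Set.ncard_smul_set]))
    rintro _ ⟨c, hc, rfl⟩
    rw [hg] at hc ⊢
    obtain ⟨τ', hτ', rfl⟩ := hc
    exact ⟨τ * τ', mul_mem hτ hτ', (mul_smul _ _ _)⟩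
  have hst : ∀ τ ∈ T, (g⁻¹ * τ * g) • line0 G a t = line0 G a t := fun τ hτ => by
    rw [mul_smul, mul_smul, hTL τ hτ, inv_smul_smul]
  have hmem := conj_torus_sigW hC hL hq hT hcyc hcard hst
  choose σ hσ w hw hσw using fun τ : T => hmem τ τ.2
  obtain ⟨π, hπ⟩ : ∃ π : T →* wGrp G a t, ∀ τ, π τ = ⟨w τ, hw τ⟩ :=
    ⟨MonoidHom.mk' (fun τ => ⟨w τ, hw τ⟩) fun x y => Subtype.ext
      (sigW_unique hC hL (hσ _) (mul_mem (hσ x) (hσ y)) (hw _) (mul_mem (hw x) (hw y)) (by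
        rw [← hσw (x * y)]
        show g⁻¹ * ((x : G) * y) * g = σ x * σ y * (w x * w y)
        rw [show g⁻¹ * ((x : G) * y) * g = (g⁻¹ * x * g) * (g⁻¹ * y * g) by group, hσw x, hσw y]
        simp only [mul_assoc]
        rw [← mul_assoc (w x) (σ y), ← (hL.sig_comm (σ y) (hσ y) (w x) (hw x)).eq, mul_assoc])).2,
      fun _ => rfl⟩
  have hker : π.ker = (T ⊓ lineGrp G (g • line0 G a t)).subgroupOf T := by
    ext τ
    rw [MonoidHom.mem_ker, hπ, mem_subgroupOf, mem_inf, lineGrp_line hC hL, Subtype.ext_iff]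
    constructor
    · intro h
      refine ⟨τ.2, ?_⟩
      rw [hσw τ, show w τ = 1 from h, mul_one]
      exact hσ τ
    · rintro ⟨-, h⟩
      exact (sigW_unique hC hL (hσ τ) h (hw τ) (one_mem _) (by rw [mul_one]; exact (hσw τ).symm)).2
  have hk : Nat.card π.ker = Nat.card ↥(T ⊓ lineGrp G (g • line0 G a t)) := by
    rw [hker]
    exact Nat.card_congr (subgroupOfEquivOfLe inf_le_left).toEquiv
  have h1 := π.ker.card_mul_index
  rw [index_ker, hk, hcard] at h1
  calc qq G a + 1 = _ := h1.symm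
    _ ∣ _ := Nat.mul_dvd_mul (Nat.dvd_gcd (torus_inf_dvd hC hL hU hT hcyc hcard hp hg)
        ⟨_, h1.symm⟩) π.range.card_subgroup_dvd_card

end Cfsg.Agent.RankOneClass
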