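import Cfsg.Agent.RankOneClass.Coord

/-!
Lane E: the two kinds of coordinates of `Q`, and `coordStmt`.
-/

set_option autoImplicit false

open Subgroup MulAction

namespace Cfsg.Agent.RankOneClass

open Cfsg.Agent.RankOne Coord

universe u v

variable {G : Type u} {Ω : Type v} [Group G] [MulAction G Ω] {a : Ω} {t : G} {Q : Subgroup G}
variable {E : Type} [Field E] [Fintype E] [CharP E 2] {f : ℕ}

/-- An additive invariant map fixed by a nontrivial multiplier of `W` vanishes. -/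
theorem eq_zero_of_invariant {L : E → E} {l : E} (hadd : ∀ x y, L (x + y) = L x + L y)
    (hl : l ≠ 1) (hinv : ∀ x, L (l * x) = L x) (y : E) : L y = 0 := by
  have hl1 : l + 1 ≠ 0 := fun h => hl (CharTwo.add_eq_zero.1 h)
  have h : ∀ x, L ((l + 1) * x) = 0 := fun x => by
    rw [add_mul, one_mul, hadd, hinv, CharTwo.add_self_eq_zero]
  rw [← h ((l + 1)⁻¹ * y), mul_inv_cancel_left₀ hl1]

theorem pow_two_f {e : ℕ} (hE : Fintype.card E = 2 ^ e) (x : E) : x ^ 2 ^ e = x := by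
  rw [← hE, FiniteField.pow_card]

namespace Ctx

/-- The Hermitian case. -/
theorem qcoord_of_hermitian [Finite G] (hC : Ctx G Ω a t Q) (hU : IsUni G a Q) (hL : Lines G a t Q)
    (P : CoordPre G a t Q E f) (hf2 : 2 ≤ f) (hq : qq G a = 2 ^ f) (hE : Fintype.card E = 2 ^ (2 * f))
    {r : ℕ} (hr : r < f) {c1 c2 : E}
    (hB : ∀ y y', P.sq (y + y') + P.sq y + P.sq y' =
      c1 * (y ^ 2 ^ r * y' ^ 2 ^ (r + f)) + c2 * (y ^ 2 ^ (r + f) * y' ^ 2 ^ r)) :
    ∃ (σ : E →+* E) (q : ℕ) (hu : Cfsg.Agent.AutPSU.UCtx σ q), Nonempty (QCoord G a t Q hu) := by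
  classical
  obtain ⟨σ, hu⟩ := AutPSU.exists_uctx (F := E) (q := 2 ^ f) (by rw [hE, ← pow_mul, mul_comm])
  refine ⟨σ, 2 ^ f, hu, ?_⟩
  have hσ : ∀ x : E, σ x = x ^ 2 ^ f := hu.pow
  have hrf : ∀ x : E, (σ x) ^ 2 ^ r = x ^ 2 ^ (r + f) := fun x => by
    rw [hσ, ← pow_mul, ← pow_add, add_comm]
  have h10 : c1 = c2 := by
    have h := hB 1 1
    simp only [one_pow, mul_one] at h
    have h0 : P.sq 0 = 0 := by
      have h' := P.coord_sq hC Q.one_mem
      rw [P.x_one, mul_one] at h'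
      rw [← h']
      have := P.coord_mul 1 (one_mem _) 1 (one_mem _)
      rw [mul_one] at this
      exact left_eq_add.1 this
    rw [CharTwo.add_self_eq_zero (1 : E), h0, zero_add, CharTwo.add_self_eq_zero] at h
    exact CharTwo.add_eq_zero.1 h.symm
  subst h10
  obtain ⟨w, hw, hwo⟩ := exists_gen_w hL
  have hwC : w ∈ kGrp G a t ⊔ wGrp G a t := mem_sup_right hw
  have hwN : ∀ g ∈ wGrp G a t, P.chi g * σ (P.chi g) = 1 := fun g hg => by
    have hgC : g ∈ kGrp G a t ⊔ wGrp G a t := mem_sup_right hg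
    rw [hσ, ← pow_succ', ← P.chi_pow hgC]
    have h : g ^ (2 ^ f + 1) = 1 := by
      refine orderOf_dvd_iff_pow_eq_one.1 (dvd_trans ?_ (hq ▸ hL.w_dvd))
      rw [show orderOf g = orderOf (⟨g, hg⟩ : wGrp G a t) from (Subgroup.orderOf_mk _ _).symm]
      exact orderOf_dvd_natCard _
    rw [h, P.chi_one]
  -- the squaring map
  have hsq : ∀ y, P.sq y = c1 * (y * σ y) ^ 2 ^ r := by
    intro y
    have h := eq_zero_of_invariant (E := E) (L := fun y => P.sq y + c1 * (y * σ y) ^ 2 ^ r)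
      (l := P.chi w) (fun x x' => by
        refine CharTwo.add_eq_zero.1 ?_
        have e : ((x + x') * σ (x + x')) ^ 2 ^ r = (x * σ x) ^ 2 ^ r + (x' * σ x') ^ 2 ^ r +
            (x ^ 2 ^ r * x' ^ 2 ^ (r + f) + x ^ 2 ^ (r + f) * x' ^ 2 ^ r) := by
          rw [show (x + x') * σ (x + x') = x * σ x + x' * σ x' + (x * σ x' + σ x * x') by
              rw [map_add]; ring,
            add_pow_char_pow, add_pow_char_pow, add_pow_char_pow, mul_pow x (σ x'), mul_pow (σ x) x',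
            hrf, hrf]
        rw [e, show P.sq (x + x') + c1 * ((x * σ x) ^ 2 ^ r + (x' * σ x') ^ 2 ^ r +
              (x ^ 2 ^ r * x' ^ 2 ^ (r + f) + x ^ 2 ^ (r + f) * x' ^ 2 ^ r)) +
            (P.sq x + c1 * (x * σ x) ^ 2 ^ r + (P.sq x' + c1 * (x' * σ x') ^ 2 ^ r)) =
            (P.sq (x + x') + P.sq x + P.sq x') +
              (c1 * (x ^ 2 ^ r * x' ^ 2 ^ (r + f)) + c1 * (x ^ 2 ^ (r + f) * x' ^ 2 ^ r)) +
              ((c1 * (x * σ x) ^ 2 ^ r + c1 * (x * σ x) ^ 2 ^ r) +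
              (c1 * (x' * σ x') ^ 2 ^ r + c1 * (x' * σ x') ^ 2 ^ r)) by ring,
          hB, CharTwo.add_self_eq_zero, CharTwo.add_self_eq_zero, CharTwo.add_self_eq_zero, add_zero, add_zero])
      (fun h1 => by
        have h2 := P.chi_inj w hwC h1
        rw [h2, orderOf_one] at hwo
        have := hL.w_three
        omega)
      (fun x => by
        rw [P.sq_chi hC hU hwC, P.mu_wGrp hC hU hw, one_mul, map_mul,
          show P.chi w * x * (σ (P.chi w) * σ x) = (P.chi w * σ (P.chi w)) * (x * σ x) by ring,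
          hwN w hw, one_mul]) y
    exact CharTwo.add_eq_zero.1 h
  have hc10 : c1 ≠ 0 := fun h => P.sq_ne_zero hC hU one_ne_zero (by rw [hsq, h, zero_mul])
  have hc1f : c1 ^ 2 ^ f = c1 := by
    have h := P.sq_fix hU 1
    rwa [hsq, map_one, mul_one, one_pow, mul_one] at h
  have hmu : ∀ c ∈ kGrp G a t ⊔ wGrp G a t, P.mu c = (P.chi c * σ (P.chi c)) ^ 2 ^ r := by
    intro c hc
    have h := P.sq_chi hC hU hc 1
    rw [mul_one, hsq, hsq 1, map_one, mul_one, one_pow, mul_one, mul_comm c1] at h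
    exact (mul_right_cancel₀ hc10 h).symm
  -- coordinates on `Z`
  set R := 2 ^ (2 * f - r) with hR
  have hRr : ∀ x : E, (x ^ 2 ^ r) ^ R = x := fun x => by
    rw [hR, ← pow_mul, ← pow_add, Nat.add_sub_cancel' (by omega)]; exact pow_two_f hE x
  set D : G → E := fun z => (P.coord z / c1) ^ R with hD
  have hDmul : ∀ z ∈ zGrp G a, ∀ z' ∈ zGrp G a, D (z * z') = D z + D z' := fun z hz z' hz' => by
    simp only [hD, hR]; rw [P.coord_mul z hz z' hz', add_div, add_pow_char_pow]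
  have hDfix : ∀ z ∈ zGrp G a, σ (D z) = D z := fun z hz => by
    simp only [hD]; rw [map_pow, map_div₀, hσ (P.coord z), P.coord_fix z hz, hσ c1, hc1f]
  have hDsurj : ∀ y : E, σ y = y → ∃ z ∈ zGrp G a, D z = y := fun y hy => by
    obtain ⟨z, hz, e⟩ := P.coord_surj (c1 * y ^ 2 ^ r) (by
      rw [mul_pow, hc1f, ← hσ, map_pow, hy])
    exact ⟨z, hz, by simp only [hD]; rw [e, mul_div_cancel_left₀ _ hc10, hRr]⟩
  have hD0 : ∀ z ∈ zGrp G a, D z = 0 → z = 1 := fun z hz h => by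
    simp only [hD] at h
    exact P.coord_eq_zero z hz ((div_eq_zero_iff.1 (pow_eq_zero_iff (by rw [hR]; positivity) |>.1 h)).resolve_right hc10)
  have hDsq : ∀ u ∈ Q, D (u * u) = P.x u * σ (P.x u) := fun u hu' => by
    simp only [hD]; rw [P.coord_sq hC hu', hsq, mul_div_cancel_left₀ _ hc10, hRr]
  have hDconj : ∀ c ∈ kGrp G a t ⊔ wGrp G a t, ∀ z ∈ zGrp G a,
      D (c * z * c⁻¹) = P.chi c * σ (P.chi c) * D z := fun c hc z hz => by
    simp only [hD]; rw [P.conj_coord c hc z hz, hmu c hc, mul_div_assoc, mul_pow, hRr]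
  -- a real cocycle
  obtain ⟨θ, hθ⟩ := Classical.Herm.exists_trace hu.toIsInvol (a := (1 : E)) (map_one σ)
  have hθ' : σ θ = θ + 1 := by
    rw [← hθ, ← add_assoc, CharTwo.add_self_eq_zero, zero_add]
  let a1 : E →+ E := AddMonoidHom.mk' (fun x => x + σ x) fun x y => by rw [map_add]; ring
  let a0 : E →+ E := AddMonoidHom.mk' (fun x => x + θ * (x + σ x)) fun x y => by rw [map_add]; ring
  have ha1 : ∀ x, σ (a1 x) = a1 x := fun x => by
    show σ (x + σ x) = x + σ x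
    rw [map_add, hu.invol, add_comm]
  have ha0 : ∀ x, σ (a0 x) = a0 x := fun x => by
    show σ (x + θ * (x + σ x)) = x + θ * (x + σ x)
    rw [map_add, map_mul, map_add, hu.invol, hθ']
    linear_combination (σ x) * (CharTwo.two_eq_zero (R := E))
  have hx01 : ∀ x, x = a0 x + θ * a1 x := fun x => by
    show x = x + θ * (x + σ x) + θ * (x + σ x)
    rw [add_assoc, CharTwo.add_self_eq_zero, add_zero]
  let γ := θ * σ θ
  have hγ : σ γ = γ := by show σ (θ * σ θ) = _; rw [map_mul, hu.invol, mul_comm]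
  let β0 : E →+ E →+ E := AddMonoidHom.mk' (fun x => AddMonoidHom.mk'
      (fun y => a0 x * a0 y + a0 x * a1 y + γ * (a1 x * a1 y)) fun y y' => by
        simp only [map_add]; ring)
    fun x x' => AddMonoidHom.ext fun y => by
      simp only [AddMonoidHom.mk'_apply, AddMonoidHom.add_apply, map_add]; ring
  have hN : ∀ x, x * σ x = β0 x x := fun x => by
    show x * σ x = a0 x * a0 x + a0 x * a1 x + γ * (a1 x * a1 x)
    conv_lhs => rw [hx01 x]
    rw [map_add, map_mul, ha0, ha1, hθ']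
    simp only [γ, hθ']
    linear_combination (θ * a0 x * a1 x) * (CharTwo.two_eq_zero (R := E))
  obtain ⟨p0, hp0, hp0z, hp0D⟩ := exists_cocycle (G := G) (E := E) (Q := Q) (Z := zGrp G a) (x := P.x) (D := D)
    (β := β0) hC.zGrp_le (fun z hz u hu => (hC.zGrp_central hz hu).eq.symm) P.x_mul P.x_ker P.x_surj hDmul hD0
    (fun z hz => hC.zGrp_sq hz) (fun x y => hDsurj _ (by
      show σ (a0 x * a0 y + a0 x * a1 y + γ * (a1 x * a1 y)) = _
      simp only [map_add, map_mul, ha0, ha1, hγ]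
      rfl))
    (fun u hu' => ⟨hU.sq_mem u hu', by rw [hDsq u hu', hN]⟩)
  let h0 : E → E := fun x => σ θ * (a0 x * a1 x) + θ * (a0 x ^ 2 + γ * a1 x ^ 2)
  let β : E →+ E →+ E := AddMonoidHom.mk' (fun x => AddMonoidHom.mk' (fun y => σ x * y) fun y y' => mul_add _ _ _)
    fun x x' => AddMonoidHom.ext fun y => by
      simp only [AddMonoidHom.mk'_apply, AddMonoidHom.add_apply, map_add, add_mul]
  have hh0 : ∀ x y, h0 (x + y) + β0 x y = h0 x + h0 y + σ x * y := fun x y => by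
    show σ θ * (a0 (x + y) * a1 (x + y)) + θ * (a0 (x + y) ^ 2 + γ * a1 (x + y) ^ 2) +
      (a0 x * a0 y + a0 x * a1 y + γ * (a1 x * a1 y)) = _
    simp only [map_add, CharTwo.add_sq, h0]
    conv_rhs => arg 2; rw [hx01 x, hx01 y, map_add, map_mul, ha0, ha1]
    simp only [γ, hθ']
    linear_combination (a0 x * a1 y) * (CharTwo.two_eq_zero (R := E))
  have hhN : ∀ x, h0 x + σ (h0 x) = x * σ x := fun x => by
    rw [hN]
    show σ θ * (a0 x * a1 x) + θ * (a0 x ^ 2 + γ * a1 x ^ 2) +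
      σ (σ θ * (a0 x * a1 x) + θ * (a0 x ^ 2 + γ * a1 x ^ 2)) = a0 x * a0 x + a0 x * a1 x + γ * (a1 x * a1 x)
    rw [map_add, map_mul, map_mul, map_mul, hu.invol, map_add, map_mul, map_pow, map_pow, ha0, ha1, hγ, hθ']
    linear_combination (θ * a0 x * a1 x + θ * (a0 x ^ 2 + γ * a1 x ^ 2)) * (CharTwo.two_eq_zero (R := E))
  have h00 : h0 0 = 0 := by simp [h0]
  set C := kGrp G a t ⊔ wGrp G a t with hCdef
  have hCD : C ≤ twoPt G a t := kw_le_twoPt G a t
  obtain ⟨p, hp, hpz, hpc, hpT⟩ := exists_average (G := G) (E := E) (Q := Q) (Z := zGrp G a) (x := P.x) (D := D)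
    (β := β) (C := C) (hC.setup.odd_card.of_dvd_nat (Subgroup.card_dvd_of_le hCD))
    (fun c hc u hu' => conj_mem_Q hC.setup (twoPt_le (hCD hc)) hu')
    (fun c hc z hz => hC.conj_mem_zGrp (twoPt_le (hCD hc)) hz)
    P.chi (fun c => P.chi c * σ (P.chi c)) (by simp [P.chi_one])
    (fun c hc d hd => by
      show P.chi (c * d) * σ (P.chi (c * d)) = _
      rw [P.chi_mul c hc d hd, map_mul]; ring)
    P.conj_x hDconj
    (fun c hc x y => by
      show σ (P.chi c * x) * (P.chi c * y) = P.chi c * σ (P.chi c) * (σ x * y)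
      rw [map_mul]; ring)
    (fun u => p0 u + h0 (P.x u))
    (fun u hu' w hw' => by
      show p0 (u * w) + h0 (P.x (u * w)) = p0 u + h0 (P.x u) + (p0 w + h0 (P.x w)) + σ (P.x u) * P.x w
      rw [hp0 u hu' w hw', P.x_mul u hu' w hw']
      linear_combination hh0 (P.x u) (P.x w))
    (fun z hz => by
      show p0 z + h0 (P.x z) = D z
      rw [hp0z z hz, (P.x_ker z (hC.zGrp_le hz)).2 hz, h00, add_zero])
  let T : E →+ E := AddMonoidHom.mk' (fun y => y + σ y) fun y y' => by rw [map_add]; ring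
  have hcond : ∀ u ∈ Q, p u + σ (p u) = P.x u * σ (P.x u) := hpT T (fun x => x * σ x)
    (fun c _ y => by
      show P.chi c * σ (P.chi c) * y + σ (P.chi c * σ (P.chi c) * y) = P.chi c * σ (P.chi c) * (y + σ y)
      simp only [map_mul, hu.invol]; ring)
    (fun c _ y => by rw [map_mul]; ring)
    (fun u hu' => by
      obtain ⟨z, hz, e⟩ := hp0D u hu'
      show p0 u + h0 (P.x u) + σ (p0 u + h0 (P.x u)) = _
      rw [map_add, e, hDfix z hz, ← hhN (P.x u),
        show D z + h0 (P.x u) + (D z + σ (h0 (P.x u))) = D z + D z + (h0 (P.x u) + σ (h0 (P.x u))) by ring,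
        CharTwo.add_self_eq_zero, zero_add])
  let φ : Q →* PSU3Sylow.Heis hu := MonoidHom.mk' (fun u => ⟨P.x u, p u, hcond u u.2⟩) fun u u' =>
    PSU3Sylow.Heis.ext (P.x_mul u u.2 u' u'.2) (hp u u.2 u' u'.2)
  have hinj : Function.Injective φ := (injective_iff_map_eq_one φ).2 fun u h => by
    have hx : P.x u = 0 := congrArg PSU3Sylow.Heis.x h
    have hp' : p u = 0 := congrArg PSU3Sylow.Heis.d h
    have hz := (P.x_ker u u.2).1 hx
    rw [hpz _ hz] at hp'
    exact Subtype.ext (hD0 _ hz hp')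
  have hcard : Nat.card Q = Nat.card (PSU3Sylow.Heis hu) := by
    rw [PSU3Sylow.Heis.card_eq, hU.card, hq]
  have hpos : 0 < Nat.card Q := Nat.card_pos
  haveI : Finite (PSU3Sylow.Heis hu) := Nat.finite_of_card_ne_zero (by rw [← hcard]; omega)
  have hbij : Function.Bijective φ := (Nat.bijective_iff_injective_and_card φ).2 ⟨hinj, hcard⟩
  exact ⟨{
    q_eq := hq.symm
    toHeis := MulEquiv.ofBijective φ hbij
    chi := P.chi
    chi_mul := P.chi_mul
    chi_inj := P.chi_inj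
    chi_K := fun k hk => by
      have hkC : k ∈ C := mem_sup_left hk
      rw [hσ, ← P.chi_pow hkC]
      congr 1
      have h1 : k ^ (2 ^ f - 1) = 1 := by
        refine orderOf_dvd_iff_pow_eq_one.1 ?_
        rw [show 2 ^ f - 1 = Nat.card (kGrp G a t) by have := hC.card_kGrp; omega,
          show orderOf k = orderOf (⟨k, hk⟩ : kGrp G a t) from (Subgroup.orderOf_mk _ _).symm]
        exact orderOf_dvd_natCard _
      rw [show 2 ^ f = (2 ^ f - 1) + 1 by have := Nat.one_le_two_pow (n := f); omega, pow_succ, h1, one_mul]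
    chi_K_surj := fun x hx0 hx => by
      obtain ⟨k, hk, hko⟩ := hC.exists_gen_k
      have hkC : k ∈ C := mem_sup_left hk
      haveI : NeZero (orderOf k) := ⟨(orderOf_pos k).ne'⟩
      have h1 : x ^ orderOf k = 1 := by
        rw [hko, hq]
        refine mul_right_cancel₀ hx0 ?_
        rw [← pow_succ, Nat.sub_add_cancel Nat.one_le_two_pow, ← hσ, hx, one_mul]
      obtain ⟨i, -, hi⟩ := (P.chi_prim hkC).eq_pow_of_pow_eq_one h1
      exact ⟨k ^ i, pow_mem hk i, by rw [P.chi_pow hkC, hi]⟩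
    chi_W := hwN
    conj_x := fun d hd u u' he => by
      show P.x (u' : G) = P.chi d * P.x u
      rw [he, P.conj_x d hd u u.2]
    conj_d := fun d hd u u' he => by
      show p (u' : G) = P.chi d * σ (P.chi d) * p u
      rw [he, hpc d hd u u.2] }⟩

/-- The other group of order `8³`. -/
theorem altCoord_of_cubic [Finite G] (hC : Ctx G Ω a t Q) (hU : IsUni G a Q) (hL : Lines G a t Q)
    (P : CoordPre G a t Q E f) (hf3 : f = 3) (hm : Nat.card (wGrp G a t) = 3) (hq : qq G a = 2 ^ f)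
    (hE : Fintype.card E = 2 ^ (2 * f)) {i : ℕ} {c1 c3 : E}
    (hB : ∀ y y', P.sq (y + y') + P.sq y + P.sq y' =
        c1 * (y ^ 2 ^ i * (y' ^ 2 ^ i) ^ 2 + (y ^ 2 ^ i) ^ 2 * y' ^ 2 ^ i) +
        c3 * (y ^ 2 ^ i * (y' ^ 2 ^ i) ^ 2 + (y ^ 2 ^ i) ^ 2 * y' ^ 2 ^ i) ^ 8) :
    Nonempty (AltCoord G a t Q E) := by
  classical
  subst hf3
  obtain ⟨σ, hu⟩ := AutPSU.exists_uctx (F := E) (q := 2 ^ 3) (by rw [hE]; norm_num)
  have hσ : ∀ x : E, σ x = x ^ 8 := fun x => by rw [hu.pow]; norm_num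
  have h64 : ∀ x : E, (x ^ 8) ^ 8 = x := fun x => by rw [← hσ, ← hσ, hu.invol]
  have hadd8 : ∀ A B : E, (A + B) ^ 8 = A ^ 8 + B ^ 8 := fun A B => by rw [← hσ, ← hσ, ← hσ, map_add]
  obtain ⟨θ, hθ⟩ := Classical.Herm.exists_trace hu.toIsInvol (a := (1 : E)) (map_one σ)
  rw [hσ] at hθ
  set c := θ * c1 + (θ * c3) ^ 8 with hcdef
  set N := 2 ^ i with hN
  let Fx : E → E := fun y => y ^ N
  have hFadd : ∀ y y' : E, (y + y') ^ N = y ^ N + y' ^ N := fun y y' => add_pow_char_pow y y' 2 i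
  have hfix : ∀ y, P.sq y ^ 8 = P.sq y := fun y => by
    have := P.sq_fix hU y
    norm_num at this
    exact this
  have hBc : ∀ y y', P.sq (y + y') + P.sq y + P.sq y' =
      c * (y ^ N * (y' ^ N) ^ 2 + (y ^ N) ^ 2 * y' ^ N) +
        (c * (y ^ N * (y' ^ N) ^ 2 + (y ^ N) ^ 2 * y' ^ N)) ^ 8 := fun y y' => by
    have h := hB y y'
    set B := P.sq (y + y') + P.sq y + P.sq y'
    set Z := y ^ N * (y' ^ N) ^ 2 + (y ^ N) ^ 2 * y' ^ N
    have hB8 : B ^ 8 = B := by simp only [B]; rw [hadd8, hadd8, hfix, hfix, hfix]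
    calc B = (θ + θ ^ 8) * B := by rw [hθ, one_mul]
      _ = θ * B + (θ * B) ^ 8 := by rw [add_mul, mul_pow, hB8]
      _ = c * Z + (c * Z) ^ 8 := by
          have key : ∀ W : E, θ * (c1 * W + c3 * W ^ 8) + (θ * (c1 * W + c3 * W ^ 8)) ^ 8 =
              c * W + (c * W) ^ 8 := fun W => by
            simp only [hcdef, mul_add, add_mul, hadd8, mul_pow, h64]; ring
          rw [h, key]
  have hwpow : ∀ g ∈ wGrp G a t, P.chi g ^ 3 = 1 := fun g hg => by
    rw [← P.chi_pow (mem_sup_right hg)]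
    have h : g ^ 3 = 1 := by
      refine orderOf_dvd_iff_pow_eq_one.1 ?_
      rw [show orderOf g = orderOf (⟨g, hg⟩ : wGrp G a t) from (Subgroup.orderOf_mk _ _).symm, ← hm]
      exact orderOf_dvd_natCard _
    rw [h, P.chi_one]
  obtain ⟨w, hw, hwo⟩ := exists_gen_w hL
  have hwC : w ∈ kGrp G a t ⊔ wGrp G a t := mem_sup_right hw
  have hsq : ∀ y, P.sq y = c * (y ^ N) ^ 3 + (c * (y ^ N) ^ 3) ^ 8 := by
    intro y
    have h := eq_zero_of_invariant (E := E) (L := fun y => P.sq y + (c * (y ^ N) ^ 3 + (c * (y ^ N) ^ 3) ^ 8))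
      (l := P.chi w) (fun x x' => by
        refine CharTwo.add_eq_zero.1 ?_
        have e : ((x + x') ^ N) ^ 3 = (x ^ N) ^ 3 + (x' ^ N) ^ 3 +
            (x ^ N * (x' ^ N) ^ 2 + (x ^ N) ^ 2 * x' ^ N) := by
          rw [hFadd, pow_succ, CharTwo.add_sq]; ring
        rw [e, mul_add, mul_add, hadd8, hadd8]
        linear_combination hBc x x' + (c * (x ^ N) ^ 3 + c * (x' ^ N) ^ 3 + (c * (x ^ N) ^ 3) ^ 8 +
          (c * (x' ^ N) ^ 3) ^ 8 + c * (x ^ N * (x' ^ N) ^ 2 + (x ^ N) ^ 2 * x' ^ N) +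
          (c * (x ^ N * (x' ^ N) ^ 2 + (x ^ N) ^ 2 * x' ^ N)) ^ 8) * (CharTwo.two_eq_zero (R := E)))
      (fun h1 => by
        have h2 := P.chi_inj w hwC h1
        rw [h2, orderOf_one, hm] at hwo
        omega)
      (fun x => by
        rw [P.sq_chi hC hU hwC, P.mu_wGrp hC hU hw, one_mul, mul_pow (P.chi w), mul_pow (P.chi w ^ N),
          ← pow_mul (P.chi w), mul_comm N, pow_mul, hwpow w hw, one_pow, one_mul]) y
    exact CharTwo.add_eq_zero.1 h
  have hchiK : ∀ k ∈ kGrp G a t, P.chi k ^ 7 = 1 := fun k hk => by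
    rw [← P.chi_pow (mem_sup_left hk)]
    have h : k ^ 7 = 1 := by
      refine orderOf_dvd_iff_pow_eq_one.1 ?_
      rw [show 7 = Nat.card (kGrp G a t) by have := hC.card_kGrp; rw [hq] at this; omega,
        show orderOf k = orderOf (⟨k, hk⟩ : kGrp G a t) from (Subgroup.orderOf_mk _ _).symm]
      exact orderOf_dvd_natCard _
    rw [h, P.chi_one]
  let chi : G → E := fun g => P.chi g ^ N
  have hchimul : ∀ g ∈ kGrp G a t ⊔ wGrp G a t, ∀ g' ∈ kGrp G a t ⊔ wGrp G a t,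
      chi (g * g') = chi g * chi g' := fun g hg g' hg' => by
    simp only [chi]; rw [P.chi_mul g hg g' hg', mul_pow]
  have hchi8 : ∀ g ∈ kGrp G a t ⊔ wGrp G a t, (chi g ^ 3) ^ 8 = chi g ^ 3 := fun g hg => by
    obtain ⟨k, hk, v, hv, rfl⟩ := hC.mem_kw hg
    simp only [chi]
    rw [P.chi_mul k (mem_sup_left hk) v (mem_sup_right hv), mul_pow, mul_pow, ← pow_mul (P.chi v),
      mul_comm N, pow_mul (P.chi v), hwpow v hv, one_pow, mul_one, pow_succ, ← pow_mul, ← pow_mul,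
      show N * (3 * 7) = 7 * (N * 3) by ring, pow_mul (P.chi k), hchiK k hk, one_pow, one_mul]
  have hmu : ∀ g ∈ kGrp G a t ⊔ wGrp G a t, P.mu g = chi g ^ 3 := by
    intro g hg
    have h := P.sq_chi hC hU hg 1
    rw [mul_one, hsq (P.chi g)] at h
    have h' : chi g ^ 3 * P.sq 1 = P.mu g * P.sq 1 := by
      rw [← h, hsq 1, one_pow, one_pow, mul_one]
      show chi g ^ 3 * (c + c ^ 8) = c * chi g ^ 3 + (c * chi g ^ 3) ^ 8
      rw [mul_pow c, hchi8 g hg]; ring
    exact (mul_right_cancel₀ (P.sq_ne_zero hC hU one_ne_zero) h').symm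
  let px : G → E := fun u => P.x u ^ N
  have hxmul : ∀ u ∈ Q, ∀ u' ∈ Q, px (u * u') = px u + px u' := fun u hu u' hu' => by
    simp only [px]; rw [P.x_mul u hu u' hu', hFadd]
  have hxker : ∀ u ∈ Q, (px u = 0 ↔ u ∈ zGrp G a) := fun u hu => by
    simp only [px]; rw [pow_eq_zero_iff (by rw [hN]; positivity), P.x_ker u hu]
  have hFbij : Function.Bijective Fx := by
    refine (Finite.injective_iff_bijective).1 fun y y' h => ?_
    exact iterateFrobenius_inj E 2 i (by rwa [iterateFrobenius_def, iterateFrobenius_def])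
  have hxsurj : ∀ y, ∃ u ∈ Q, px u = y := fun y => by
    obtain ⟨y', hy'⟩ := hFbij.2 y
    obtain ⟨u, hu, e⟩ := P.x_surj y'
    exact ⟨u, hu, by show P.x u ^ N = y; rw [e]; exact hy'⟩
  let β : E →+ E →+ E := AddMonoidHom.mk' (fun x => AddMonoidHom.mk'
      (fun y => c * (x ^ 2 * y) + (c * (x ^ 2 * y)) ^ 8) fun y y' => by
        simp only [mul_add, hadd8]; ring)
    fun x x' => AddMonoidHom.ext fun y => by
      simp only [AddMonoidHom.mk'_apply, AddMonoidHom.add_apply]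
      simp only [CharTwo.add_sq, add_mul, mul_add, hadd8]; ring
  obtain ⟨p0, hp0, hp0z, hp0D⟩ := exists_cocycle (G := G) (E := E) (Q := Q) (Z := zGrp G a) (x := px)
    (D := P.coord) (β := β) hC.zGrp_le (fun z hz u hu => (hC.zGrp_central hz hu).eq.symm) hxmul hxker hxsurj
    P.coord_mul P.coord_eq_zero (fun z hz => hC.zGrp_sq hz)
    (fun x y => P.coord_surj _ (by
      show (c * (x ^ 2 * y) + (c * (x ^ 2 * y)) ^ 8) ^ 2 ^ 3 = _
      norm_num
      rw [hadd8, h64, add_comm]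
      rfl))
    (fun u hu => ⟨hU.sq_mem u hu, by
      rw [P.coord_sq hC hu, hsq]
      show _ = c * (px u ^ 2 * px u) + (c * (px u ^ 2 * px u)) ^ 8
      simp only [px, ← pow_succ]⟩)
  set C := kGrp G a t ⊔ wGrp G a t with hCdef
  have hCD : C ≤ twoPt G a t := kw_le_twoPt G a t
  have hchi1 : chi 1 = 1 := by simp [chi, P.chi_one]
  obtain ⟨p, hp, hpz, hpc, hpT⟩ := exists_average (G := G) (E := E) (Q := Q) (Z := zGrp G a) (x := px)
    (D := P.coord) (β := β) (C := C) (hC.setup.odd_card.of_dvd_nat (Subgroup.card_dvd_of_le hCD))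
    (fun g hg u hu => conj_mem_Q hC.setup (twoPt_le (hCD hg)) hu)
    (fun g hg z hz => hC.conj_mem_zGrp (twoPt_le (hCD hg)) hz)
    chi (fun g => chi g ^ 3) (by rw [hchi1, one_pow])
    (fun g hg g' hg' => by show chi (g * g') ^ 3 = _; rw [hchimul g hg g' hg', mul_pow])
    (fun g hg u hu => by simp only [px, chi]; rw [P.conj_x g hg u hu, mul_pow])
    (fun g hg z hz => by rw [P.conj_coord g hg z hz, hmu g hg])
    (fun g hg x y => by
      show c * ((chi g * x) ^ 2 * (chi g * y)) + (c * ((chi g * x) ^ 2 * (chi g * y))) ^ 8 =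
        chi g ^ 3 * (c * (x ^ 2 * y) + (c * (x ^ 2 * y)) ^ 8)
      rw [show c * ((chi g * x) ^ 2 * (chi g * y)) = chi g ^ 3 * (c * (x ^ 2 * y)) by ring, mul_pow,
        hchi8 g hg]
      ring)
    p0 hp0 hp0z
  let T : E →+ E := AddMonoidHom.mk' (fun y => y + y ^ 8) fun y y' => by rw [hadd8]; ring
  have hpfix : ∀ u ∈ Q, p u ^ 8 = p u := fun u hu => by
    refine (CharTwo.add_eq_zero.1 (hpT T (fun _ => 0) ?_ ?_ ?_ u hu : p u + p u ^ 8 = 0)).symm
    · intro g hg y
      show chi g ^ 3 * y + (chi g ^ 3 * y) ^ 8 = chi g ^ 3 * (y + y ^ 8)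
      rw [mul_pow, hchi8 g hg]; ring
    · intro g _ y; rw [mul_zero]
    · intro v hv
      obtain ⟨z, hz, e⟩ := hp0D v hv
      show p0 v + p0 v ^ 8 = 0
      have h := P.coord_fix z hz
      norm_num at h
      rw [e, h, CharTwo.add_self_eq_zero]
  refine ⟨{
    card_E := by rw [hE]; norm_num
    c := c
    px := px
    pz := p
    pz_fix := hpfix
    inj := fun u hu u' hu' h1 h2 => ?_
    surj := fun x z hz => ?_
    mul_x := hxmul
    mul_z := fun u hu u' hu' => hp u hu u' hu'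
    chi := chi
    chi_mul := hchimul
    chi_inj := fun g hg h => P.chi_inj g hg (hFbij.1 (show P.chi g ^ N = 1 ^ N by rw [one_pow]; exact h))
    chi_K := fun k hk => by
      show (P.chi k ^ N) ^ 7 = 1
      rw [← pow_mul, mul_comm, pow_mul, hchiK k hk, one_pow]
    chi_W := fun v hv => by
      show (P.chi v ^ N) ^ 3 = 1
      rw [← pow_mul, mul_comm, pow_mul, hwpow v hv, one_pow]
    conj_x := fun g hg u hu => by simp only [px, chi]; rw [P.conj_x g hg u hu, mul_pow]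
    conj_z := hpc }⟩
  · have hm' : u⁻¹ * u' ∈ Q := Q.mul_mem (Q.inv_mem hu) hu'
    have e : u' = u * (u⁻¹ * u') := (mul_inv_cancel_left u u').symm
    have hx : px (u⁻¹ * u') = 0 := by
      have := hxmul u hu _ hm'
      rw [← e, ← h1] at this
      exact left_eq_add.1 this
    have hz := (hxker _ hm').1 hx
    have hz' := hp u hu _ hm'
    rw [← e, ← h2, hpz _ hz, hx, map_zero, add_zero] at hz'
    rw [e, P.coord_eq_zero _ hz (left_eq_add.1 hz'), mul_one]
  · obtain ⟨u, hu, rfl⟩ := hxsurj x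
    obtain ⟨z', hz', e⟩ := P.coord_surj (z + p u) (by norm_num; rw [hadd8, hz, hpfix u hu])
    refine ⟨u * z', Q.mul_mem hu (hC.zGrp_le hz'), ?_, ?_⟩
    · rw [hxmul u hu z' (hC.zGrp_le hz'), (hxker z' (hC.zGrp_le hz')).2 hz', add_zero]
    · rw [hp u hu z' (hC.zGrp_le hz'), hpz z' hz', (hxker z' (hC.zGrp_le hz')).2 hz', map_zero, add_zero, e,
        add_left_comm, CharTwo.add_self_eq_zero, add_zero]

end Ctx

/-- Lane E: coordinates of `Q`. -/
theorem coordStmt (G : Type u) {Ω : Type v} [Group G] [Finite G] [MulAction G Ω] (a : Ω) (t : G)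
    (Q : Subgroup G) : CoordStmt G a t Q := by
  intro hC hU hL hW
  obtain ⟨E, iF, iT, f, hf2, hq, hE, ⟨P⟩⟩ := hC.exists_coordPre hU hL
  haveI : CharP E 2 := PSU3Sylow.charTwo hE
  rcases hC.coord_cases hU hL hW P hf2 hq hE with ⟨r, hr, c1, c2, hB⟩ | ⟨hf3, hm, i, c1, c3, hB⟩
  · left
    obtain ⟨σ, q, hu, hQ⟩ := hC.qcoord_of_hermitian hU hL P hf2 hq hE hr hB
    exact ⟨E, iF, iT, ‹CharP E 2›, σ, q, hu, by rw [hE, hq, ← pow_mul, mul_comm], hQ⟩
  · right
    refine ⟨by rw [hq, hf3]; norm_num, hm, E, iF, iT, ?_⟩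
    exact hC.altCoord_of_cubic hU hL P hf3 hm hq hE hB

end Cfsg.Agent.RankOneClass
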