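import Cfsg.Agent.RankOneClass.Residual
import Cfsg.Agent.Zassenhaus.EvenSharp
import Cfsg.Agent.BenderTI.KTwo

/-!
The case `|Q| = q`: `Q K` and `Q K t Q` make up a sharply triply transitive group `SL₂(q)`.
-/

set_option autoImplicit false
set_option linter.unusedSectionVars false

open Subgroup MulAction

namespace Cfsg.Agent.RankOneClass

open Cfsg.Agent.RankOne Residual

universe u v

variable {G : Type u} {Ω : Type v} [Group G] [Finite G] [MulAction G Ω] {a : Ω} {t : G}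
  {Q : Subgroup G}

namespace LinCase

theorem zGrp_eq (hC : Ctx G Ω a t Q) (h : Nat.card Q = qq G a) : zGrp G a = Q :=
  eq_of_le_of_card_ge hC.zGrp_le h.le

theorem mem_I (hC : Ctx G Ω a t Q) (h : Nat.card Q = qq G a) {x : G} (hx : x ∈ Q) (hx1 : x ≠ 1) :
    x ∈ Cfsg.involutionsIn (stabilizer G a : Set G) :=
  hC.mem_invol_of_zGrp ((zGrp_eq hC h).symm ▸ hx) hx1

/-- The elements of `Q K ∪ Q K t Q`. -/
def InBruhat (G : Type u) [Group G] [MulAction G Ω] (a : Ω) (t : G) (Q : Subgroup G) (g : G) :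
    Prop :=
  ∃ q ∈ Q, ∃ k ∈ kGrp G a t, g = q * k ∨ ∃ r ∈ Q, g = q * k * t * r

theorem mul_Q {x g : G} (hx : x ∈ Q) (hg : InBruhat G a t Q g) : InBruhat G a t Q (x * g) := by
  obtain ⟨q, hq, k, hk, hg⟩ := hg
  refine ⟨x * q, mul_mem hx hq, k, hk, ?_⟩
  rcases hg with rfl | ⟨r, hr, rfl⟩
  · exact Or.inl (by group)
  · exact Or.inr ⟨r, hr, by group⟩

theorem mul_t (hC : Ctx G Ω a t Q) (h : Nat.card Q = qq G a) {g : G}
    (hg : InBruhat G a t Q g) : InBruhat G a t Q (t * g) := by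
  have hS := hC.setup
  have htt := hS.mul_self
  have htk : ∀ {k : G}, k ∈ kGrp G a t → t * k = k⁻¹ * t := fun {k} hk => by
    rw [← hC.t_conj_kGrp hk, mul_assoc, mul_assoc, htt, mul_one]
  obtain ⟨q, hq, k, hk, hg⟩ := hg
  have hkD := twoPt_le (Ctx.kGrp_le G a t hk)
  rcases hg with rfl | ⟨r, hr, rfl⟩
  · -- `t q k = k⁻¹ t (k⁻¹ q k)`
    refine ⟨1, one_mem _, k⁻¹, inv_mem hk, Or.inr ⟨k⁻¹ * q * k, conj_mem_Q' hS hkD hq, ?_⟩⟩
    rw [one_mul, ← htk hk]
    group
  · have htkt : t * k * t = k⁻¹ := hC.t_conj_kGrp hk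
    by_cases hq1 : q = 1
    · refine ⟨k⁻¹ * r * k, conj_mem_Q' hS hkD hr, k⁻¹, inv_mem hk, Or.inl ?_⟩
      calc t * (q * k * t * r) = t * k * t * r := by rw [hq1]; group
        _ = k⁻¹ * r * k * k⁻¹ := by rw [htkt]; group
    · obtain ⟨k1, hk1, r1, hr1, e⟩ := link_exists_left hS (mem_I hC h hq hq1)
      have hk1' := hC.mem_kGrp.2 hk1
      refine ⟨r1⁻¹, inv_mem hr1, k1 * k, mul_mem hk1' hk,
        Or.inr ⟨k * r1 * k⁻¹ * r, mul_mem (conj_mem_Q hS hkD hr1) hr, ?_⟩⟩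
      calc t * (q * k * t * r) = t * q * (t * t) * k * t * r := by rw [htt, mul_one]; group
        _ = (t * q * t) * (t * k * t) * r := by group
        _ = r1⁻¹ * k1 * (t * k⁻¹) * (k * r1 * k⁻¹ * r) := by rw [e, htkt]; group
        _ = r1⁻¹ * (k1 * k) * t * (k * r1 * k⁻¹ * r) := by
            rw [htk (inv_mem hk), inv_inv]; group

theorem genL_inBruhat (hC : Ctx G Ω a t Q) (h : Nat.card Q = qq G a) {g : G}
    (hg : g ∈ genL G t Q) : InBruhat G a t Q g := by
  rw [genL, show Q ⊔ closure {t} = closure ((Q : Set G) ∪ {t}) by rw [Subgroup.closure_union, closure_eq]]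
    at hg
  induction hg using closure_induction_left with
  | one => exact ⟨1, one_mem _, 1, one_mem _, Or.inl (one_mul 1).symm⟩
  | mul_left x hx y _ ih =>
    rcases hx with hx | hx
    · exact mul_Q hx ih
    · rw [Set.mem_singleton_iff.1 hx]; exact mul_t hC h ih
  | inv_mul_cancel x hx y _ ih =>
    rcases hx with hx | hx
    · exact mul_Q (inv_mem hx) ih
    · rw [Set.mem_singleton_iff.1 hx, t_inv hC.setup]; exact mul_t hC h ih

theorem twoPt_genL (hC : Ctx G Ω a t Q) (h : Nat.card Q = qq G a) :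
    ∀ d ∈ twoPt G a t, d ∈ genL G t Q → d ∈ kGrp G a t := by
  intro d hd hdL
  obtain ⟨q, hq, k, hk, hdk⟩ := genL_inBruhat hC h hdL
  have hkD := Ctx.kGrp_le G a t hk
  rcases hdk with rfl | ⟨r, hr, rfl⟩
  · have : q ∈ twoPt G a t := by simpa using mul_mem hd (inv_mem hkD)
    rwa [eq_one_of_mem_twoPt hC.setup hq this, one_mul]
  · exfalso
    refine hC.setup.not_mem ?_
    have h1 : q * k ∈ stabilizer G a := mul_mem (hC.setup.le hq) (twoPt_le hkD)
    have h3 := mul_mem (mul_mem (inv_mem h1) (twoPt_le hd)) (inv_mem (hC.setup.le hr))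
    rwa [show (q * k)⁻¹ * (q * k * t * r) * r⁻¹ = t by group] at h3

end LinCase

open LinCase in
/-- Stage A: the linear case. -/
theorem linStmt : LinStmt.{u, v} G a t Q := by
  intro hC h
  have hS := hC.setup
  have := finite_points hS
  have hW : wGrp G a t = ⊥ := eq_bot_iff.2 fun w hw => eq_one_of_cent_Q hC (hC.mem_wGrp.1 hw).1
    fun x hx => ((hC.mem_wGrp.1 hw).2 x ((zGrp_eq hC h).symm ▸ hx)).eq
  refine ⟨Or.inl ⟨h, hW⟩, genL G t Q, genL_normal hC, genL_odd_index hC, Or.inl ?_⟩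
  have hK := twoPt_genL hC h
  have hT := genL_threeFree hC hK
  have hSL := genL_setup hC
  have h3 := hC.four_le_qq
  have hcard : Nat.card Ω = qq G a + 1 := by rw [card_points hS, h]
  have C : Zassenhaus.ZCtx (genL G t Q) Ω :=
    ⟨fun hxy huv => RankOne.exists_smul_pair hSL hxy huv, hT.three⟩
  -- `K` is transitive on the points other than `a` and `t • a`
  have hKtr : ∀ c e : Ω, c ≠ a → c ≠ t • a → e ≠ a → e ≠ t • a →
      ∃ k : genL G t Q, k • a = a ∧ k • (t • a) = t • a ∧ k • c = e := by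
    intro c e hca hcb hea heb
    obtain ⟨x, hx, rfl⟩ := exists_Q_smul hS hca
    obtain ⟨y, hy, rfl⟩ := exists_Q_smul hS hea
    have hx1 : x ≠ 1 := fun e => hcb (by rw [e, one_smul])
    have hy1 : y ≠ 1 := fun e => heb (by rw [e, one_smul])
    obtain ⟨k, hk, e⟩ := exists_conj_invertedBy hS (mem_I hC h hy hy1) (mem_I hC h hx hx1)
    refine ⟨⟨k, hC.kGrp_le_genL (hC.mem_kGrp.2 hk)⟩, hk.1.1, hk.1.2, ?_⟩
    show k • x • t • a = y • t • a
    rw [← e, mul_smul, mul_smul, smul_inv_smul, (mem_twoPt.1 hk.1).2]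
  have hmap : ∀ {x y z x' y' z' : Ω}, x ≠ y → x ≠ z → y ≠ z → x' ≠ y' → x' ≠ z' → y' ≠ z' →
      ∃ g : genL G t Q, g • x = x' ∧ g • y = y' ∧ g • z = z' := by
    intro x y z x' y' z' h1 h2 h4 h1' h2' h4'
    obtain ⟨g, hga, hgb⟩ := RankOne.exists_smul_pair hSL h1 (t_smul_ne hS).symm
    obtain ⟨g', hga', hgb'⟩ := RankOne.exists_smul_pair hSL h1' (t_smul_ne hS).symm
    obtain ⟨k, hka, hkb, hkc⟩ := hKtr (g • z) (g' • z')
      (fun e => h2 (MulAction.injective g (hga.trans e.symm)))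
      (fun e => h4 (MulAction.injective g (hgb.trans e.symm)))
      (fun e => h2' (MulAction.injective g' (hga'.trans e.symm)))
      (fun e => h4' (MulAction.injective g' (hgb'.trans e.symm)))
    refine ⟨g'⁻¹ * k * g, ?_, ?_, ?_⟩ <;> rw [mul_smul, mul_smul, inv_smul_eq_iff]
    · rw [hga, hga', hka]
    · rw [hgb, hgb', hkb]
    · exact hkc
  obtain ⟨f, F, iF, iFf, -, hF, hΩ, ⟨e⟩, -⟩ := C.identify_even (by omega)
    (by rw [card_points hS]; exact hS.even_card.add_one) hmap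
  have hf : qq G a = 2 ^ f := by omega
  have hf2 : 2 ≤ f := by
    by_contra hlt
    have : 2 ^ f ≤ 2 ^ 1 := Nat.pow_le_pow_right (by norm_num) (by omega)
    omega
  have : CharP F 2 := charP_of_card_eq_prime_pow hF
  obtain ⟨e'⟩ := BenderTI.psl_equiv (F := F)
  exact ⟨F, iF, iFf, ⟨f, hf2, hF⟩, ⟨e.trans e'⟩⟩

end Cfsg.Agent.RankOneClass
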