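import Cfsg.Agent.RankOneClass.Base
import Cfsg.Agent.RankOne.SuzukiCenter
import Cfsg.Agent.S1132
import Cfsg.Agent.S1138

/-!
The order of `Q` is a power of `q`; a non-abelian `Q` has order `q²` or `q³`.
-/

set_option autoImplicit false

open Subgroup MulAction

namespace Cfsg.Agent.RankOneClass

open Cfsg.Agent.RankOne

universe u v

variable {G : Type u} {Ω : Type v} [Group G] [MulAction G Ω] {a : Ω} {t : G} {Q : Subgroup G}

/-- `2^f - 1 ∣ 2^n - 1` forces `f ∣ n`. -/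
theorem dvd_of_two_pow_sub_one {f n : ℕ} (h : 2 ^ f - 1 ∣ 2 ^ n - 1) : f ∣ n := by
  have h1 := Nat.pow_sub_one_gcd_pow_sub_one 2 f n
  rw [Nat.gcd_eq_left h] at h1
  have h2 : 2 ^ f = 2 ^ Nat.gcd f n := by
    have := Nat.one_le_pow f 2 two_pos
    have := Nat.one_le_pow (Nat.gcd f n) 2 two_pos
    omega
  exact Nat.pow_right_injective le_rfl h2 ▸ Nat.gcd_dvd_right f n

namespace Ctx

/-- `q - 1` divides `|S| - 1` for a subgroup `S ≤ Q` normalised by `K`. -/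
theorem kGrp_card_dvd [Finite G] (hC : Ctx G Ω a t Q) {S : Subgroup G} (hS : S ≤ Q)
    (hn : ∀ k ∈ kGrp G a t, ∀ x ∈ S, k * x * k⁻¹ ∈ S) : qq G a - 1 ∣ Nat.card S - 1 := by
  classical
  set X := {x : G // x ∈ S ∧ x ≠ 1}
  letI : MulAction (kGrp G a t) X :=
    { smul := fun k x => ⟨k * x * (k : G)⁻¹, hn k k.2 x x.2.1, fun e => x.2.2 (by
        simpa [mul_inv_eq_one, mul_eq_left] using e)⟩
      one_smul := fun x => Subtype.ext (show (1 : G) * x * (1 : G)⁻¹ = x by simp)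
      mul_smul := fun k l x => Subtype.ext (show (k : G) * l * x * ((k : G) * l)⁻¹ =
        k * (l * x * (l : G)⁻¹) * (k : G)⁻¹ by group) }
  have hfree : ∀ x : X, MulAction.stabilizer (kGrp G a t) x = ⊥ := by
    intro x
    refine (eq_bot_iff_forall _).2 fun k hk => Subtype.ext ?_
    by_contra hk1
    have e : (k : G) * x * (k : G)⁻¹ = x := congrArg Subtype.val (mem_stabilizer_iff.1 hk)
    exact x.2.2 (hC.kGrp_fpf k.2 hk1 (hS x.2.1) (mul_inv_eq_iff_eq_mul.1 e))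
  have h1 := Nat.card_congr (MulAction.selfEquivOrbitsQuotientProd hfree)
  rw [Nat.card_prod] at h1
  have h2 : Nat.card X + 1 = Nat.card S := by
    have e : Nat.card X = Nat.card {x : S // x ≠ 1} := Nat.card_congr
      { toFun := fun x => ⟨⟨x.1, x.2.1⟩, fun e => x.2.2 (congrArg Subtype.val e)⟩
        invFun := fun x => ⟨x.1.1, x.1.2, fun e => x.2 (Subtype.ext e)⟩
        left_inv := fun _ => rfl
        right_inv := fun _ => rfl }
    have e2 : Nat.card {x : S // x ≠ 1} = ({(1 : S)}ᶜ : Set S).ncard :=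
      Nat.card_coe_set_eq ({(1 : S)}ᶜ : Set S)
    rw [e, e2, ← Set.ncard_add_ncard_compl ({(1 : S)} : Set S), Set.ncard_singleton, add_comm]
  have hk := hC.card_kGrp
  rw [show qq G a - 1 = Nat.card (kGrp G a t) by omega, show Nat.card S - 1 = Nat.card X by omega, h1]
  exact dvd_mul_left _ _

/-- A 2-subgroup `S ≤ Q` normalised by `K` has order a power of `q`. -/
theorem card_eq_pow [Finite G] (hC : Ctx G Ω a t Q) {S : Subgroup G} (hS : S ≤ Q) (h2 : IsPGroup 2 S)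
    (hn : ∀ k ∈ kGrp G a t, ∀ x ∈ S, k * x * k⁻¹ ∈ S) : ∃ j, Nat.card S = qq G a ^ j := by
  haveI : Fact (Nat.Prime 2) := ⟨Nat.prime_two⟩
  obtain ⟨f, -, hf⟩ := hC.exists_qq_pow
  obtain ⟨n, hn'⟩ := IsPGroup.iff_card.1 h2
  have h := hC.kGrp_card_dvd hS hn
  rw [hn', hf] at h
  obtain ⟨j, rfl⟩ := dvd_of_two_pow_sub_one h
  exact ⟨j, by rw [hn', hf, pow_mul]⟩

/-- A 2-group `Q` has order a positive power of `q`. -/
theorem card_Q_pow [Finite G] (hC : Ctx G Ω a t Q) (h2 : IsPGroup 2 Q) :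
    ∃ j, 1 ≤ j ∧ Nat.card Q = qq G a ^ j := by
  obtain ⟨j, hj⟩ := hC.card_eq_pow le_rfl h2
    fun k hk x hx => conj_mem_Q hC.setup (twoPt_le (kGrp_le G a t hk)) hx
  refine ⟨j, Nat.pos_of_ne_zero fun h => ?_, hj⟩
  have h1 := card_dvd_of_le hC.zGrp_le
  rw [hj, h, pow_zero] at h1
  have := hC.four_le_qq
  have h3 : Nat.card (zGrp G a) = 1 := Nat.dvd_one.1 h1
  change qq G a = 1 at h3
  omega

/-- An element of `Q` of square `1` lies in `Z`. -/
theorem mem_zGrp_of_sq [Finite G] (hC : Ctx G Ω a t Q) {x : G} (hx : x ∈ Q) (h : x * x = 1) :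
    x ∈ zGrp G a := hC.mem_zGrp.2 ⟨hC.setup.le hx, h⟩

/-- A non-abelian 2-group `Q` is a Suzuki 2-group of order `q²` or `q³`. -/
theorem suzuki_Q [Finite G] (hC : Ctx G Ω a t Q) (h2 : IsPGroup 2 Q) (hna : ¬IsMulCommutative Q) :
    (∀ x ∈ Q, x * x ∈ zGrp G a) ∧ (∀ x ∈ Q, ∀ y ∈ Q, x⁻¹ * y⁻¹ * x * y ∈ zGrp G a) ∧
      (Nat.card Q = qq G a ^ 2 ∨ Nat.card Q = qq G a ^ 3) := by
  haveI := hC.faithful
  haveI : Fact (Nat.Prime 2) := ⟨Nat.prime_two⟩
  obtain ⟨S, hS⟩ := (h2.of_equiv (topEquiv (G := Q)).symm).exists_le_sylow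
  have hStop : (S : Subgroup Q) = ⊤ := top_le_iff.1 hS
  set P := (S : Subgroup Q)
  rcases S1132.result hC.setup hC.two S with hab | hsz
  · refine absurd ?_ hna
    exact ⟨⟨fun x y => by
      have hx : x ∈ P := hStop ▸ mem_top x
      have hy : y ∈ P := hStop ▸ mem_top y
      exact congrArg Subtype.val (hab.is_comm.comm (⟨x, hx⟩ : P) ⟨y, hy⟩)⟩⟩
  obtain ⟨h1, h1', h3, -⟩ := S1138.result hsz
  obtain ⟨hc1, hc2⟩ := isSuzuki_center hsz
  have hZ : ∀ z : P, z ∈ center P ↔ ((z : Q) : G) ∈ zGrp G a := fun z =>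
    ⟨fun hz => hC.mem_zGrp_of_sq (z : Q).2
      (congrArg (fun w : P => ((w : Q) : G)) (hc2 z hz)),
    fun hz => hc1 z (Subtype.ext (Subtype.ext (hC.zGrp_sq hz)))⟩
  have hmem : ∀ x : Q, x ∈ P := fun x => hStop ▸ mem_top x
  have hcardP : Nat.card P = Nat.card Q := by rw [hStop, card_top]
  have hcardZ : Nat.card (center P) = qq G a := Nat.card_congr
    { toFun := fun z => ⟨((z.1 : Q) : G), (hZ z.1).1 z.2⟩
      invFun := fun z => ⟨⟨⟨z.1, hC.zGrp_le z.2⟩, hmem _⟩, (hZ _).2 z.2⟩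
      left_inv := fun _ => rfl
      right_inv := fun _ => rfl }
  rw [hcardZ, hcardP] at h3
  exact ⟨fun x hx => (hZ _).1 (h1 ⟨⟨x, hx⟩, hmem _⟩),
    fun x hx y hy => (hZ _).1 (h1' ⟨⟨x, hx⟩, hmem _⟩ ⟨⟨y, hy⟩, hmem _⟩), h3⟩

/-- A non-abelian 2-group `Q` of order `q³` satisfies `IsUni`. -/
theorem isUni [Finite G] (hC : Ctx G Ω a t Q) (h2 : IsPGroup 2 Q) (hna : ¬IsMulCommutative Q)
    (hc : Nat.card Q = qq G a ^ 3) : IsUni G a Q := by
  obtain ⟨h1, h1', -⟩ := hC.suzuki_Q h2 hna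
  exact ⟨h2, hc, h1, h1', fun x hx h => hC.mem_zGrp_of_sq hx h⟩

end Ctx

end Cfsg.Agent.RankOneClass
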