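import Cfsg.Agent.RankOneClass.Base
import Cfsg.Agent.RankOne.Zassenhaus
import Cfsg.Agent.RankOne.Central

/-!
The subgroup generated by `Q` and `t`: it is normal of odd index, inherits the set-up, and is a
simple Zassenhaus group as soon as its two-point stabiliser consists of inverted elements.
-/

set_option autoImplicit false
set_option linter.unusedSectionVars false

open Subgroup MulAction

namespace Cfsg.Agent.RankOneClass.Residual

open Cfsg.Agent.RankOne

universe u v

variable {G : Type u} {Ω : Type v} [Group G] [MulAction G Ω] {a : Ω} {t : G} {Q : Subgroup G}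

section Basics

variable [Finite G]

/-- A non-identity inverted element fixes only `a` and `t • a`. -/
theorem kGrp_free (hC : Ctx G Ω a t Q) {k : G} (hk : k ∈ kGrp G a t) {c : Ω} (hca : c ≠ a)
    (hcb : c ≠ t • a) (h : k • c = c) : k = 1 := by
  have hS := hC.setup
  by_contra hk1
  obtain ⟨u, hu, rfl⟩ := exists_Q_smul hS hca
  have hkD := Ctx.kGrp_le G a t hk
  have h1 : (k * u * k⁻¹) • (t • a) = u • (t • a) := by
    rw [mul_smul, mul_smul, inv_smul_eq_iff.2 (mem_twoPt.1 hkD).2.symm, h]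
  have h2 := Q_smul_inj hS (conj_mem_Q hS (twoPt_le hkD) hu) hu (t_smul_ne hS) h1
  have h3 : u ∈ Q ⊓ centralizer ({k} : Set G) :=
    mem_inf.2 ⟨hu, mem_centralizer_singleton_iff.2 (mul_inv_eq_iff_eq_mul.1 h2).symm⟩
  rw [inf_centralizer_inverted hS (hC.mem_kGrp.1 hk) hk1, mem_bot] at h3
  exact hcb (by rw [h3, one_smul])

/-- An element of the two-point stabiliser centralising `Q` is trivial. -/
theorem eq_one_of_cent_Q (hC : Ctx G Ω a t Q) {w : G} (hw : w ∈ twoPt G a t)
    (h : ∀ x ∈ Q, w * x = x * w) : w = 1 := by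
  have := hC.faithful
  refine FaithfulSMul.eq_of_smul_eq_smul (α := Ω) fun c => ?_
  rw [one_smul]
  by_cases hc : c = a
  · rw [hc]; exact (mem_twoPt.1 hw).1
  obtain ⟨x, hx, rfl⟩ := exists_Q_smul hC.setup hc
  rw [← mul_smul, h x hx, mul_smul, (mem_twoPt.1 hw).2]

end Basics

section GenL

variable [Finite G]

theorem le_genL : Q ≤ genL G t Q := le_sup_left

theorem t_mem_genL : t ∈ genL G t Q :=
  (le_sup_right : closure {t} ≤ genL G t Q) (subset_closure (Set.mem_singleton t))

theorem conj_t_mem (hC : Ctx G Ω a t Q) {d : G} (hd : d ∈ twoPt G a t) :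
    d * t * d⁻¹ ∈ genL G t Q := by
  obtain ⟨k, hk, w, hw, rfl⟩ := hC.exists_kv hd
  have h1 : k * w * t * (k * w)⁻¹ = k * k * t := by
    calc k * w * t * (k * w)⁻¹ = k * (w * t) * w⁻¹ * k⁻¹ := by group
      _ = k * (t * w) * w⁻¹ * k⁻¹ := by rw [((Ctx.mem_vGrp.1 hw).2).eq]
      _ = k * t * k⁻¹ := by group
      _ = k * t * (t * k * t) := by rw [hC.t_conj_kGrp hk]
      _ = k * (t * t) * k * t := by group
      _ = k * k * t := by rw [hC.setup.mul_self, mul_one]
  rw [h1]
  exact mul_mem (hC.kGrp_le_genL (mul_mem hk hk)) t_mem_genL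

theorem genL_normal (hC : Ctx G Ω a t Q) : (genL G t Q).Normal := by
  have hS := hC.setup
  rw [← normalizer_eq_top_iff, eq_top_iff]
  have hQ : Q ≤ normalizer (genL G t Q : Set G) := le_genL.trans le_normalizer
  have ht : t ∈ normalizer (genL G t Q : Set G) := le_normalizer t_mem_genL
  have hD : twoPt G a t ≤ normalizer (genL G t Q : Set G) := by
    refine Subgroup.le_normalizer_iff.2 fun d hd x hx => ?_
    have hle : genL G t Q ≤ (genL G t Q).comap (MulAut.conj d).toMonoidHom := by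
      refine sup_le (fun y hy => ?_) ((closure_le _).2 ?_)
      · show d * y * d⁻¹ ∈ genL G t Q
        exact le_genL (conj_mem_Q hS (twoPt_le hd) hy)
      · rintro y rfl
        exact conj_t_mem hC hd
    exact hle hx
  intro g _
  by_cases hg : g ∈ stabilizer G a
  · obtain ⟨q, hq, d, hd, rfl⟩ := stabilizer_split hS hg
    exact mul_mem (hQ hq) (hD hd)
  · obtain ⟨⟨p, q⟩, hp, hq, rfl⟩ := form_exists hS hg
    obtain ⟨q', hq', d, hd, e⟩ := stabilizer_split hS hp
    change p = _ at e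
    subst e
    exact mul_mem (mul_mem (mul_mem (hQ hq') (hD hd)) ht) (hQ hq)

theorem genL_odd_index (hC : Ctx G Ω a t Q) : Odd (genL G t Q).index := by
  have : Fact (Nat.Prime 2) := ⟨Nat.prime_two⟩
  obtain ⟨P, hP⟩ := exists_sylow hC.setup
  have h := P.not_dvd_index
  exact Nat.not_even_iff_odd.1 fun he =>
    h ((even_iff_two_dvd.1 he).trans (index_dvd_of_le (hP.trans le_genL)))

theorem genL_setup (hC : Ctx G Ω a t Q) :
    Cfsg.IsRankOneSetup (genL G t Q) Ω a ⟨t, t_mem_genL⟩ (Q.subgroupOf (genL G t Q)) := by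
  have hS := hC.setup
  have htr : ∀ c : Ω, ∃ g : genL G t Q, g • c = a := by
    intro c
    by_cases hc : c = a
    · exact ⟨1, by rw [one_smul, hc]⟩
    obtain ⟨q, hq, rfl⟩ := exists_Q_smul hS hc
    refine ⟨⟨t * q⁻¹, mul_mem t_mem_genL (inv_mem (le_genL hq))⟩, ?_⟩
    show (t * q⁻¹) • q • t • a = a
    rw [mul_smul, inv_smul_smul, t_smul_smul hS]
  refine ⟨?_, Subtype.ext hS.mul_self, fun e => hS.ne_one (congrArg Subtype.val e),
    fun h => hS.not_mem h, fun x hx => hS.le hx, fun h hh x hx => ?_, ?_, ?_, ?_, ?_⟩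
  · rw [is_two_pretransitive_iff]
    intro x y z w hxy hzw
    obtain ⟨g, hg⟩ := htr x
    obtain ⟨h, hh⟩ := htr z
    have hy : g • y ≠ a := fun e => hxy (MulAction.injective g (hg.trans e.symm))
    have hw : h • w ≠ a := fun e => hzw (MulAction.injective h (hh.trans e.symm))
    obtain ⟨q, hq, -⟩ := regular hS hy hw
    let q' : genL G t Q := ⟨q, le_genL q.2⟩
    refine ⟨h⁻¹ * q' * g, ?_, ?_⟩
    · rw [mul_smul, mul_smul, hg, show q' • a = a from hS.le q.2, inv_smul_eq_iff, hh]
    · rw [mul_smul, mul_smul, show q' • g • y = h • w from hq, inv_smul_smul]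
  · rw [mem_subgroupOf] at hx ⊢
    exact hS.conj_mem h hh x hx
  · refine eq_bot_iff.2 fun x ⟨hx, hxb⟩ => ?_
    exact Subtype.ext (eq_one_of_mem hS hx hxb)
  · refine le_antisymm (sup_le (fun x hx => hS.le hx) inf_le_left) fun x hx => ?_
    obtain ⟨q, hq, d, hd, e⟩ := stabilizer_split hS (show (x : G) ∈ stabilizer G a from hx)
    let q' : genL G t Q := ⟨q, le_genL hq⟩
    have hd' : q'⁻¹ * x ∈ stabilizer (genL G t Q) a ⊓
        stabilizer (genL G t Q) ((⟨t, t_mem_genL⟩ : genL G t Q) • a) := by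
      have : (q⁻¹ * (x : G)) = d := by rw [e, inv_mul_cancel_left]
      exact ⟨show (q⁻¹ * (x : G)) • a = a from this ▸ hd.1,
        show (q⁻¹ * (x : G)) • (t • a) = t • a from this ▸ hd.2⟩
    rw [← mul_inv_cancel_left q' x]
    exact mul_mem_sup (show q' ∈ Q.subgroupOf (genL G t Q) from hq) hd'
  · rw [Nat.card_congr (subgroupOfEquivOfLe le_genL).toEquiv]
    exact hS.even_card
  · refine hS.odd_card.of_dvd_nat ?_
    rw [← card_map_of_injective (genL G t Q).subtype_injective]
    refine card_dvd_of_le ?_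
    rintro _ ⟨x, hx, rfl⟩
    exact ⟨hx.1, hx.2⟩

theorem genL_two (hC : Ctx G Ω a t Q) :
    ∃ x y : genL G t Q, x ≠ 1 ∧ y ≠ 1 ∧ x ≠ y ∧ x * x = 1 ∧ y * y = 1 ∧ x * y = y * x := by
  have hS := hC.setup
  obtain ⟨s, hs, s', hs', hne, -⟩ := exists_two_invol hS hC.two
  refine ⟨⟨s, le_genL (mem_I_Q hS hs)⟩, ⟨s', le_genL (mem_I_Q hS hs')⟩,
    fun e => hs.2.1 (congrArg Subtype.val e), fun e => hs'.2.1 (congrArg Subtype.val e),
    fun e => hne (congrArg Subtype.val e), Subtype.ext hs.2.2, Subtype.ext hs'.2.2,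
    Subtype.ext (invol_central hS hC.two hs (mem_I_Q hS hs'))⟩

theorem genL_threeFree (hC : Ctx G Ω a t Q)
    (hK : ∀ d ∈ twoPt G a t, d ∈ genL G t Q → d ∈ kGrp G a t) :
    IsThreeFree (genL G t Q) Ω := by
  have hS := hC.setup
  have hSL := genL_setup hC
  have := hC.faithful
  refine ⟨⟨fun {m₁ m₂} h => Subtype.ext (FaithfulSMul.eq_of_smul_eq_smul (α := Ω) h)⟩,
    hSL.two_transitive, ?_, ?_⟩
  · intro g x y z hxy hyz hxz hx hy hz
    obtain ⟨h, hha, hhb⟩ := RankOne.exists_smul_pair hSL hxy (t_smul_ne hS).symm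
    set g' := h * g * h⁻¹ with hg'
    have hfix : ∀ c : Ω, g • c = c → g' • (h • c) = h • c := fun c hc => by
      rw [hg', mul_smul, mul_smul, inv_smul_smul, hc]
    have h1 := hfix x hx
    have h2 := hfix y hy
    rw [hha] at h1
    rw [hhb] at h2
    have hk : (g' : G) ∈ kGrp G a t := hK _ ⟨h1, h2⟩ g'.2
    have h3 : (g' : G) = 1 := kGrp_free hC hk
      (fun e => hxz (MulAction.injective h (hha.trans e.symm)))
      (fun e => hyz (MulAction.injective h (hhb.trans e.symm))) (hfix z hz)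
    exact conj_eq_one_iff.1 (Subtype.ext h3 : h * g * h⁻¹ = 1)
  · have h3 := hC.four_le_qq
    have hc := hC.card_kGrp
    have hne : kGrp G a t ≠ ⊥ := fun e => by rw [e, Subgroup.card_bot] at hc; omega
    obtain ⟨k, hk, hk1⟩ := (bot_or_exists_ne_one _).resolve_left hne
    have hkD := mem_twoPt.1 (Ctx.kGrp_le G a t hk)
    exact ⟨⟨k, hC.kGrp_le_genL hk⟩, fun e => hk1 (congrArg Subtype.val e), a, t • a,
      (t_smul_ne hS).symm, hkD.1, hkD.2⟩

end GenL

/-- In odd degree a three-free group has no regular normal subgroup. -/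
theorem no_regular_normal {H : Type*} [Group H] [Finite H] {Ψ : Type*} [MulAction H Ψ] [Finite Ψ]
    (hT : IsThreeFree H Ψ) (hodd : Odd (Nat.card Ψ)) (M : Subgroup H) (hM : M.Normal)
    (hMt : IsPretransitive M Ψ) : ∃ c : Ψ, stabilizer M c ≠ ⊥ := by
  by_contra! h
  obtain ⟨g, -, c, e, hce, -⟩ := hT.two
  have hexp := hT.regular_exponent_two hMt h
  have hidx : Nat.card M = Nat.card Ψ := by
    rw [← index_stabilizer_of_transitive M c, h c, index_bot]
  obtain ⟨m, hm⟩ := exists_smul_eq M c e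
  have hm1 : m ≠ 1 := fun hm' => hce (by rw [← hm, hm', one_smul])
  have hord : orderOf m = 2 :=
    orderOf_eq_prime (by rw [pow_two]; exact Subtype.ext (hexp m m.2)) hm1
  have h2 : 2 ∣ Nat.card Ψ := hidx ▸ hord ▸ orderOf_dvd_natCard m
  exact Nat.not_even_iff_odd.2 hodd (even_iff_two_dvd.2 h2)

/-- A three-free group of odd degree with a rank-one set-up is simple. -/
theorem simple_of_threeFree {H : Type*} [Group H] [Finite H] {Ψ : Type*} [MulAction H Ψ]
    {b : Ψ} {s : H} {R : Subgroup H} (hT : IsThreeFree H Ψ) (hS : Cfsg.IsRankOneSetup H Ψ b s R)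
    (hgen : R ⊔ closure {s} = ⊤) : IsSimpleGroup H := by
  have := finite_points hS
  have hodd : Odd (Nat.card Ψ) := by rw [card_points hS]; exact hS.even_card.add_one
  have : Nontrivial H := ⟨⟨s, 1, hS.ne_one⟩⟩
  refine ⟨fun N hN => or_iff_not_imp_left.2 fun hne => ?_⟩
  have hle : R ≤ N := hT.kernel_le (no_regular_normal hT hodd) hne hS.le hS.conj_mem
    fun c e hc he => regular hS hc he
  rw [eq_top_iff, ← hgen]
  refine sup_le hle ((closure_le _).2 (Set.singleton_subset_iff.2 ?_))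
  obtain ⟨g, hg⟩ := exists_conj_mem_stabilizer hS hS.mul_self
  have h2 : g * s * g⁻¹ * (g * s * g⁻¹) = 1 := by
    rw [conj_mul, hS.mul_self, mul_one, mul_inv_cancel]
  have h3 := hN.conj_mem _ (hle (invol_mem_Q hS hg h2)) g⁻¹
  simpa [mul_assoc] using h3

section Conclusions

variable [Finite G]

theorem genL_top : Q.subgroupOf (genL G t Q) ⊔ closure {(⟨t, t_mem_genL⟩ : genL G t Q)} = ⊤ := by
  apply map_injective (genL G t Q).subtype_injective
  rw [Subgroup.map_sup, MonoidHom.map_closure, Set.image_singleton, ← MonoidHom.range_eq_map,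
    range_subtype, subgroupOf_map_subtype, inf_eq_left.2 le_genL]
  rfl

theorem genL_simple (hC : Ctx G Ω a t Q)
    (hK : ∀ d ∈ twoPt G a t, d ∈ genL G t Q → d ∈ kGrp G a t) :
    IsSimpleGroup (genL G t Q) :=
  simple_of_threeFree (genL_threeFree hC hK) (genL_setup hC) genL_top

theorem genL_zassenhaus (hC : Ctx G Ω a t Q)
    (hK : ∀ d ∈ twoPt G a t, d ∈ genL G t Q → d ∈ kGrp G a t) :
    Cfsg.IsZassenhausGroup (genL G t Q) Ω := by
  have := finite_points hC.setup
  have hT := genL_threeFree hC hK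
  exact ⟨hT.faithful, hT.two_transitive, hT.three, hT.two, no_regular_normal hT
    (by rw [card_points hC.setup]; exact hC.setup.even_card.add_one)⟩

end Conclusions

end Cfsg.Agent.RankOneClass.Residual
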