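import Cfsg.Agent.RankOneClass.BaseCard

/-!
The assembly of the classification of the rank-one groups from its stages.
-/

set_option autoImplicit false

open Subgroup MulAction

namespace Cfsg.Agent.RankOneClass

open Cfsg.Agent.RankOne

universe u v

/-- All the stages of the proof. -/
structure Stages : Prop where
  pgroup : ∀ (G : Type u) [Group G] [Finite G] (Ω : Type v) [MulAction G Ω] (a : Ω) (t : G)
    (Q : Subgroup G), PGroupStmt.{u, v} G a t Q
  abelian : ∀ (G : Type u) [Group G] [Finite G] (Ω : Type v) [MulAction G Ω] (a : Ω) (t : G)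
    (Q : Subgroup G), AbelianStmt.{u, v} G a t Q
  lin : ∀ (G : Type u) [Group G] [Finite G] (Ω : Type v) [MulAction G Ω] (a : Ω) (t : G)
    (Q : Subgroup G), LinStmt.{u, v} G a t Q
  square : ∀ (G : Type u) [Group G] [Finite G] (Ω : Type v) [MulAction G Ω] (a : Ω) (t : G)
    (Q : Subgroup G), SquareStmt.{u, v} G a t Q
  lines : ∀ (G : Type u) [Group G] [Finite G] (Ω : Type v) [MulAction G Ω] (a : Ω) (t : G)
    (Q : Subgroup G), LinesStmt.{u, v} G a t Q
  wLarge : ∀ (G : Type u) [Group G] [Finite G] (Ω : Type v) [MulAction G Ω] (a : Ω) (t : G)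
    (Q : Subgroup G), WLargeStmt.{u, v} G a t Q
  coord : ∀ (G : Type u) [Group G] [Finite G] (Ω : Type v) [MulAction G Ω] (a : Ω) (t : G)
    (Q : Subgroup G), CoordStmt.{u, v} G a t Q
  recog : ∀ (G : Type u) [Group G] [Finite G] (Ω : Type v) [MulAction G Ω] (a : Ω) (t : G)
    (Q : Subgroup G), RecogStmt.{u, v} G a t Q
  eight : ∀ (G : Type u) [Group G] [Finite G] (Ω : Type v) [MulAction G Ω] (a : Ω) (t : G)
    (Q : Subgroup G), EightStmt.{u, v} G a t Q

theorem concl_of_stages (H : Stages.{u, v}) (n : ℕ) :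
    ∀ (G : Type u) [Group G] [Finite G] (Ω : Type v) [MulAction G Ω] (a : Ω) (t : G)
      (Q : Subgroup G), Nat.card G < n → Ctx G Ω a t Q → Concl G a t Q := by
  induction n with
  | zero => intro G _ _ Ω _ a t Q h _; exact absurd h (Nat.not_lt_zero _)
  | succ n ih =>
    intro G _ _ Ω _ a t Q hn hC
    have IH : IndHyp.{u, v} (Nat.card G) := fun K _ _ Ψ _ b t' R hlt hC' =>
      (ih K Ψ b t' R (lt_of_lt_of_le hlt (Nat.lt_succ_iff.1 hn)) hC').1
    have h2 := H.pgroup G Ω a t Q hC IH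
    by_cases hab : IsMulCommutative Q
    · rcases H.abelian G Ω a t Q hC IH h2 hab with h | h
      · exact H.lin G Ω a t Q hC h
      · exact H.square G Ω a t Q hC h2 h
    obtain ⟨-, -, h | h⟩ := hC.suzuki_Q h2 hab
    · exact H.square G Ω a t Q hC h2 h
    have hU := hC.isUni h2 hab h
    have hL := H.lines G Ω a t Q hC IH hU
    have hW := H.wLarge G Ω a t Q hC hU hL
    rcases H.coord G Ω a t Q hC hU hL hW with
      ⟨E, _, _, _, σ, q, hu, hE, ⟨c⟩⟩ | ⟨h8, h3, E, _, _, ⟨c⟩⟩
    · exact H.recog G Ω a t Q hC hU hL hW E σ q hu hE c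
    · exact (H.eight G Ω a t Q hC hU hL h8 h3 E c).elim

theorem classification_of_stages (H : Stages.{u, v}) {G : Type u} {Ω : Type v} [Group G] [Finite G]
    [MulAction G Ω] {a : Ω} {t : G} {Q : Subgroup G} (hC : Ctx G Ω a t Q) : Concl G a t Q :=
  concl_of_stages H (Nat.card G + 1) G Ω a t Q (Nat.lt_succ_self _) hC

end Cfsg.Agent.RankOneClass
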