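import Cfsg.Agent.RankOneClass.Recog.Vec
import Cfsg.Agent.RankOneClass.Residual

/-!
Recognition of `PSU₃(q)` from coordinates on `Q` (Stage F of the classification of rank-one groups).
-/

set_option autoImplicit false

open Subgroup MulAction

namespace Cfsg.Agent.RankOneClass

open Cfsg.Agent.RankOne AutPSU PSU3Sylow Recog

universe u v

/-- Recognition of `PSU₃(q)`. -/
theorem recog {G : Type u} {Ω : Type v} [Group G] [Finite G] [MulAction G Ω] (a : Ω) (t : G)
    (Q : Subgroup G) : RecogStmt.{u, v} G a t Q := by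
  intro hC hUni hL hW E _ _ _ σ q hu hcard C₀
  have := hC.faithful
  obtain ⟨C, hN⟩ := exists_normed hC hL.link_mem C₀
  obtain ⟨B⟩ := exists_base0 C hC hL hN
  obtain ⟨f, hf, hfq⟩ := hC.exists_qq_pow
  have hqq : q = qq G a := C.q_eq
  refine ⟨Or.inr (Or.inr ⟨hUni.card, hW⟩), genL G t Q, Residual.genL_normal hC,
    Residual.genL_odd_index hC, Or.inr (Or.inr ⟨E, inferInstance, inferInstance, f, hf, ?_, ?_⟩)⟩
  · rw [hcard, hfq]
  let φ : Option (Heis hu) → Ω := fun o => o.elim a (pt C)
  have hbij : Function.Bijective φ := by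
    constructor
    · rintro (_ | x) (_ | y) h
      · rfl
      · exact absurd h.symm (pt_ne C hC y)
      · exact absurd h (pt_ne C hC x)
      · exact congrArg some (pt_inj C hC h)
    · intro p
      by_cases hp : p = a
      · exact ⟨none, hp.symm⟩
      · obtain ⟨x, hx⟩ := pt_surj C hC hp
        exact ⟨some x, hx⟩
  have hgen : genL G t Q = Subgroup.closure (Set.range (elt C) ∪ {t}) := by
    rw [Subgroup.closure_union, genL]
    congr 1
    rw [show Set.range (elt C) = (Q : Set G) from Set.ext fun x =>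
      ⟨fun ⟨y, hy⟩ => hy ▸ elt_mem C y, fun hx => ⟨_, elt_toHeis C ⟨x, hx⟩⟩⟩, closure_eq]
  have hq : 3 ≤ q := by have := hC.four_le_qq; omega
  obtain ⟨e⟩ := psu_of_formula (hu := hu) hq (Equiv.ofBijective φ hbij) (elt C) t
    (fun x => smul_a_of_mem_Q hC.setup (elt_mem C x)) (fun x y => smul_pt C x y)
    (pt_one C).symm (by
      show t • pt C 1 = a
      rw [pt_one, t_smul_smul hC.setup])
    (fun x hx => t_formula hC hL hN B hx)
  exact ⟨((MulEquiv.subgroupCongr hgen).trans e).trans (hqq.trans hfq ▸ MulEquiv.refl _)⟩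

end Cfsg.Agent.RankOneClass
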