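import Cfsg.Agent.RankOneClass.SqChar
import Cfsg.Agent.RankOneClass.BaseCard
import Cfsg.Agent.RankOneClass.Residual
import Cfsg.Agent.RankOne.AbelianKernel
import Cfsg.Agent.SuzukiUniq.Iso
import Cfsg.Agent.S1133

/-!
The case `|Q| = q²`: squaring identifies `Q/Z` with `Z`, so `W = 1`; the linear characters of the
point stabiliser trivial on `Q K` extend, so `⟨Q, t⟩` is a Zassenhaus group, hence a Suzuki group.
-/

set_option autoImplicit false
set_option linter.unusedSectionVars false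

open Subgroup MulAction

namespace Cfsg.Agent.RankOneClass

open Cfsg.Agent.RankOne Residual

universe u v

variable {G : Type u} {Ω : Type v} [Group G] [Finite G] [MulAction G Ω] {a : Ω} {t : G}
  {Q : Subgroup G}

namespace SqCase

theorem zGrp_ne (hC : Ctx G Ω a t Q) (hN : Nat.card Q = qq G a ^ 2) :
    ∃ y ∈ Q, y ∉ zGrp G a := by
  refine SetLike.exists_of_lt (lt_of_le_of_ne hC.zGrp_le fun e => ?_)
  have h1 : qq G a = qq G a ^ 2 := by rw [← hN, ← e]; rfl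
  have := hC.four_le_qq
  nlinarith

/-- Squares lie in `Z`. -/
theorem sq_mem (hC : Ctx G Ω a t Q) (h2 : IsPGroup 2 Q) (hN : Nat.card Q = qq G a ^ 2) :
    ∀ x ∈ Q, x * x ∈ zGrp G a := by
  by_cases hab : IsMulCommutative Q
  swap
  · exact (hC.suzuki_Q h2 hab).1
  have hcomm : ∀ x y : Q, x * y = y * x := fun x y => hab.is_comm.comm x y
  let sq : Q →* G :=
    { toFun := fun x => ((x * x : Q) : G)
      map_one' := by simp
      map_mul' := fun x y => by
        rw [← Subgroup.coe_mul]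
        refine congrArg Subtype.val ?_
        calc x * y * (x * y) = x * (y * x) * y := by simp only [mul_assoc]
          _ = x * (x * y) * y := by rw [hcomm x y]
          _ = x * x * (y * y) := by simp only [mul_assoc] }
  have hker : sq.ker = (zGrp G a).subgroupOf Q := by
    ext x
    show ((x * x : Q) : G) = 1 ↔ (x : G) ∈ zGrp G a
    exact ⟨fun h => hC.mem_zGrp_of_sq x.2 (by simpa using h),
      fun h => by simpa using hC.zGrp_sq h⟩
  have hcard : Nat.card sq.range = qq G a := by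
    have h := card_mul_index sq.ker
    rw [index_ker sq, hker, Nat.card_congr (subgroupOfEquivOfLe hC.zGrp_le).toEquiv, hN] at h
    exact Nat.eq_of_mul_eq_mul_left (show 0 < Nat.card (zGrp G a) from Nat.card_pos)
      (h.trans (pow_two (qq G a)))
  have : Fact (Nat.Prime 2) := ⟨Nat.prime_two⟩
  have h2d : 2 ∣ Nat.card sq.range := by
    obtain ⟨f, hf, e⟩ := hC.exists_qq_pow
    rw [hcard, e]
    exact dvd_pow_self 2 (by omega)
  obtain ⟨z, hz⟩ := exists_prime_orderOf_dvd_card' 2 h2d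
  rw [← Subgroup.orderOf_coe] at hz
  obtain ⟨x, hx⟩ := z.2
  have hz2 : (z : G) * z = 1 := by rw [← pow_two, ← hz, pow_orderOf_eq_one]
  have hz1 : (z : G) ≠ 1 := fun e => by rw [e, orderOf_one] at hz; omega
  have hzQ : (z : G) ∈ zGrp G a :=
    hC.mem_zGrp_of_sq (hx ▸ (x * x : Q).2) hz2
  have hle : zGrp G a ≤ sq.range := by
    intro z' hz'
    by_cases h1 : z' = 1
    · rw [h1]; exact one_mem _
    obtain ⟨k, hk, rfl⟩ := hC.exists_kGrp_conj hzQ hz1 hz' h1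
    refine ⟨⟨k * x * k⁻¹, conj_mem_Q hC.setup (twoPt_le (Ctx.kGrp_le G a t hk)) x.2⟩, ?_⟩
    rw [← hx]
    show k * x * k⁻¹ * (k * x * k⁻¹) = k * ((x : G) * x) * k⁻¹
    group
  have heq : zGrp G a = sq.range := eq_of_le_of_card_ge hle hcard.le
  intro y hy
  rw [heq]
  exact ⟨⟨y, hy⟩, rfl⟩

/-- Squaring is injective on the cosets of `Z`. -/
theorem sq_inj (hC : Ctx G Ω a t Q) (h2 : IsPGroup 2 Q) (hN : Nat.card Q = qq G a ^ 2) {y y' : G}
    (hy : y ∈ Q) (hy1 : y ∉ zGrp G a) (hy' : y' ∈ Q) (h : y * y = y' * y') :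
    y⁻¹ * y' ∈ zGrp G a := by
  classical
  have := Fintype.ofFinite G
  set T := {z : G // z ∈ zGrp G a ∧ z ≠ 1}
  let P := {x : Q // (x : G) ∉ zGrp G a}
  let F : T → Type u := fun z => {x : Q // (x : G) * x = z.1}
  have hne : ∀ x ∈ Q, x ∉ zGrp G a → x * x ≠ 1 := fun x hx hx1 e => hx1 (hC.mem_zGrp_of_sq hx e)
  have hmem : ∀ z : T, ∀ x : F z, (x.1 : G) ∉ zGrp G a := fun z x hx => z.2.2 (by
    have e : (x.1 : G) * x.1 = z.1 := x.2
    rw [← e, hC.zGrp_sq hx])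
  let e : P ≃ Σ z : T, F z :=
    { toFun := fun x => ⟨⟨_, sq_mem hC h2 hN _ x.1.2, hne _ x.1.2 x.2⟩, ⟨x.1, rfl⟩⟩
      invFun := fun p => ⟨p.2.1, hmem p.1 p.2⟩
      left_inv := fun x => rfl
      right_inv := by
        rintro ⟨⟨z, hz⟩, ⟨x, hx⟩⟩
        dsimp only at hx
        subst hx
        rfl }
  have hy1' : y * y ≠ 1 := hne y hy hy1
  let z₀ : T := ⟨y * y, sq_mem hC h2 hN y hy, hy1'⟩
  have hconst : ∀ z : T, Nat.card (F z) = Nat.card (F z₀) := by
    intro z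
    obtain ⟨k, hk, e'⟩ := hC.exists_kGrp_conj z₀.2.1 z₀.2.2 z.2.1 z.2.2
    have hka := twoPt_le (Ctx.kGrp_le G a t hk)
    refine (Nat.card_congr (α := F z₀) (β := F z)
      { toFun := fun x => ⟨⟨k * x.1 * k⁻¹, conj_mem_Q hC.setup hka x.1.2⟩, ?_⟩
        invFun := fun x => ⟨⟨k⁻¹ * x.1 * k, conj_mem_Q' hC.setup hka x.1.2⟩, ?_⟩
        left_inv := fun x => Subtype.ext (Subtype.ext (by simp [mul_assoc]))
        right_inv := fun x => Subtype.ext (Subtype.ext (by simp [mul_assoc])) }).symm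
    · show k * (x.1 : G) * k⁻¹ * (k * (x.1 : G) * k⁻¹) = z.1
      rw [← e', conj_mul, show (x.1 : G) * x.1 = z₀.1 from x.2]
    · show k⁻¹ * (x.1 : G) * k * (k⁻¹ * (x.1 : G) * k) = z₀.1
      rw [show k⁻¹ * (x.1 : G) * k * (k⁻¹ * (x.1 : G) * k) = k⁻¹ * ((x.1 : G) * x.1) * k by group,
        show (x.1 : G) * x.1 = z.1 from x.2, ← e']
      group
  have hq := hC.four_le_qq
  have hT : Nat.card T + 1 = qq G a := by
    rw [← hC.card_involutions]
    exact congrArg (· + 1) (Nat.card_congr (Equiv.subtypeEquivRight fun z =>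
      ⟨fun h => hC.mem_invol_of_zGrp h.1 h.2, fun h => ⟨subset_closure h, h.2.1⟩⟩))
  have hP : Nat.card P + qq G a = qq G a ^ 2 := by
    let e' : {x : Q // (x : G) ∈ zGrp G a} ≃ zGrp G a :=
      { toFun := fun x => ⟨x.1, x.2⟩
        invFun := fun z => ⟨⟨z, hC.zGrp_le z.2⟩, z.2⟩
        left_inv := fun _ => rfl
        right_inv := fun _ => rfl }
    rw [← hN, show qq G a = Nat.card {x : Q // (x : G) ∈ zGrp G a} from (Nat.card_congr e').symm,
      Nat.card_eq_fintype_card, Nat.card_eq_fintype_card, Nat.card_eq_fintype_card,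
      show Fintype.card P = _ from Fintype.card_subtype_compl (fun x : Q => (x : G) ∈ zGrp G a),
      Nat.sub_add_cancel (Fintype.card_subtype_le _)]
  have hF : Nat.card (F z₀) = qq G a := by
    have h1 : Nat.card P = Nat.card T * Nat.card (F z₀) := by
      rw [Nat.card_congr e, Nat.card_sigma, Finset.sum_congr rfl fun z _ => hconst z,
        Finset.sum_const, Finset.card_univ, smul_eq_mul, ← Nat.card_eq_fintype_card]
    nlinarith
  let φ : zGrp G a → F z₀ := fun z => ⟨⟨y * z, mul_mem hy (hC.zGrp_le z.2)⟩, by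
    show y * (z : G) * (y * z) = y * y
    rw [mul_assoc, ← mul_assoc (z : G) y, (hC.zGrp_central z.2 hy).eq, mul_assoc y (z : G),
      hC.zGrp_sq z.2, mul_one]⟩
  have hinj : Function.Injective φ := fun z z' e' => Subtype.ext
    (mul_left_cancel (congrArg (fun x : F z₀ => (x.1 : G)) e'))
  obtain ⟨z, hz⟩ := (hinj.bijective_of_nat_card_le hF.le).2 ⟨⟨y', hy'⟩, h.symm⟩
  have e' : y * (z : G) = y' := congrArg (fun x : F z₀ => (x.1 : G)) hz
  rw [← e', inv_mul_cancel_left]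
  exact z.2

/-- `K` is transitive on the non-trivial cosets of `Z`. -/
theorem coset_trans (hC : Ctx G Ω a t Q) (h2 : IsPGroup 2 Q) (hN : Nat.card Q = qq G a ^ 2) :
    ∀ y ∈ Q, y ∉ zGrp G a → ∀ y' ∈ Q, y' ∉ zGrp G a →
      ∃ k ∈ kGrp G a t, y'⁻¹ * (k * y * k⁻¹) ∈ zGrp G a := by
  intro y hy hy1 y' hy' hy'1
  obtain ⟨k, hk, e⟩ := hC.exists_kGrp_conj (sq_mem hC h2 hN y hy)
    (fun e => hy1 (hC.mem_zGrp_of_sq hy e)) (sq_mem hC h2 hN y' hy')
    (fun e => hy'1 (hC.mem_zGrp_of_sq hy' e))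
  refine ⟨k, hk, sq_inj hC h2 hN hy' hy'1 (conj_mem_Q hC.setup (twoPt_le (Ctx.kGrp_le G a t hk)) hy) ?_⟩
  rw [conj_mul, e]

theorem wGrp_eq_bot (hC : Ctx G Ω a t Q) (h2 : IsPGroup 2 Q) (hN : Nat.card Q = qq G a ^ 2) :
    wGrp G a t = ⊥ := by
  refine eq_bot_iff.2 fun w hw => ?_
  obtain ⟨hwD, hwZ⟩ := hC.mem_wGrp.1 hw
  refine eq_one_of_cent_Q hC hwD fun y hy => ?_
  by_cases hy1 : y ∈ zGrp G a
  · exact (hwZ y hy1).eq
  have hwy := conj_mem_Q hC.setup (twoPt_le hwD) hy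
  obtain ⟨z, hz, hwz⟩ : ∃ z ∈ zGrp G a, w * y * w⁻¹ = y * z := by
    refine ⟨y⁻¹ * (w * y * w⁻¹), sq_inj hC h2 hN hy hy1 hwy ?_, by group⟩
    rw [conj_mul, (hwZ _ (sq_mem hC h2 hN y hy)).eq, mul_inv_cancel_right]
  have hpow : ∀ n : ℕ, w ^ n * y * (w ^ n)⁻¹ = y * z ^ n := by
    intro n
    induction n with
    | zero => simp
    | succ n ih =>
      calc w ^ (n + 1) * y * (w ^ (n + 1))⁻¹ = w * (w ^ n * y * (w ^ n)⁻¹) * w⁻¹ := by
            rw [pow_succ']; group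
        _ = w * y * w⁻¹ * (w * z ^ n * w⁻¹) := by rw [ih]; group
        _ = y * z ^ (n + 1) := by
            rw [hwz, ((hwZ _ (pow_mem hz n))).eq, mul_inv_cancel_right, pow_succ', mul_assoc]
  have hn := hpow (orderOf w)
  rw [pow_orderOf_eq_one] at hn
  simp only [one_mul, inv_one, mul_one] at hn
  have hzn : z ^ orderOf w = 1 := left_eq_mul.1 hn
  have hodd : Odd (orderOf w) := odd_orderOf_of_mem hC.setup.odd_card hwD
  have hz1 : z = 1 := by
    obtain ⟨j, hj⟩ := hodd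
    rwa [hj, pow_succ, pow_mul, pow_two, hC.zGrp_sq hz, one_pow, one_mul] at hzn
  rw [hz1, mul_one, mul_inv_eq_iff_eq_mul] at hwz
  exact hwz

/-- `⟨Q, t⟩` meets the two-point stabiliser in `K`. -/
theorem twoPt_genL (hC : Ctx G Ω a t Q) (h2 : IsPGroup 2 Q) (hN : Nat.card Q = qq G a ^ 2) :
    ∀ d ∈ twoPt G a t, d ∈ genL G t Q → d ∈ kGrp G a t := by
  classical
  have := hC.faithful
  have := Fintype.ofFinite G
  have hS := hC.setup
  intro d hd hdL
  obtain ⟨w, hw, hgen⟩ := S1133.result hS hC.two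
  have hW : (twoPt G a t ⊓ centralizer {t}) ⊓
      centralizer (Cfsg.invertedBy (twoPt G a t) t) = ⊥ := wGrp_eq_bot hC h2 hN
  have hV : vGrp G a t = zpowers w := by
    change _ = twoPt G a t ⊓ centralizer {t} at hgen
    rw [hW, bot_sup_eq, ← zpowers_eq_closure] at hgen
    exact hgen.symm
  set B := stabilizer G a
  have hKn : kGrp G a t ≤ normalizer (Q : Set G) :=
    (Ctx.kGrp_le G a t).trans (twoPt_le.trans (stabilizer_normalizes hS))
  set M : Subgroup B := (Q ⊔ kGrp G a t).subgroupOf B with hM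
  have hmemM : ∀ g : B, g ∈ M ↔ ∃ x ∈ Q, ∃ k ∈ kGrp G a t, (g : G) = x * k := by
    intro g
    rw [hM, mem_subgroupOf, ← SetLike.mem_coe,
      Subgroup.coe_mul_of_right_le_normalizer_left Q _ hKn]
    constructor
    · rintro ⟨x, hx, k, hk, e⟩; exact ⟨x, hx, k, hk, e.symm⟩
    · rintro ⟨x, hx, k, hk, e⟩; exact ⟨x, hx, k, hk, e.symm⟩
  have hMn : M.Normal := by
    refine ⟨fun g hg h => ?_⟩
    obtain ⟨x, hx, k, hk, e⟩ := (hmemM g).1 hg
    obtain ⟨q, hq, c, hc, eh⟩ := stabilizer_split hS h.2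
    refine (hmemM _).2 ⟨q * (c * x * c⁻¹) * (c * k * c⁻¹ * q⁻¹ * (c * k * c⁻¹)⁻¹), ?_,
      c * k * c⁻¹, hC.conj_mem_kGrp hc hk, ?_⟩
    · exact mul_mem (mul_mem hq (conj_mem_Q hS (twoPt_le hc) hx)) (conj_mem_Q hS
        (mul_mem (mul_mem (twoPt_le hc) (twoPt_le (Ctx.kGrp_le G a t hk))) (inv_mem (twoPt_le hc)))
        (inv_mem hq))
    · simp only [Subgroup.coe_mul, InvMemClass.coe_inv, eh, e]
      group
  let wB : B := ⟨w, twoPt_le hw.1⟩
  -- the quotient is cyclic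
  have hrep : ∀ g : B, ∃ n : ℤ, (QuotientGroup.mk g : B ⧸ M) = QuotientGroup.mk (wB ^ n) := by
    intro g
    obtain ⟨x, hx, c, hc, e⟩ := stabilizer_split hS g.2
    obtain ⟨k, hk, v, hv, rfl⟩ := hC.exists_kv hc
    rw [hV] at hv
    obtain ⟨n, rfl⟩ := mem_zpowers_iff.1 hv
    refine ⟨n, ((QuotientGroup.eq).2 ((hmemM _).2 ?_))⟩
    have hxk : g * (wB ^ n)⁻¹ ∈ M := (hmemM _).2 ⟨x, hx, k, hk, by simp [e, wB, mul_assoc]⟩
    have := hMn.conj_mem _ (inv_mem hxk) g⁻¹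
    rw [inv_inv, show g⁻¹ * (g * (wB ^ n)⁻¹)⁻¹ * g = g⁻¹ * wB ^ n by group] at this
    exact (hmemM _).1 this
  have hcomm : ∀ x y : B ⧸ M, x * y = y * x := by
    intro x y
    induction x using QuotientGroup.induction_on with | H g => ?_
    induction y using QuotientGroup.induction_on with | H h => ?_
    obtain ⟨n, hn⟩ := hrep g
    obtain ⟨m, hm⟩ := hrep h
    rw [hn, hm, QuotientGroup.mk_zpow, QuotientGroup.mk_zpow]
    exact ((Commute.refl _).zpow_zpow n m).eq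
  by_contra hdK
  let dB : B := ⟨d, twoPt_le hd⟩
  have hdM : (QuotientGroup.mk dB : B ⧸ M) ≠ 1 := by
    rw [ne_eq, QuotientGroup.eq_one_iff]
    intro h
    obtain ⟨x, hx, k, hk, e⟩ := (hmemM dB).1 h
    refine hdK ?_
    obtain ⟨hx1, -⟩ := split_unique hS hx (one_mem Q) (Ctx.kGrp_le G a t hk) hd
      (e.symm.trans (one_mul d).symm)
    rw [show d = x * k from e, hx1, one_mul]
    exact hk
  obtain ⟨χ, hχ⟩ := Char.exists_irr_ne_at_one hdM
  have hχ1 := Char.IsIrr.degree_one_of_comm χ.2 hcomm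
  obtain ⟨F, hF⟩ := Char.IsChar.exists_hom (Char.IsIrr.isCharacter χ.2) hχ1
  let η : B →* ℂˣ := F.comp (QuotientGroup.mk' M)
  have hηM : ∀ g : B, g ∈ M → η g = 1 := fun g hg => by
    show F (QuotientGroup.mk g) = 1
    rw [(QuotientGroup.eq_one_iff g).2 hg, map_one]
  have hQ : ∀ x ∈ Q, SqPerm.ev η x = 1 := fun x hx => by
    rw [SqPerm.ev_of_mem η (hS.le hx)]
    exact hηM _ ((hmemM _).2 ⟨x, hx, 1, one_mem _, (mul_one x).symm⟩)
  have hK : ∀ k ∈ kGrp G a t, SqPerm.ev η k = 1 := fun k hk => by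
    rw [SqPerm.ev_of_mem η (twoPt_le (Ctx.kGrp_le G a t hk))]
    exact hηM _ ((hmemM _).2 ⟨1, one_mem _, k, hk, (one_mul k).symm⟩)
  have ht : ∀ c ∈ twoPt G a t, SqPerm.ev η (t * c * t) = SqPerm.ev η c := by
    intro c hc
    obtain ⟨k, hk, v, hv, rfl⟩ := hC.exists_kv hc
    obtain ⟨hvD, hvt⟩ := Ctx.mem_vGrp.1 hv
    have e : t * (k * v) * t = k⁻¹ * v := by
      rw [← hC.t_conj_kGrp hk, mul_assoc (t * k), hvt.eq]
      simp [mul_assoc]
    rw [e, SqPerm.ev_mul η (twoPt_le (inv_mem (Ctx.kGrp_le G a t hk))) (twoPt_le hvD),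
      SqPerm.ev_mul η (twoPt_le (Ctx.kGrp_le G a t hk)) (twoPt_le hvD), hK k hk,
      hK k⁻¹ (inv_mem hk)]
  obtain ⟨Λ, hΛ⟩ := SqChar.exists_extension hC hN (coset_trans hC h2 hN) η hQ ht
  have hΛQ : ∀ x ∈ Q, Λ x = 1 := fun x hx => by
    rw [show Λ x = η ⟨x, hS.le hx⟩ from hΛ ⟨x, hS.le hx⟩, ← SqPerm.ev_of_mem η (hS.le hx), hQ x hx]
  have hΛt : Λ t = 1 := by
    obtain ⟨g, hg⟩ := exists_conj_mem_stabilizer hS hS.mul_self
    have hsq : g * t * g⁻¹ * (g * t * g⁻¹) = 1 := by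
      rw [conj_mul, hS.mul_self, mul_one, mul_inv_cancel]
    have := hΛQ _ (invol_mem_Q hS hg hsq)
    rwa [map_mul, map_mul, map_inv, mul_comm (Λ g), mul_inv_cancel_right] at this
  have hle : genL G t Q ≤ Λ.ker :=
    sup_le (fun x hx => hΛQ x hx) ((closure_le _).2 (Set.singleton_subset_iff.2 hΛt))
  refine hχ ?_
  rw [hF]
  show (F (QuotientGroup.mk dB) : ℂ) = F 1
  rw [map_one, show F (QuotientGroup.mk dB) = η dB from rfl, ← hΛ dB,
    show Λ (dB : G) = 1 from hle hdL]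

end SqCase

open SqCase in
/-- Stage A: the Suzuki case. -/
theorem squareStmt : SquareStmt.{u, v} G a t Q := by
  intro hC h2 hN
  have hS := hC.setup
  have := finite_points hS
  refine ⟨Or.inr (Or.inl ⟨hN, wGrp_eq_bot hC h2 hN⟩), genL G t Q, genL_normal hC,
    genL_odd_index hC, Or.inr (Or.inl ?_)⟩
  have hK := twoPt_genL hC h2 hN
  have := genL_simple hC hK
  have hSL := genL_setup hC
  have h2' : IsPGroup 2 (Q.subgroupOf (genL G t Q)) :=
    h2.of_equiv (subgroupOfEquivOfLe le_genL).symm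
  obtain ⟨y, hy, hyZ⟩ := zGrp_ne hC hN
  refine SuzukiUniq.isoSuzuki_of_zassenhaus (genL_zassenhaus hC hK) (t_smul_ne hS).symm
    (U := Q.subgroupOf (genL G t Q))
    ⟨fun x hx => hSL.le hx, fun g hg x hx => hSL.conj_mem g hg x hx,
      fun c e hc he => RankOne.regular hSL hc he⟩ h2' ?_
  by_contra hab
  push Not at hab
  refine hyZ (hC.mem_zGrp_of_sq hy ?_)
  exact congrArg Subtype.val (AbelianKernel.exponent_two (genL_threeFree hC hK) hSL hab h2'
    ⟨y, le_genL hy⟩ hy)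

end Cfsg.Agent.RankOneClass
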