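import Cfsg.Agent.RankOneClass.UniEight.Coords
import Cfsg.Agent.RankOneClass.UniEight.Main

/-!
Stage G: the second group of order `8³` does not occur as the regular normal subgroup of a point
stabiliser.
-/

set_option autoImplicit false

open Subgroup MulAction
open scoped Pointwise

namespace Cfsg.Agent.RankOneClass

open Cfsg.Agent.RankOne

universe u v

variable {G : Type u} {Ω : Type v} [Group G] [Finite G] [MulAction G Ω] {a : Ω} {t : G}
  {Q : Subgroup G}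

namespace UniEight

variable {E : Type} [Field E] [Fintype E]

/-- Coordinates can be scaled so that `t` inverts the circle. -/
theorem exists_sit (hC : Ctx G Ω a t Q) (hU : IsUni G a Q) (hL : Lines G a t Q)
    (hq : qq G a = 8) (hw : Nat.card (wGrp G a t) = 3) (A : AltCoord G a t Q E) :
    Nonempty (Sit G a t Q E) := by
  obtain ⟨s, r, h⟩ := hC.exists_link
  have h2 : (2 : E) = 0 := two_eq_zero A.card_E
  have hr : r ∈ zGrp G a := hL.link_mem s r h
  have hsQ : s ∈ Q := hC.zGrp_le (subset_closure h.1)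
  have hrQ : r ∈ Q := h.2.1
  have hr1 : r ≠ 1 := by
    intro h1
    have e := h.2.2
    rw [h1, inv_one, one_mul, mul_one] at e
    have : s = t := by
      calc s = t * (t * s * t) * t := (t_conj_conj hC.setup s).symm
        _ = t := by rw [e, hC.setup.mul_self, one_mul]
    exact hC.setup.not_mem (this ▸ h.1.1)
  -- the first coordinate vanishes on `Z`
  have hone : A.px 1 = 0 ∧ A.pz 1 = 0 := by
    have hx := A.mul_x 1 Q.one_mem 1 Q.one_mem
    rw [one_mul] at hx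
    have hx0 : A.px 1 = 0 := by linear_combination -hx
    have hz := A.mul_z 1 Q.one_mem 1 Q.one_mem
    rw [one_mul, hx0, zero_pow two_ne_zero, zero_mul, mul_zero, zero_pow (by norm_num),
      add_zero, add_zero] at hz
    exact ⟨hx0, by linear_combination -hz⟩
  have hzx : ∀ u ∈ zGrp G a, u ≠ 1 → A.pz u ≠ 0 := fun u hu hu1 hz0 =>
    hu1 (A.inj u (hC.zGrp_le hu) 1 Q.one_mem
      (((mem_zGrp_iff_px hU hq A (hC.zGrp_le hu)).1 hu).trans hone.1.symm)
      (hz0.trans hone.2.symm))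
  have hs0 : A.pz s ≠ 0 := hzx s (subset_closure h.1) h.1.2.1
  have hr0 : A.pz r ≠ 0 := hzx r hr hr1
  set γ := (A.pz s * A.pz r) ^ 4 with hγ
  have hγ0 : γ ≠ 0 := pow_ne_zero _ (mul_ne_zero hs0 hr0)
  have hN : (A.pz s * A.pz r) ^ 8 = A.pz s * A.pz r := by
    rw [mul_pow, A.pz_fix s hsQ, A.pz_fix r hrQ]
  have hγ8 : γ ^ 8 = γ := by rw [hγ, ← pow_mul, show 4 * 8 = 8 * 4 by norm_num, pow_mul, hN]
  refine ⟨⟨hC, hU, hL, hq, hw, ⟨A.card_E, A.c / γ, A.px, fun u => A.pz u / γ,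
    fun u hu => ?_, fun u hu u' hu' h1 h2 => ?_, fun x z hz => ?_, A.mul_x,
    fun u hu u' hu' => ?_, A.chi, A.chi_mul, A.chi_inj, A.chi_K, A.chi_W, A.conj_x,
    fun d hd u hu => ?_⟩, s, r, h, ?_⟩⟩
  · rw [div_pow, A.pz_fix u hu, hγ8]
  · exact A.inj u hu u' hu' h1 (by
      have h3 : A.pz u / γ = A.pz u' / γ := h2
      exact (div_left_inj' hγ0).1 h3)
  · obtain ⟨u, hu, h1, h2⟩ := A.surj x (γ * z) (by rw [mul_pow, hγ8, hz])
    exact ⟨u, hu, h1, by rw [h2, mul_div_cancel_left₀ _ hγ0]⟩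
  · rw [A.mul_z u hu u' hu', div_mul_eq_mul_div, div_pow, hγ8, add_div, add_div, add_div]
  · rw [A.conj_z d hd u hu, mul_div_assoc]
  · have e : A.pz s * A.pz r = γ * γ := by rw [hγ, ← pow_add]; exact hN.symm
    show A.pz s / γ * (A.pz r / γ) = 1
    rw [div_mul_div_comm, e, div_self (mul_ne_zero hγ0 hγ0)]

namespace Frame

variable {S : Sit G a t Q E} (F : Frame S)
include F

/-- The scalar of a generator of `W` is its character or the square of it. -/
theorem exists_twist :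
    ∃ e : ℕ, (e = 2 ∨ e = 16) ∧ ∀ x, S.co.chi x ^ 3 = 1 → x ∈ wGrp G a t →
      ∀ P W Y, F.Vec P (W, Y) → F.Vec (x • P) (S.co.chi x ^ e * W, S.co.chi x ^ e * Y) := by
  haveI : Fact (Nat.Prime 3) := ⟨by norm_num⟩
  haveI : IsCyclic (wGrp G a t) := S.lines.w_cyclic
  obtain ⟨⟨w, hw⟩, hgen⟩ := IsCyclic.exists_generator (α := wGrp G a t)
  have how : orderOf w = 3 := by
    have h1 := orderOf_eq_card_of_forall_mem_zpowers hgen
    rw [Subgroup.orderOf_mk, S.card_w] at h1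
    exact h1
  have hw1 : w ≠ 1 := fun h => by rw [h, orderOf_one] at how; omega
  have hwD : w ∈ twoPt G a t := (S.ctx.mem_wGrp.1 hw).1
  obtain ⟨ω, hω⟩ := F.w_scalar hw
  have hiter : ∀ n : ℕ, ∀ P W Y, F.Vec P (W, Y) → F.Vec (w ^ n • P) (ω ^ n * W, ω ^ n * Y) := by
    intro n
    induction n with
    | zero => intro P W Y h; simpa using h
    | succ n ih =>
      intro P W Y h
      rw [pow_succ' w, mul_smul, pow_succ' ω, mul_assoc, mul_assoc]
      exact hω _ _ _ (ih _ _ _ h)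
  have hω3 : ω ^ 3 = 1 := by
    have h := hiter 3 _ _ _ F.vec_base
    rw [← how, pow_orderOf_eq_one, one_smul, how] at h
    simpa using (congrArg Prod.snd (F.vec_unique F.vec_base h)).symm
  have hω1 : ω ≠ 1 := by
    intro h
    obtain ⟨u, hu, hux, -⟩ := S.co.surj 1 0 S.eight_zero
    have hoff : u • (t • a) ∉ line0 G a t := fun hc => by
      rw [S.mem_line_iff hu, hux] at hc; exact one_ne_zero hc
    have hv := F.rows_spec hoff
    have hv' := hω _ (F.rows (u • (t • a))).1 (F.rows (u • (t • a))).2 hv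
    rw [h, one_mul, one_mul] at hv'
    have hfix : w • u • (t • a) = u • (t • a) := (F.vec_inj hv hv').symm
    rw [S.smul_conj hwD] at hfix
    have hc := Q_smul_inj S.ctx.setup (conj_mem_Q S.ctx.setup (twoPt_le hwD) hu) hu
      (t_smul_ne S.ctx.setup) hfix
    have h2 := S.lines.cent_w w hw hw1 u hu (mul_inv_eq_iff_eq_mul.1 hc)
    rw [S.mem_z_iff hu, hux] at h2
    exact one_ne_zero h2
  have hχ3 := S.co.chi_W w hw
  set χ := S.co.chi w with hχ
  have hχ1 : χ ≠ 1 := fun h => hw1 (S.co.chi_inj w (mem_sup_right hw) h)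
  have hω' : (ω - χ) * (ω - χ ^ 2) = 0 := by
    have e1 : ω ^ 2 + ω + 1 = 0 :=
      (mul_eq_zero.1 (show (ω ^ 2 + ω + 1) * (ω - 1) = 0 by linear_combination hω3)).resolve_right
        (sub_ne_zero.2 hω1)
    have e2 : χ ^ 2 + χ + 1 = 0 :=
      (mul_eq_zero.1 (show (χ ^ 2 + χ + 1) * (χ - 1) = 0 by linear_combination hχ3)).resolve_right
        (sub_ne_zero.2 hχ1)
    linear_combination e1 - ω * e2 + hχ3
  have hchipow : ∀ n : ℕ, S.co.chi (w ^ n) = χ ^ n := by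
    intro n
    induction n with
    | zero => rw [pow_zero, pow_zero, S.chi_one]
    | succ n ih =>
      rw [pow_succ, pow_succ, S.co.chi_mul _ (pow_mem (mem_sup_right hw) n) _ (mem_sup_right hw),
        ih]
  have hpows : ∀ x ∈ wGrp G a t, ∃ n : ℕ, w ^ n = x := fun x hx => by
    obtain ⟨n, hn⟩ := mem_powers_iff_mem_zpowers.2 (hgen ⟨x, hx⟩)
    exact ⟨n, congrArg Subtype.val hn⟩
  rcases mul_eq_zero.1 hω' with h | h
  · refine ⟨16, Or.inr rfl, fun x _ hx P W Y hv => ?_⟩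
    obtain ⟨n, rfl⟩ := hpows x hx
    rw [hchipow, ← pow_mul, mul_comm n, pow_mul, show χ ^ 16 = ω by
      rw [sub_eq_zero.1 h]; linear_combination (χ ^ 13 + χ ^ 10 + χ ^ 7 + χ ^ 4 + χ) * hχ3]
    exact hiter n _ _ _ hv
  · refine ⟨2, Or.inl rfl, fun x _ hx P W Y hv => ?_⟩
    obtain ⟨n, rfl⟩ := hpows x hx
    rw [hchipow, ← pow_mul, mul_comm n, pow_mul, ← sub_eq_zero.1 h]
    exact hiter n _ _ _ hv

theorem exists_equivariance :
    ∃ e : ℕ, (e = 2 ∨ e = 16) ∧ ∀ ξ x : E, ξ ^ 21 = 1 → x ≠ 0 →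
      F.bot (ξ * x) = ξ ^ e * F.bot x ∧ F.shift (ξ * x) = ξ ^ 3 * F.shift x := by
  obtain ⟨e, he, htw⟩ := F.exists_twist
  refine ⟨e, he, fun ξ x hξ hx => ?_⟩
  obtain ⟨k, hk, hck⟩ := S.chi_K_surj (x := ξ ^ 15)
    (by rw [← pow_mul, show 15 * 7 = 21 * 5 by norm_num, pow_mul, hξ, one_pow])
  obtain ⟨w, hw, hcw⟩ : ∃ w ∈ wGrp G a t, S.co.chi w = ξ ^ 7 := by
    classical
    have := Fintype.ofFinite (wGrp G a t)
    let I : Finset E := Finset.univ.image fun w : wGrp G a t => S.co.chi w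
    have hI : I.card = 3 := by
      rw [Finset.card_image_of_injective _ (fun k l h =>
        Subtype.ext (S.chi_inj' (mem_sup_right k.2) (mem_sup_right l.2) h)), Finset.card_univ,
        ← Nat.card_eq_fintype_card, S.card_w]
    have hsub : I ⊆ (Polynomial.nthRoots 3 (1 : E)).toFinset := fun y hy => by
      obtain ⟨k, -, rfl⟩ := Finset.mem_image.1 hy
      rw [Multiset.mem_toFinset, Polynomial.mem_nthRoots (by norm_num)]
      exact S.co.chi_W _ k.2
    have hle : (Polynomial.nthRoots 3 (1 : E)).toFinset.card ≤ 3 :=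
      (Multiset.toFinset_card_le _).trans (Polynomial.card_nthRoots 3 _)
    have heq := Finset.eq_of_subset_of_card_le hsub (hI ▸ hle)
    have hxI : ξ ^ 7 ∈ I := by
      rw [heq, Multiset.mem_toFinset, Polynomial.mem_nthRoots (by norm_num), ← pow_mul]
      exact hξ
    obtain ⟨k, -, hk⟩ := Finset.mem_image.1 hxI
    exact ⟨k, k.2, hk⟩
  have hkD := Ctx.kGrp_le G a t hk
  have hwD := (S.ctx.mem_wGrp.1 hw).1
  have hd : k * w ∈ kGrp G a t ⊔ wGrp G a t := mul_mem (mem_sup_left hk) (mem_sup_right hw)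
  have hchi : S.co.chi (k * w) = ξ := by
    rw [S.co.chi_mul _ (mem_sup_left hk) _ (mem_sup_right hw), hck, hcw, ← pow_add,
      show 15 + 7 = 21 + 1 by norm_num, pow_add, hξ, one_mul, pow_one]
  have hξ0 : ξ ≠ 0 := fun h => by rw [h, zero_pow (by norm_num)] at hξ; exact zero_ne_one hξ
  obtain ⟨hel, helx, hely⟩ := S.el_spec (x := x) S.eight_zero
  obtain ⟨hel', helx', hely'⟩ := S.el_spec (x := ξ * x) S.eight_zero
  have hconj : k * w * S.el x 0 * (k * w)⁻¹ = S.el (ξ * x) 0 := by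
    refine S.co.inj _ (conj_mem_Q S.ctx.setup (twoPt_le (mul_mem hkD hwD)) hel) _ hel' ?_ ?_
    · rw [S.co.conj_x _ hd _ hel, hchi, helx, helx']
    · rw [S.co.conj_z _ hd _ hel, hely, hely', mul_zero]
  set P := S.el x 0 • (t • a)
  set P' := S.el (ξ * x) 0 • (t • a)
  have hv : F.Vec P ((F.rows P).1, F.bot x) := F.rows_spec (S.el_off hx S.eight_zero)
  have hv' : F.Vec P' ((F.rows P').1, F.bot (ξ * x)) :=
    F.rows_spec (S.el_off (mul_ne_zero hξ0 hx) S.eight_zero)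
  have h2 := F.vec_k hk (htw w (S.co.chi_W w hw) hw _ _ _ hv)
  rw [smul_smul, S.smul_conj (mul_mem hkD hwD), hconj] at h2
  obtain ⟨e1, e2⟩ := Prod.mk.inj (F.vec_unique hv' h2)
  rw [hck, hcw] at e1 e2
  have hbot : F.bot (ξ * x) = ξ ^ e * F.bot x := by
    rcases he with rfl | rfl
    · linear_combination e2 + (ξ ^ 23 + ξ ^ 2) * F.bot x * hξ
    · linear_combination e2 + (ξ ^ 121 + ξ ^ 100 + ξ ^ 79 + ξ ^ 58 + ξ ^ 37 + ξ ^ 16) * F.bot x * hξ
  refine ⟨hbot, ?_⟩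
  unfold shift
  rw [hbot, e1]
  have hY : F.bot x ≠ 0 := F.bot_ne hx
  set W := (F.rows P).1
  set Y := F.bot x
  rcases he with rfl | rfl
  · have h5 : ((ξ ^ 2 * Y) ^ 8)⁻¹ = ξ ^ 5 * (Y ^ 8)⁻¹ := by
      rw [mul_pow, mul_inv, ← pow_mul, inv_eq_of_mul_eq_one_right
        (show ξ ^ (2 * 8) * ξ ^ 5 = 1 by rw [← pow_add]; exact hξ)]
    have hcoef : (ξ ^ 15) ^ 5 * ((ξ ^ 7) ^ 2 * W) = ξ ^ 5 * W := by
      linear_combination (ξ ^ 68 + ξ ^ 47 + ξ ^ 26 + ξ ^ 5) * W * hξ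
    rw [h5, hcoef]
    field_simp
  · have h19 : ((ξ ^ 16 * Y) ^ 8)⁻¹ = ξ ^ 19 * (Y ^ 8)⁻¹ := by
      rw [mul_pow, mul_inv, ← pow_mul, inv_eq_of_mul_eq_one_right
        (show ξ ^ (16 * 8) * ξ ^ 19 = 1 by
          rw [← pow_add, show 16 * 8 + 19 = 21 * 7 by norm_num, pow_mul, hξ, one_pow])]
    have hcoef : (ξ ^ 15) ^ 5 * ((ξ ^ 7) ^ 16 * W) = ξ ^ 19 * W := by
      linear_combination (ξ ^ 166 + ξ ^ 145 + ξ ^ 124 + ξ ^ 103 + ξ ^ 82 + ξ ^ 61 + ξ ^ 40 +
        ξ ^ 19) * W * hξ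
    rw [h19, hcoef]
    field_simp

theorem false_of_frame : False := by
  obtain ⟨e, he, heq⟩ := F.exists_equivariance
  obtain ⟨u₀, hu₀, hp⟩ := exists_Q_smul S.ctx.setup (c := F.p₀)
    (fun h => F.off (by rw [h]; exact Ctx.a_mem_line0 a t))
  set ξ := S.co.px u₀ with hξdef
  have hξ : ξ ≠ 0 := fun h => F.off (hp ▸ (S.mem_line_iff hu₀).2 h)
  have hbase : F.bot ξ = 1 ∧ S.co.pz u₀ = F.shift ξ := by
    have h1 := F.vec_point hu₀ hξ
    rw [hp, ← hξdef] at h1
    obtain ⟨e1, e2⟩ := Prod.mk.inj (F.vec_unique h1 F.vec_base)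
    refine ⟨e2, ?_⟩
    simp only [top, ← hξdef, e2, one_pow, inv_one, mul_one] at e1
    linear_combination e1 - F.shift ξ * S.two
  obtain ⟨h, hline⟩ := F.line
  have hb : t • a ∈ (u₀⁻¹ * h) • line0 G a t := by
    have h0 := hline 0
    rw [pow_zero, one_smul, ← hp] at h0
    rw [mul_smul, ← Set.smul_mem_smul_set_iff (a := u₀), smul_inv_smul]
    exact h0
  have ha : a ∈ (t * (u₀⁻¹ * h)) • line0 G a t := by
    have h' := Set.smul_mem_smul_set (a := t) hb
    rw [t_smul_smul S.ctx.setup, ← mul_smul] at h'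
    exact h'
  obtain ⟨q, hq, hqline⟩ := S.exists_translate ha
  refine Eqs.false S.co.card_E (c := S.co.c * ξ ^ 3) (β := F.β) (C := F.bot (S.co.px q))
    (Y := fun x => F.bot (ξ * x)) (d := fun x => F.shift (ξ * x)) (e := e)
    ⟨he, F.trace, fun x hx => F.shift_eight (mul_ne_zero hξ hx),
      fun x hx => F.bot_ne (mul_ne_zero hξ hx),
      fun x x' hx hx' hxx => mul_left_cancel₀ hξ
        (F.bot_inj (mul_ne_zero hξ hx) (mul_ne_zero hξ hx') hxx),
      by rw [mul_one]; exact hbase.1,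
      fun μ x hμ hx => by rw [mul_left_comm]; exact (heq μ _ hμ (mul_ne_zero hξ hx)).1,
      fun μ x hμ hx => by rw [mul_left_comm]; exact (heq μ _ hμ (mul_ne_zero hξ hx)).2,
      fun x hx hx1 h9 => ?_⟩
  set X := ξ * x with hX
  have hX0 : X ≠ 0 := mul_ne_zero hξ hx
  obtain ⟨hu, hux, huz⟩ := S.el_spec (x := X) (F.shift_eight hX0)
  set u := S.el X (F.shift X)
  -- the point lies on the line
  obtain ⟨i, -, hi⟩ := F.lam_isPrimitive.eq_pow_of_pow_eq_one h9
  obtain ⟨N, hN, hNe⟩ := F.lam_pow_app i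
  have hvu := F.vec_point hu (hux.symm ▸ hX0)
  rw [hux, huz] at hvu
  have htop : top F.bot F.shift F.β X (F.shift X) = F.lam ^ i * F.β := by
    have hinv : (F.bot X ^ 8)⁻¹ = F.bot X := inv_eq_of_mul_eq_one_right (by rw [← pow_succ]; exact h9)
    rw [top, hinv, hi]
    linear_combination F.shift X * F.bot X * S.two
  rw [htop, ← hi] at hvu
  have hPu : u • (t • a) = F.g ^ i • F.p₀ := by
    have hvi : F.Vec (F.g ^ i • F.p₀) (F.lam ^ i * F.β, F.lam ^ i) := by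
      rw [← hNe]; exact F.vec_smul (pow_mem F.g_mem i) hN F.vec_base
    exact F.vec_inj hvu hvi
  -- translate by `u₀⁻¹`, then apply `t`
  have hi0 : u₀⁻¹ ∈ Q := Q.inv_mem hu₀
  have hix : S.co.px u₀⁻¹ = ξ := by
    have := S.co.mul_x _ hi0 _ hu₀
    rw [inv_mul_cancel, S.px_one] at this
    linear_combination -this - ξ * S.two
  have hiz : S.co.pz u₀⁻¹ = F.shift ξ + bil S.co.c ξ ξ := by
    have := S.co.mul_z _ hi0 _ hu₀
    rw [inv_mul_cancel, S.pz_one, hix, ← hξdef, hbase.2] at this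
    rw [bil, mul_assoc S.co.c]
    linear_combination -this - (F.shift ξ + (S.co.c * (ξ ^ 2 * ξ) + (S.co.c * (ξ ^ 2 * ξ)) ^ 8)) * S.two
  have hpu : S.co.px (u₀⁻¹ * u) = ξ * (1 + x) := by
    rw [S.co.mul_x _ hi0 _ hu, hix, hux, hX]; ring
  have h1x : (1 : E) + x ≠ 0 := fun h0 => hx1 (by linear_combination h0 - S.two)
  have hpz : S.co.pz (u₀⁻¹ * u) = F.shift (ξ * 1) + F.shift (ξ * x) + bil (S.co.c * ξ ^ 3) 1 1 +
      bil (S.co.c * ξ ^ 3) 1 x := by
    rw [S.co.mul_z _ hi0 _ hu, hiz, huz, hix, hux, mul_one, hX]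
    simp only [bil]
    ring
  have hQu : u₀⁻¹ * u ∈ Q := Q.mul_mem hi0 hu
  have hne : S.co.px (u₀⁻¹ * u) ≠ 0 := hpu.symm ▸ mul_ne_zero hξ h1x
  have hv1 := F.vec_t (F.vec_point hQu hne)
  have hmem : t • (u₀⁻¹ * u) • (t • a) ∈ q • line0 G a t := by
    rw [← hqline, mul_smul u₀⁻¹ u, hPu, mul_smul, mul_smul, Set.smul_mem_smul_set_iff,
      Set.smul_mem_smul_set_iff]
    exact hline i
  obtain ⟨p, hp', hpe⟩ := hmem
  rcases Ctx.mem_line0.1 hp' with hpa | ⟨z, hz, rfl⟩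
  · refine absurd ?_ (F.vec_off hv1)
    rw [← hpe, hpa]
    show q • a ∈ _
    rw [smul_a_of_mem_Q S.ctx.setup hq]
    exact Ctx.a_mem_line0 a t
  · have hpe' : (q * z) • (t • a) = t • (u₀⁻¹ * u) • (t • a) := (mul_smul q z _).trans hpe
    have hpx : S.co.px (q * z) = S.co.px q := by
      rw [S.co.mul_x _ hq _ (S.ctx.zGrp_le hz), S.px_z hz, add_zero]
    have hqz : q * z ∈ Q := Q.mul_mem hq (S.ctx.zGrp_le hz)
    have hqne : S.co.px (q * z) ≠ 0 := fun h0 => F.vec_off hv1 (by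
      rw [← hpe']; exact (S.mem_line_iff hqz).2 h0)
    have hv2 := F.vec_point hqz hqne
    rw [hpe'] at hv2
    have hres := (Prod.mk.inj (F.vec_unique hv1 hv2)).2
    rw [hpx, hpu, hpz] at hres
    exact hres

end Frame

end UniEight

/-- Stage G. -/
theorem eightStmt : EightStmt.{u, v} G a t Q := by
  intro hC hU hL hq hw E _ _ A
  obtain ⟨S⟩ := UniEight.exists_sit hC hU hL hq hw A
  obtain ⟨F⟩ := S.exists_frame
  exact UniEight.Frame.false_of_frame F

end Cfsg.Agent.RankOneClass
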