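import Cfsg.Agent.RankOne.Basic
import Cfsg.Agent.PSU3Sylow.Heis
import Cfsg.Prelude.Def_LieExceptional
import Cfsg.Prelude.Def_AlmostLie

/-!
Suzuki's classification of doubly transitive groups of rank one: the vocabulary shared by the stages
and the statement of each stage (`*Stmt`). See `notes/S1136_helper2.md` for the plan.
-/

set_option autoImplicit false

open Subgroup MulAction
open scoped Pointwise

namespace Cfsg.Agent.RankOneClass

open Cfsg.Agent.RankOne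

universe u v

/-- The rank-one set-up, faithful and with two commuting involutions. -/
structure Ctx (G : Type u) (Ω : Type v) [Group G] [MulAction G Ω] (a : Ω) (t : G) (Q : Subgroup G) :
    Prop where
  faithful : FaithfulSMul G Ω
  setup : Cfsg.IsRankOneSetup G Ω a t Q
  two : ∃ x y : G, x ≠ 1 ∧ y ≠ 1 ∧ x ≠ y ∧ x * x = 1 ∧ y * y = 1 ∧ x * y = y * x

section Defs

variable (G : Type u) {Ω : Type v} [Group G] [MulAction G Ω] (a : Ω) (t : G)

/-- The group `Z` of the involutions fixing `a`. -/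
def zGrp : Subgroup G := closure (Cfsg.involutionsIn (stabilizer G a : Set G))

/-- The group `K` of the elements of `D` inverted by `t`. -/
def kGrp : Subgroup G := closure (Cfsg.invertedBy (twoPt G a t) t)

/-- `V = C_D(t)`. -/
def vGrp : Subgroup G := twoPt G a t ⊓ centralizer {t}

/-- `W = C_V(K)`. -/
def wGrp : Subgroup G := vGrp G a t ⊓ centralizer (Cfsg.invertedBy (twoPt G a t) t)

/-- `q = |Z|`. -/
noncomputable def qq : ℕ := Nat.card (zGrp G a)

/-- The group generated by `Z` and `t`. -/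
def sigGrp : Subgroup G := zGrp G a ⊔ closure {t}

/-- The subgroup generated by `Q` and `t`. -/
def genL (Q : Subgroup G) : Subgroup G := Q ⊔ closure {t}

/-- The circle through `a` and `t • a`. -/
def line0 : Set Ω := insert a ((fun z => z • (t • a)) '' (zGrp G a : Set G))

/-- `(s, r)` is the distinguished pair. -/
def IsLink (Q : Subgroup G) (s r : G) : Prop :=
  s ∈ Cfsg.involutionsIn (stabilizer G a : Set G) ∧ r ∈ Q ∧ t * s * t = r⁻¹ * t * r

end Defs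

section Stmts

variable (G : Type u) {Ω : Type v} [Group G] [MulAction G Ω] (a : Ω) (t : G) (Q : Subgroup G)

/-- The three possible shapes of a rank-one group. -/
def Profile : Prop :=
  (Nat.card Q = qq G a ∧ wGrp G a t = ⊥) ∨ (Nat.card Q = qq G a ^ 2 ∧ wGrp G a t = ⊥) ∨
    (Nat.card Q = qq G a ^ 3 ∧ (qq G a + 1) ∣ Nat.gcd 3 (qq G a + 1) * Nat.card (wGrp G a t))

/-- The conclusion of the classification. -/
def Concl : Prop :=
  Profile G a t Q ∧
    ∃ L : Subgroup G, L.Normal ∧ Odd L.index ∧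
      ((∃ (F : Type) (_ : Field F) (_ : Fintype F), (∃ n : ℕ, 2 ≤ n ∧ Fintype.card F = 2 ^ n) ∧
          Nonempty (L ≃* Matrix.ProjectiveSpecialLinearGroup (Fin 2) F)) ∨
        Cfsg.Lie.IsoSuzuki L ∨
        (∃ (F : Type) (_ : Field F) (_ : Fintype F) (n : ℕ), 2 ≤ n ∧ Fintype.card F = (2 ^ n) ^ 2 ∧
          Nonempty (L ≃* Cfsg.PSU 3 F (2 ^ n))))

end Stmts

/-- The induction hypothesis: every smaller set-up has one of the three shapes. -/
def IndHyp (n : ℕ) : Prop :=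
  ∀ (H : Type u) [Group H] [Finite H] (Ψ : Type v) [MulAction H Ψ] (b : Ψ) (t' : H) (R : Subgroup H),
    Nat.card H < n → Ctx H Ψ b t' R → Profile H b t' R

section Unitary

variable (G : Type u) {Ω : Type v} [Group G] [MulAction G Ω] (a : Ω) (t : G) (Q : Subgroup G)

/-- `Q` is a 2-group of order `q³` with `Z = Ω₁(Q)` containing squares and commutators. -/
structure IsUni : Prop where
  two_group : IsPGroup 2 Q
  card : Nat.card Q = qq G a ^ 3
  sq_mem : ∀ x ∈ Q, x * x ∈ zGrp G a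
  comm_mem : ∀ x ∈ Q, ∀ y ∈ Q, x⁻¹ * y⁻¹ * x * y ∈ zGrp G a
  invol_mem : ∀ x ∈ Q, x * x = 1 → x ∈ zGrp G a

/-- The unital of lines in the case `|Q| = q³`. -/
structure Lines : Prop where
  w_cyclic : IsCyclic (wGrp G a t)
  w_dvd : Nat.card (wGrp G a t) ∣ qq G a + 1
  w_three : 3 ≤ Nat.card (wGrp G a t)
  cent_w : ∀ w ∈ wGrp G a t, w ≠ 1 → ∀ x ∈ Q, Commute w x → x ∈ zGrp G a
  link_mem : ∀ s r : G, IsLink G a t Q s r → r ∈ zGrp G a
  sig_card : Nat.card (sigGrp G a t) = qq G a * (qq G a ^ 2 - 1)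
  sig_comm : ∀ g ∈ sigGrp G a t, ∀ w ∈ wGrp G a t, Commute g w
  sig_line : ∀ g ∈ sigGrp G a t, g • line0 G a t = line0 G a t
  sig_faithful : ∀ g ∈ sigGrp G a t, (∀ p ∈ line0 G a t, g • p = p) → g = 1
  sig_free : ∀ g ∈ sigGrp G a t, ∀ p : Ω, p ∉ line0 G a t → g • p = p → g = 1
  sig_trans : ∀ p p' : Ω, p ∉ line0 G a t → p' ∉ line0 G a t → ∃ g ∈ sigGrp G a t, g • p = p'
  torus : ∀ p : Ω, p ∉ line0 G a t → ∃ T : Subgroup G, T ≤ sigGrp G a t ∧ IsCyclic T ∧
    Nat.card T = qq G a + 1 ∧ (∀ w ∈ wGrp G a t, ∃ g ∈ T, g • p = w • p) ∧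
      ∃ g : G, g • line0 G a t = (fun c => c • p) '' (T : Set G)

/-- `W` is large. -/
def WLarge : Prop :=
  (qq G a + 1) ∣ Nat.gcd 3 (qq G a + 1) * Nat.card (wGrp G a t)

/-- Coordinates of `Q` as the Sylow 2-subgroup of `PSU₃(q)`, equivariant for `K W`. -/
structure QCoord {E : Type} [Field E] [CharP E 2] {σ : E →+* E} {q : ℕ}
    (hu : Cfsg.Agent.AutPSU.UCtx σ q) where
  q_eq : q = qq G a
  toHeis : Q ≃* PSU3Sylow.Heis hu
  chi : G → E
  chi_mul : ∀ c ∈ kGrp G a t ⊔ wGrp G a t, ∀ d ∈ kGrp G a t ⊔ wGrp G a t,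
    chi (c * d) = chi c * chi d
  chi_inj : ∀ c ∈ kGrp G a t ⊔ wGrp G a t, chi c = 1 → c = 1
  chi_K : ∀ k ∈ kGrp G a t, σ (chi k) = chi k
  chi_K_surj : ∀ x : E, x ≠ 0 → σ x = x → ∃ k ∈ kGrp G a t, chi k = x
  chi_W : ∀ w ∈ wGrp G a t, chi w * σ (chi w) = 1
  conj_x : ∀ d ∈ kGrp G a t ⊔ wGrp G a t, ∀ u u' : Q, (u' : G) = d * u * d⁻¹ →
    (toHeis u').x = chi d * (toHeis u).x
  conj_d : ∀ d ∈ kGrp G a t ⊔ wGrp G a t, ∀ u u' : Q, (u' : G) = d * u * d⁻¹ →
    (toHeis u').d = chi d * σ (chi d) * (toHeis u).d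

/-- Coordinates of the other Suzuki 2-group of order `8³` admitting `|W| = 3`. -/
structure AltCoord (E : Type) [Field E] [Fintype E] where
  card_E : Fintype.card E = 64
  c : E
  px : G → E
  pz : G → E
  pz_fix : ∀ u ∈ Q, pz u ^ 8 = pz u
  inj : ∀ u ∈ Q, ∀ u' ∈ Q, px u = px u' → pz u = pz u' → u = u'
  surj : ∀ x z : E, z ^ 8 = z → ∃ u ∈ Q, px u = x ∧ pz u = z
  mul_x : ∀ u ∈ Q, ∀ u' ∈ Q, px (u * u') = px u + px u'
  mul_z : ∀ u ∈ Q, ∀ u' ∈ Q, pz (u * u') =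
    pz u + pz u' + (c * (px u ^ 2 * px u') + (c * (px u ^ 2 * px u')) ^ 8)
  chi : G → E
  chi_mul : ∀ c' ∈ kGrp G a t ⊔ wGrp G a t, ∀ d ∈ kGrp G a t ⊔ wGrp G a t,
    chi (c' * d) = chi c' * chi d
  chi_inj : ∀ c' ∈ kGrp G a t ⊔ wGrp G a t, chi c' = 1 → c' = 1
  chi_K : ∀ k ∈ kGrp G a t, chi k ^ 7 = 1
  chi_W : ∀ w ∈ wGrp G a t, chi w ^ 3 = 1
  conj_x : ∀ d ∈ kGrp G a t ⊔ wGrp G a t, ∀ u ∈ Q, px (d * u * d⁻¹) = chi d * px u
  conj_z : ∀ d ∈ kGrp G a t ⊔ wGrp G a t, ∀ u ∈ Q, pz (d * u * d⁻¹) = chi d ^ 3 * pz u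

end Unitary

section Stages

variable (G : Type u) {Ω : Type v} [Group G] [Finite G] [MulAction G Ω] (a : Ω) (t : G)
  (Q : Subgroup G)

/-- Stage B: `Q` is a 2-group. -/
def PGroupStmt : Prop :=
  Ctx G Ω a t Q → IndHyp.{u, v} (Nat.card G) → IsPGroup 2 Q

/-- Stage B: an abelian `Q` has order at most `q²`. -/
def AbelianStmt : Prop :=
  Ctx G Ω a t Q → IndHyp.{u, v} (Nat.card G) → IsPGroup 2 Q → IsMulCommutative Q →
    Nat.card Q = qq G a ∨ Nat.card Q = qq G a ^ 2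

/-- Stage A: the linear case. -/
def LinStmt : Prop :=
  Ctx G Ω a t Q → Nat.card Q = qq G a → Concl G a t Q

/-- Stage A: the Suzuki case. -/
def SquareStmt : Prop :=
  Ctx G Ω a t Q → IsPGroup 2 Q → Nat.card Q = qq G a ^ 2 → Concl G a t Q

/-- Stage C: the unital. -/
def LinesStmt : Prop :=
  Ctx G Ω a t Q → IndHyp.{u, v} (Nat.card G) → IsUni G a Q → Lines G a t Q

/-- Stage D: `W` is large. -/
def WLargeStmt : Prop :=
  Ctx G Ω a t Q → IsUni G a Q → Lines G a t Q → WLarge G a t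

/-- Stage E: coordinates of `Q`. -/
def CoordStmt : Prop :=
  Ctx G Ω a t Q → IsUni G a Q → Lines G a t Q → WLarge G a t →
    (∃ (E : Type) (_ : Field E) (_ : Fintype E) (_ : CharP E 2) (σ : E →+* E) (q : ℕ)
      (hu : Cfsg.Agent.AutPSU.UCtx σ q),
      Fintype.card E = qq G a ^ 2 ∧ Nonempty (QCoord G a t Q hu)) ∨
    (qq G a = 8 ∧ Nat.card (wGrp G a t) = 3 ∧
      ∃ (E : Type) (_ : Field E) (_ : Fintype E), Nonempty (AltCoord G a t Q E))

/-- Stage F: recognition of `PSU₃(q)`. -/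
def RecogStmt : Prop :=
  Ctx G Ω a t Q → IsUni G a Q → Lines G a t Q → WLarge G a t →
    ∀ (E : Type) [Field E] [Fintype E] [CharP E 2] (σ : E →+* E) (q : ℕ)
      (hu : Cfsg.Agent.AutPSU.UCtx σ q),
      Fintype.card E = qq G a ^ 2 → QCoord G a t Q hu → Concl G a t Q

/-- Stage G: the other group of order `8³` does not occur. -/
def EightStmt : Prop :=
  Ctx G Ω a t Q → IsUni G a Q → Lines G a t Q → qq G a = 8 → Nat.card (wGrp G a t) = 3 →
    ∀ (E : Type) [Field E] [Fintype E], AltCoord G a t Q E → False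

end Stages

end Cfsg.Agent.RankOneClass
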