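-- Base facts of the S1136 cluster
import Mathlib.GroupTheory.Index
import Cfsg.Agent.RankOneClass.Interfaces
import Cfsg.Agent.S1127
import Cfsg.Agent.S1128
import Cfsg.Agent.S1129
import Cfsg.Agent.S1131
import Cfsg.Agent.RankOne.Central

/-!
Elementary facts about a rank-one set-up with two commuting involutions: the groups `Z`, `K`, `V`, `W`
and the distinguished pair `(s, r)`.
-/

set_option autoImplicit false

open Subgroup MulAction
open scoped Pointwise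

namespace Cfsg.Agent.RankOneClass

open Cfsg.Agent.RankOne

universe u v

variable {G : Type u} {Ω : Type v} [Group G] [MulAction G Ω] {a : Ω} {t : G} {Q : Subgroup G}

namespace Ctx

/-! ### `Z` -/

theorem mem_zGrp [Finite G] (hC : Ctx G Ω a t Q) {x : G} :
    x ∈ zGrp G a ↔ x ∈ stabilizer G a ∧ x * x = 1 := by
  constructor
  · intro hx
    refine closure_induction (p := fun y _ => y ∈ stabilizer G a ∧ y * y = 1)
      (fun y hy => ⟨hy.1, hy.2.2⟩) ⟨one_mem _, one_mul _⟩ ?_ ?_ hx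
    · rintro y z - - ⟨hy, hy2⟩ ⟨hz, hz2⟩
      refine ⟨mul_mem hy hz, ?_⟩
      by_cases hy1 : y = 1
      · subst hy1; simpa using hz2
      by_cases hz1 : z = 1
      · subst hz1; simpa using hy2
      have hc := invol_central hC.setup hC.two (s := y) ⟨hy, hy1, hy2⟩
        (mem_I_Q hC.setup ⟨hz, hz1, hz2⟩)
      rw [mul_assoc, ← mul_assoc z, ← hc, mul_assoc, hz2, mul_one, hy2]
    · rintro y - ⟨hy, hy2⟩
      exact ⟨inv_mem hy, by rw [← mul_inv_rev, hy2, inv_one]⟩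
  · rintro ⟨hx, hx2⟩
    by_cases hx1 : x = 1
    · rw [hx1]; exact one_mem _
    · exact subset_closure ⟨hx, hx1, hx2⟩

theorem mem_invol_of_zGrp [Finite G] (hC : Ctx G Ω a t Q) {x : G} (hx : x ∈ zGrp G a) (hx1 : x ≠ 1) :
    x ∈ Cfsg.involutionsIn (stabilizer G a : Set G) :=
  ⟨((hC.mem_zGrp).1 hx).1, hx1, ((hC.mem_zGrp).1 hx).2⟩

theorem zGrp_sq [Finite G] (hC : Ctx G Ω a t Q) {x : G} (hx : x ∈ zGrp G a) : x * x = 1 :=
  ((hC.mem_zGrp).1 hx).2

theorem zGrp_inv [Finite G] (hC : Ctx G Ω a t Q) {x : G} (hx : x ∈ zGrp G a) : x⁻¹ = x :=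
  inv_eq_of_mul_eq_one_right (hC.zGrp_sq hx)

theorem zGrp_le (hC : Ctx G Ω a t Q) : zGrp G a ≤ Q :=
  (closure_le _).2 fun _ hs => mem_I_Q hC.setup hs

theorem zGrp_central [Finite G] (hC : Ctx G Ω a t Q) {z : G} (hz : z ∈ zGrp G a) {x : G}
    (hx : x ∈ Q) : Commute z x := by
  by_cases hz1 : z = 1
  · rw [hz1]; exact Commute.one_left x
  · exact invol_central hC.setup hC.two (hC.mem_invol_of_zGrp hz hz1) hx

theorem zGrp_comm [Finite G] (hC : Ctx G Ω a t Q) {z z' : G} (hz : z ∈ zGrp G a)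
    (hz' : z' ∈ zGrp G a) : Commute z z' := hC.zGrp_central hz (hC.zGrp_le hz')

theorem conj_mem_zGrp [Finite G] (hC : Ctx G Ω a t Q) {g z : G} (hg : g ∈ stabilizer G a)
    (hz : z ∈ zGrp G a) : g * z * g⁻¹ ∈ zGrp G a := by
  rw [hC.mem_zGrp] at hz ⊢
  refine ⟨mul_mem (mul_mem hg hz.1) (inv_mem hg), ?_⟩
  rw [show g * z * g⁻¹ * (g * z * g⁻¹) = g * (z * z) * g⁻¹ by group, hz.2]
  simp

theorem card_involutions [Finite G] (hC : Ctx G Ω a t Q) :
    Nat.card (Cfsg.involutionsIn (stabilizer G a : Set G)) + 1 = qq G a := by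
  have hset : (zGrp G a : Set G) = insert 1 (Cfsg.involutionsIn (stabilizer G a : Set G)) := by
    ext x
    simp only [SetLike.mem_coe, hC.mem_zGrp, Set.mem_insert_iff, Cfsg.involutionsIn, Set.mem_ofPred_eq]
    constructor
    · rintro ⟨h1, h2⟩
      by_cases h : x = 1
      · exact Or.inl h
      · exact Or.inr ⟨h1, h, h2⟩
    · rintro (rfl | ⟨h1, -, h2⟩)
      · exact ⟨one_mem _, one_mul _⟩
      · exact ⟨h1, h2⟩
  have h1 : (1 : G) ∉ Cfsg.involutionsIn (stabilizer G a : Set G) := fun h => h.2.1 rfl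
  have h := Set.ncard_insert_of_notMem h1 (Set.toFinite _)
  rw [← hset, ← Nat.card_coe_set_eq, ← Nat.card_coe_set_eq] at h
  exact h.symm

theorem exists_qq_pow [Finite G] (hC : Ctx G Ω a t Q) : ∃ f, 2 ≤ f ∧ qq G a = 2 ^ f := by
  haveI : Fact (Nat.Prime 2) := ⟨Nat.prime_two⟩
  have hp : IsPGroup 2 (zGrp G a) := fun x => ⟨1, Subtype.ext (by
    rw [pow_one, Subgroup.coe_pow, pow_two]; exact hC.zGrp_sq x.2)⟩
  obtain ⟨f, hf⟩ := IsPGroup.iff_card.1 hp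
  refine ⟨f, ?_, hf⟩
  obtain ⟨s, hs, s', hs', hne, -⟩ := exists_two_invol hC.setup hC.two
  have h2 : 2 ≤ Nat.card (Cfsg.involutionsIn (stabilizer G a : Set G)) := by
    rw [Nat.card_coe_set_eq]
    calc 2 = ({s, s'} : Set G).ncard := (Set.ncard_pair hne).symm
      _ ≤ _ := Set.ncard_le_ncard (Set.insert_subset hs (Set.singleton_subset_iff.2 hs'))
        (Set.toFinite _)
  have h3 := hC.card_involutions
  have h4 : 3 ≤ 2 ^ f := by rw [← hf]; change 3 ≤ qq G a; omega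
  by_contra hf2
  interval_cases f <;> simp at h4

theorem four_le_qq [Finite G] (hC : Ctx G Ω a t Q) : 4 ≤ qq G a := by
  obtain ⟨f, hf, e⟩ := hC.exists_qq_pow
  rw [e]
  calc 4 = 2 ^ 2 := rfl
    _ ≤ 2 ^ f := Nat.pow_le_pow_right two_pos hf

/-! ### `K` -/

theorem coe_kGrp [Finite G] (hC : Ctx G Ω a t Q) :
    (kGrp G a t : Set G) = Cfsg.invertedBy (twoPt G a t) t := by
  haveI := hC.faithful
  obtain ⟨C, hCs, -, -⟩ := S1131.result hC.setup hC.two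
  have : kGrp G a t = C := by
    show closure (Cfsg.invertedBy (twoPt G a t) t) = C
    rw [← hCs, closure_eq]
  rw [this, hCs]

theorem mem_kGrp [Finite G] (hC : Ctx G Ω a t Q) {k : G} :
    k ∈ kGrp G a t ↔ k ∈ Cfsg.invertedBy (twoPt G a t) t := by
  rw [← SetLike.mem_coe, hC.coe_kGrp]

theorem kGrp_le (G : Type u) [Group G] [MulAction G Ω] (a : Ω) (t : G) :
    kGrp G a t ≤ twoPt G a t :=
  (closure_le _).2 fun _ h => h.1

theorem t_conj_kGrp [Finite G] (hC : Ctx G Ω a t Q) {k : G} (hk : k ∈ kGrp G a t) :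
    t * k * t = k⁻¹ :=
  ((mem_invertedBy hC.setup.mul_self).1 (hC.mem_kGrp.1 hk)).2

theorem isCyclic_kGrp [Finite G] (hC : Ctx G Ω a t Q) : IsCyclic (kGrp G a t) := by
  haveI := hC.faithful
  obtain ⟨C, hCs, hcy, -⟩ := S1131.result hC.setup hC.two
  rwa [show kGrp G a t = C from SetLike.coe_injective (hC.coe_kGrp.trans hCs.symm)]

theorem kGrp_comm [Finite G] (hC : Ctx G Ω a t Q) {k k' : G} (hk : k ∈ kGrp G a t)
    (hk' : k' ∈ kGrp G a t) : Commute k k' := by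
  haveI := hC.isCyclic_kGrp
  letI : CommGroup (kGrp G a t) := IsCyclic.commGroup
  exact congrArg Subtype.val (mul_comm (⟨k, hk⟩ : kGrp G a t) ⟨k', hk'⟩)

theorem conj_mem_kGrp [Finite G] (hC : Ctx G Ω a t Q) {d k : G} (hd : d ∈ twoPt G a t)
    (hk : k ∈ kGrp G a t) : d * k * d⁻¹ ∈ kGrp G a t := by
  haveI := hC.faithful
  obtain ⟨C, hCs, -, hn⟩ := S1131.result hC.setup hC.two
  rw [show kGrp G a t = C from SetLike.coe_injective (hC.coe_kGrp.trans hCs.symm)] at hk ⊢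
  exact hn d hd k hk

theorem card_kGrp [Finite G] (hC : Ctx G Ω a t Q) : Nat.card (kGrp G a t) + 1 = qq G a := by
  rw [← hC.card_involutions, ← card_invertedBy hC.setup]
  congr 1
  exact Nat.card_congr (Equiv.setCongr hC.coe_kGrp)

/-- The elements of `K` act fixed-point-freely on `Q`. -/
theorem kGrp_fpf [Finite G] (hC : Ctx G Ω a t Q) {k : G} (hk : k ∈ kGrp G a t) (hk1 : k ≠ 1)
    {x : G} (hx : x ∈ Q) (h : Commute k x) : x = 1 := by
  have hb := inf_centralizer_inverted hC.setup (hC.mem_kGrp.1 hk) hk1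
  have : x ∈ Q ⊓ centralizer ({k} : Set G) := ⟨hx, mem_centralizer_singleton_iff.2 h.symm.eq⟩
  rwa [hb, mem_bot] at this

/-- `K` moves any involution of `G_a` to any other one. -/
theorem exists_kGrp_conj [Finite G] (hC : Ctx G Ω a t Q) {z z' : G} (hz : z ∈ zGrp G a) (hz1 : z ≠ 1)
    (hz' : z' ∈ zGrp G a) (hz'1 : z' ≠ 1) : ∃ k ∈ kGrp G a t, k * z * k⁻¹ = z' := by
  obtain ⟨c, hc, e⟩ :=
    exists_conj_invertedBy hC.setup (hC.mem_invol_of_zGrp hz hz1) (hC.mem_invol_of_zGrp hz' hz'1)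
  exact ⟨c⁻¹, inv_mem (hC.mem_kGrp.2 hc), by rwa [inv_inv]⟩

theorem kGrp_conj_inj [Finite G] (hC : Ctx G Ω a t Q) {k k' z : G} (hk : k ∈ kGrp G a t)
    (hk' : k' ∈ kGrp G a t) (hz : z ∈ zGrp G a) (hz1 : z ≠ 1) (h : k * z * k⁻¹ = k' * z * k'⁻¹) :
    k = k' := by
  by_contra hne
  refine hz1 (hC.kGrp_fpf (mul_mem (inv_mem hk') hk) (fun e => hne (inv_mul_eq_one.1 e).symm)
    (hC.zGrp_le hz) ?_)
  show k'⁻¹ * k * z = z * (k'⁻¹ * k)
  calc k'⁻¹ * k * z = k'⁻¹ * (k * z * k⁻¹) * k := by group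
    _ = z * (k'⁻¹ * k) := by rw [h]; group

/-! ### `D = K V`, `W` -/

theorem t_norm_twoPt (hC : Ctx G Ω a t Q) {x : G} (hx : x ∈ twoPt G a t) :
    t * x * t⁻¹ ∈ twoPt G a t := by
  rw [t_inv hC.setup]; exact t_conj_twoPt hC.setup hx

theorem mem_vGrp {d : G} : d ∈ vGrp G a t ↔ d ∈ twoPt G a t ∧ Commute t d := by
  show d ∈ twoPt G a t ⊓ centralizer ({t} : Set G) ↔ _
  rw [mem_inf, mem_centralizer_singleton_iff]
  exact and_congr_right fun _ => ⟨fun h => h.symm, fun h => h.symm⟩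

theorem vGrp_le (G : Type u) [Group G] [MulAction G Ω] (a : Ω) (t : G) :
    vGrp G a t ≤ twoPt G a t := inf_le_left

theorem wGrp_le (G : Type u) [Group G] [MulAction G Ω] (a : Ω) (t : G) :
    wGrp G a t ≤ vGrp G a t := inf_le_left

/-- `D = K V`. -/
theorem exists_kv [Finite G] (hC : Ctx G Ω a t Q) {d : G} (hd : d ∈ twoPt G a t) :
    ∃ k ∈ kGrp G a t, ∃ v ∈ vGrp G a t, d = k * v := by
  obtain ⟨c, k, hc, hct, hk, e⟩ :=
    exists_decomp hC.setup.mul_self hC.setup.odd_card (fun x hx => hC.t_norm_twoPt hx) hd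
  refine ⟨c * k * c⁻¹, hC.conj_mem_kGrp hc (hC.mem_kGrp.2 hk), c, mem_vGrp.2 ⟨hc, hct⟩, ?_⟩
  rw [e]; group

theorem kv_disjoint [Finite G] (hC : Ctx G Ω a t Q) {d : G} (hk : d ∈ kGrp G a t)
    (hv : d ∈ vGrp G a t) : d = 1 := by
  have h1 := hC.t_conj_kGrp hk
  rw [(mem_vGrp.1 hv).2.eq, mul_assoc, hC.setup.mul_self, mul_one] at h1
  refine eq_one_of_sq_eq_one hC.setup.odd_card (kGrp_le G a t hk) ?_
  nth_rw 2 [h1]
  exact mul_inv_cancel d

theorem card_twoPt [Finite G] (hC : Ctx G Ω a t Q) :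
    Nat.card (twoPt G a t) = Nat.card (kGrp G a t) * Nat.card (vGrp G a t) := by
  rw [← Nat.card_prod]
  refine (Nat.card_congr (Equiv.ofBijective
    (fun p : kGrp G a t × vGrp G a t => (⟨p.1 * p.2, mul_mem (kGrp_le G a t p.1.2)
      (vGrp_le G a t p.2.2)⟩ : twoPt G a t)) ⟨?_, ?_⟩)).symm
  · rintro ⟨⟨k, hk⟩, ⟨c, hc⟩⟩ ⟨⟨k', hk'⟩, ⟨c', hc'⟩⟩ h
    have h' : k * c = k' * c' := congrArg Subtype.val h
    have e : k'⁻¹ * k = c' * c⁻¹ := by
      calc k'⁻¹ * k = k'⁻¹ * (k * c) * c⁻¹ := by group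
        _ = c' * c⁻¹ := by rw [h']; group
    have h1 := hC.kv_disjoint (mul_mem (inv_mem hk') hk) (e ▸ mul_mem hc' (inv_mem hc))
    obtain rfl := (inv_mul_eq_one.1 h1).symm
    obtain rfl : c = c' := mul_left_cancel h'
    rfl
  · rintro ⟨d, hd⟩
    obtain ⟨k, hk, c, hc, e⟩ := hC.exists_kv hd
    exact ⟨(⟨k, hk⟩, ⟨c, hc⟩), Subtype.ext e.symm⟩

theorem mem_wGrp [Finite G] (hC : Ctx G Ω a t Q) {w : G} :
    w ∈ wGrp G a t ↔ w ∈ twoPt G a t ∧ ∀ z ∈ zGrp G a, Commute w z := by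
  have h := SetLike.ext_iff.1 (S1127.result hC.setup).2 w
  show w ∈ twoPt G a t ⊓ centralizer {t} ⊓ centralizer _ ↔ _
  rw [h, mem_inf, mem_centralizer_iff]
  refine and_congr_right fun _ => ⟨fun hc z hz => ?_, fun hc s hs => ?_⟩
  · by_cases hz1 : z = 1
    · rw [hz1]; exact Commute.one_right w
    · exact (hc z (hC.mem_invol_of_zGrp hz hz1)).symm
  · exact (hc s (subset_closure hs)).symm.eq

theorem wGrp_kGrp [Finite G] (hC : Ctx G Ω a t Q) {w k : G} (hw : w ∈ wGrp G a t)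
    (hk : k ∈ kGrp G a t) : Commute w k :=
  ((mem_centralizer_iff.1 (mem_inf.1 hw).2) k (hC.mem_kGrp.1 hk)).symm

theorem conj_mem_vGrp {v w : G} (hv : v ∈ vGrp G a t) (hw : w ∈ vGrp G a t) :
    v * w * v⁻¹ ∈ vGrp G a t := mul_mem (mul_mem hv hw) (inv_mem hv)

theorem conj_mem_wGrp [Finite G] (hC : Ctx G Ω a t Q) {d w : G} (hd : d ∈ twoPt G a t)
    (hw : w ∈ wGrp G a t) : d * w * d⁻¹ ∈ wGrp G a t := by
  rw [hC.mem_wGrp] at hw ⊢
  refine ⟨mul_mem (mul_mem hd hw.1) (inv_mem hd), fun z hz => ?_⟩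
  have h := hw.2 (d⁻¹ * z * d) (by
    simpa using hC.conj_mem_zGrp (inv_mem (twoPt_le hd)) hz)
  show d * w * d⁻¹ * z = z * (d * w * d⁻¹)
  calc d * w * d⁻¹ * z = d * (w * (d⁻¹ * z * d)) * d⁻¹ := by group
    _ = d * (d⁻¹ * z * d * w) * d⁻¹ := by rw [h.eq]
    _ = z * (d * w * d⁻¹) := by group

theorem odd_vGrp (hC : Ctx G Ω a t Q) : Odd (Nat.card (vGrp G a t)) :=
  hC.setup.odd_card.of_dvd_nat (card_dvd_of_le (vGrp_le G a t))

theorem odd_kGrp (hC : Ctx G Ω a t Q) : Odd (Nat.card (kGrp G a t)) :=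
  hC.setup.odd_card.of_dvd_nat (card_dvd_of_le (kGrp_le G a t))

/-! ### The distinguished pair -/

theorem exists_link [Finite G] (hC : Ctx G Ω a t Q) : ∃ s r : G, IsLink G a t Q s r := by
  obtain ⟨p, ⟨h1, h2, e⟩, -⟩ :=
    link_exists_right hC.setup (one_mem_invertedBy (X := twoPt G a t) hC.setup.mul_self)
  exact ⟨p.1, p.2, h1, h2, by rw [e, one_mul]⟩

theorem link_unique [Finite G] (hC : Ctx G Ω a t Q) {s r s' r' : G} (h : IsLink G a t Q s r)
    (h' : IsLink G a t Q s' r') : s = s' ∧ r = r' := by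
  obtain ⟨p, -, hp⟩ :=
    link_exists_right hC.setup (one_mem_invertedBy (X := twoPt G a t) hC.setup.mul_self)
  have e1 := hp (s, r) ⟨h.1, h.2.1, by rw [one_mul]; exact h.2.2⟩
  have e2 := hp (s', r') ⟨h'.1, h'.2.1, by rw [one_mul]; exact h'.2.2⟩
  exact ⟨congrArg Prod.fst (e1.trans e2.symm), congrArg Prod.snd (e1.trans e2.symm)⟩

theorem link_vGrp [Finite G] (hC : Ctx G Ω a t Q) {s r v : G} (h : IsLink G a t Q s r)
    (hv : v ∈ vGrp G a t) : Commute v s ∧ Commute v r := by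
  obtain ⟨hvD, hvt⟩ := mem_vGrp.1 hv
  have hva := twoPt_le hvD
  have e : t * (v * s * v⁻¹) * t = (v * r * v⁻¹)⁻¹ * t * (v * r * v⁻¹) := by
    calc t * (v * s * v⁻¹) * t = (t * v) * s * (v⁻¹ * t) := by group
      _ = (v * t) * s * (t * v⁻¹) := by rw [hvt.eq, (hvt.inv_right).eq]
      _ = v * (t * s * t) * v⁻¹ := by group
      _ = v * r⁻¹ * t * r * v⁻¹ := by rw [h.2.2]; group
      _ = v * r⁻¹ * (v⁻¹ * v) * t * r * v⁻¹ := by group
      _ = v * r⁻¹ * v⁻¹ * (t * v) * r * v⁻¹ := by rw [hvt.eq]; group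
      _ = (v * r * v⁻¹)⁻¹ * t * (v * r * v⁻¹) := by group
  obtain ⟨h1, h2⟩ := hC.link_unique h
    (s' := v * s * v⁻¹) (r' := v * r * v⁻¹)
    ⟨by simpa using conj_I hC.setup h.1 (c := v⁻¹) (inv_mem hva),
      conj_mem_Q hC.setup hva h.2.1, e⟩
  exact ⟨(mul_inv_eq_iff_eq_mul.1 h1.symm), (mul_inv_eq_iff_eq_mul.1 h2.symm)⟩

/-- The action of `t` on the points `z • t a`, `z ∈ Z`. -/
theorem t_smul_invol [Finite G] (hC : Ctx G Ω a t Q) {s r k : G} (h : IsLink G a t Q s r)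
    (hk : k ∈ kGrp G a t) :
    t • (k * s * k⁻¹) • (t • a) = (k⁻¹ * r⁻¹ * k) • (t • a) := by
  have htk : t * k = k⁻¹ * t := by
    rw [← hC.t_conj_kGrp hk, mul_assoc, hC.setup.mul_self, mul_one]
  have htk' : k⁻¹ * t = t * k := htk.symm
  have hk2 : k⁻¹ • (t • a) = t • a ∧ k • (t • a) = t • a ∧ k⁻¹ • a = a :=
    ⟨(mem_twoPt.1 (inv_mem (kGrp_le G a t hk))).2, (mem_twoPt.1 (kGrp_le G a t hk)).2,
      (mem_twoPt.1 (inv_mem (kGrp_le G a t hk))).1⟩
  have hs : s • (t • a) = t • (r⁻¹ • (t • a)) := by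
    have : (s * t) • a = (t * (r⁻¹ * t * r)) • a := by
      rw [← h.2.2]; simp only [← mul_assoc, hC.setup.mul_self, one_mul]
    rw [mul_smul, mul_smul, mul_smul, mul_smul, smul_a_of_mem_Q hC.setup h.2.1] at this
    exact this
  rw [mul_smul, mul_smul, hk2.1, hs, smul_smul t k, htk, mul_smul, smul_smul t t, hC.setup.mul_self,
    one_smul, mul_smul, mul_smul, hk2.2.1]

/-- `K` lies in the group generated by `Q` and `t`. -/
theorem kGrp_le_genL [Finite G] (hC : Ctx G Ω a t Q) : kGrp G a t ≤ genL G t Q := by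
  intro k hk
  obtain ⟨p, ⟨h1, h2, e⟩, -⟩ := link_exists_right hC.setup (hC.mem_kGrp.1 hk)
  have hQ : ∀ x ∈ Q, x ∈ genL G t Q := fun x hx => mem_sup_left hx
  have ht : t ∈ genL G t Q := mem_sup_right (subset_closure rfl)
  have : k = p.2 * (t * p.1 * t) * p.2⁻¹ * t := by
    rw [e]
    calc k = k * (t * t) := by rw [hC.setup.mul_self, mul_one]
      _ = _ := by group
  rw [this]
  exact mul_mem (mul_mem (mul_mem (hQ _ h2) (mul_mem (mul_mem ht (hQ _ (mem_I_Q hC.setup h1))) ht))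
    (inv_mem (hQ _ h2))) ht

end Ctx

end Cfsg.Agent.RankOneClass
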