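import Cfsg.Agent.RankOneClass.CoordPre

/-!
Lane E: coordinates of `Q` as the Sylow 2-subgroup of `PSU₃(q)`, or the other group of order `8³`.
-/

set_option autoImplicit false

open Subgroup MulAction

namespace Cfsg.Agent.RankOneClass

open Cfsg.Agent.RankOne Coord

universe u v

variable {G : Type u} {Ω : Type v} [Group G] [MulAction G Ω] {a : Ω} {t : G} {Q : Subgroup G}
variable {E : Type} [Field E] {f : ℕ}

namespace CoordPre

variable (P : CoordPre G a t Q E f)
include P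

/-- A lift of a point of the field. -/
noncomputable def lift (y : E) : G := (P.x_surj y).choose

theorem lift_mem (y : E) : P.lift y ∈ Q := (P.x_surj y).choose_spec.1

theorem x_lift (y : E) : P.x (P.lift y) = y := (P.x_surj y).choose_spec.2

/-- The squaring map in coordinates. -/
noncomputable def sq (y : E) : E := P.coord (P.lift y * P.lift y)

theorem x_one : P.x 1 = 0 := by
  have := P.x_mul 1 Q.one_mem 1 Q.one_mem
  rw [mul_one] at this
  exact left_eq_add.1 this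

theorem x_inv [CharP E 2] {u : G} (hu : u ∈ Q) : P.x u⁻¹ = P.x u := by
  have := P.x_mul u⁻¹ (Q.inv_mem hu) u hu
  rw [inv_mul_cancel, P.x_one] at this
  exact CharTwo.add_eq_zero.1 this.symm

variable [Finite G] [CharP E 2]

theorem coord_sq (hC : Ctx G Ω a t Q) {u : G} (hu : u ∈ Q) : P.coord (u * u) = P.sq (P.x u) := by
  have hl := P.lift_mem (P.x u)
  have hz : (P.lift (P.x u))⁻¹ * u ∈ zGrp G a := by
    rw [← P.x_ker _ (mul_mem (inv_mem hl) hu), P.x_mul _ (inv_mem hl) u hu, P.x_inv hl, P.x_lift,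
      CharTwo.add_self_eq_zero]
  unfold CoordPre.sq
  congr 1
  set l := P.lift (P.x u)
  set z := l⁻¹ * u with hzdef
  calc u * u = l * (z * l) * z := by rw [hzdef]; group
    _ = l * l * (z * z) := by rw [(hC.zGrp_central hz hl).eq]; group
    _ = l * l := by rw [hC.zGrp_sq hz, mul_one]

theorem sq_fix (hU : IsUni G a Q) (y : E) : P.sq y ^ 2 ^ f = P.sq y :=
  P.coord_fix _ (hU.sq_mem _ (P.lift_mem y))

theorem polar_eq (hC : Ctx G Ω a t Q) (hU : IsUni G a Q) {u w : G} (hu : u ∈ Q) (hw : w ∈ Q) :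
    P.sq (P.x u + P.x w) + P.sq (P.x u) + P.sq (P.x w) = P.coord (w⁻¹ * u⁻¹ * w * u) := by
  have hc := hU.comm_mem w hw u hu
  rw [← P.x_mul u hu w hw, ← P.coord_sq hC (mul_mem hu hw), ← P.coord_sq hC hu, ← P.coord_sq hC hw]
  set c := w⁻¹ * u⁻¹ * w * u with hcdef
  have e : u * w * (u * w) = u * u * (w * w) * c := by
    calc u * w * (u * w) = u * (u * w * c) * w := by rw [hcdef]; group
      _ = u * u * w * (c * w) := by group
      _ = u * u * (w * w) * c := by rw [(hC.zGrp_central hc hw).eq]; group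
  rw [e, P.coord_mul _ (mul_mem (hU.sq_mem u hu) (hU.sq_mem w hw)) _ hc,
    P.coord_mul _ (hU.sq_mem u hu) _ (hU.sq_mem w hw),
    show P.coord (u * u) + P.coord (w * w) + P.coord c + P.coord (u * u) + P.coord (w * w) =
      P.coord c + (P.coord (u * u) + P.coord (u * u)) + (P.coord (w * w) + P.coord (w * w)) by ring,
    CharTwo.add_self_eq_zero, CharTwo.add_self_eq_zero, add_zero, add_zero]

theorem polar_add_left (hC : Ctx G Ω a t Q) (hU : IsUni G a Q) (y y' w : E) :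
    P.sq (y + y' + w) + P.sq (y + y') + P.sq w =
      (P.sq (y + w) + P.sq y + P.sq w) + (P.sq (y' + w) + P.sq y' + P.sq w) := by
  obtain ⟨u, hu, rfl⟩ := P.x_surj y
  obtain ⟨u', hu', rfl⟩ := P.x_surj y'
  obtain ⟨v, hv, rfl⟩ := P.x_surj w
  rw [← P.x_mul u hu u' hu', P.polar_eq hC hU (mul_mem hu hu') hv, P.polar_eq hC hU hu hv,
    P.polar_eq hC hU hu' hv, add_comm (P.coord _) (P.coord _)]
  have hc := hU.comm_mem v hv u hu
  have hc' := hU.comm_mem v hv u' hu'
  rw [← P.coord_mul _ hc' _ hc]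
  congr 1
  calc v⁻¹ * (u * u')⁻¹ * v * (u * u') = v⁻¹ * u'⁻¹ * v * ((v⁻¹ * u⁻¹ * v * u) * u') := by group
    _ = v⁻¹ * u'⁻¹ * v * (u' * (v⁻¹ * u⁻¹ * v * u)) := by rw [(hC.zGrp_central hc hu').eq]
    _ = _ := by group

theorem sq_chi (hC : Ctx G Ω a t Q) (hU : IsUni G a Q) {c : G}
    (hc : c ∈ kGrp G a t ⊔ wGrp G a t) (y : E) : P.sq (P.chi c * y) = P.mu c * P.sq y := by
  obtain ⟨u, hu, rfl⟩ := P.x_surj y
  have hcu : c * u * c⁻¹ ∈ Q := conj_mem_Q hC.setup (twoPt_le (Ctx.kw_le_twoPt G a t hc)) hu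
  rw [← P.conj_x c hc u hu, ← P.coord_sq hC hcu, ← P.coord_sq hC hu,
    ← P.conj_coord c hc _ (hU.sq_mem u hu)]
  congr 1
  group

theorem mu_wGrp (hC : Ctx G Ω a t Q) (hU : IsUni G a Q) {w : G} (hw : w ∈ wGrp G a t) : P.mu w = 1 := by
  obtain ⟨u, hu, hxu⟩ := P.x_surj 1
  have hz := hU.sq_mem u hu
  have h := P.conj_coord w (mem_sup_right hw) _ hz
  rw [((hC.mem_wGrp.1 hw).2 _ hz).eq, mul_inv_cancel_right] at h
  have hne : P.coord (u * u) ≠ 0 := fun h0 => by
    have h1 := (P.x_ker u hu).2 (hU.invol_mem u hu (P.coord_eq_zero _ hz h0))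
    rw [hxu] at h1
    exact one_ne_zero h1
  exact (mul_right_cancel₀ hne (h.symm.trans (one_mul _).symm))

theorem sq_ne_zero (hC : Ctx G Ω a t Q) (hU : IsUni G a Q) {y : E} (hy : y ≠ 0) : P.sq y ≠ 0 := by
  obtain ⟨u, hu, rfl⟩ := P.x_surj y
  rw [← P.coord_sq hC hu]
  intro h0
  exact hy ((P.x_ker u hu).2 (hU.invol_mem u hu (P.coord_eq_zero _ (hU.sq_mem u hu) h0)))

theorem chi_one : P.chi 1 = 1 := by
  have h := P.chi_mul 1 (one_mem _) 1 (one_mem _)
  rw [mul_one] at h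
  obtain ⟨u, hu, hxu⟩ := P.x_surj 1
  have h2 := P.conj_x 1 (one_mem _) u hu
  rw [one_mul, inv_one, mul_one, hxu, mul_one] at h2
  exact h2.symm

theorem chi_pow {c : G} (hc : c ∈ kGrp G a t ⊔ wGrp G a t) (n : ℕ) : P.chi (c ^ n) = P.chi c ^ n := by
  induction n with
  | zero => rw [pow_zero, pow_zero, P.chi_one]
  | succ n ih => rw [pow_succ, pow_succ, P.chi_mul _ (pow_mem hc n) _ hc, ih]

theorem chi_prim {c : G} (hc : c ∈ kGrp G a t ⊔ wGrp G a t) :
    IsPrimitiveRoot (P.chi c) (orderOf c) :=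
  ⟨by rw [← P.chi_pow hc, pow_orderOf_eq_one, P.chi_one], fun l hl => by
    rw [← P.chi_pow hc] at hl
    exact orderOf_dvd_of_pow_eq_one (P.chi_inj _ (pow_mem hc l) hl)⟩

end CoordPre

namespace Ctx

/-- The exponents of a semi-invariant biadditive map. -/
theorem coord_support [Finite G] [Fintype E] [CharP E 2] (hC : Ctx G Ω a t Q) (hU : IsUni G a Q)
    (P : CoordPre G a t Q E f) (hE : Fintype.card E = 2 ^ (2 * f)) :
    ∃ c : Fin (2 * f) → Fin (2 * f) → E,
      (∀ y y', P.sq (y + y') + P.sq y + P.sq y' = biSum c y y') ∧ (∀ i j, c i j = c j i) ∧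
        ∀ i j, c i j ≠ 0 → ∀ g ∈ kGrp G a t ⊔ wGrp G a t,
          P.mu g = P.chi g ^ (2 ^ (i : ℕ) + 2 ^ (j : ℕ)) := by
  set B : E → E → E := fun y y' => P.sq (y + y') + P.sq y + P.sq y' with hB
  have hcomm : ∀ y y', B y y' = B y' y := fun y y' => by
    simp only [hB]; rw [add_comm y]; ring
  have hl : ∀ x x' y, B (x + x') y = B x y + B x' y := fun x x' y => P.polar_add_left hC hU x x' y
  have hr : ∀ x y y', B x (y + y') = B x y + B x y' := fun x y y' => by
    rw [hcomm, hl, hcomm y, hcomm y']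
  obtain ⟨c, hc⟩ := exists_biSum hE B hl hr
  refine ⟨c, hc, ?_, fun i j hij g hg => ?_⟩
  · have h : c = fun i j : Fin (2 * f) => c j i := biSum_injective hE fun x y => by
      rw [← hc, hcomm, hc]
      simp only [biSum]
      rw [Finset.sum_comm]
      exact Finset.sum_congr rfl fun i _ => Finset.sum_congr rfl fun j _ => by ring
    exact fun i j => congrFun (congrFun h i) j
  · have h : (fun i j : Fin (2 * f) => P.mu g * c i j) =
        fun i j : Fin (2 * f) => P.chi g ^ (2 ^ (i : ℕ) + 2 ^ (j : ℕ)) * c i j := biSum_injective hE fun x y => by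
      have h1 : B (P.chi g * x) (P.chi g * y) = P.mu g * B x y := by
        simp only [hB]
        rw [← mul_add, P.sq_chi hC hU hg, P.sq_chi hC hU hg, P.sq_chi hC hU hg, mul_add, mul_add]
      rw [hc, hc] at h1
      simp only [biSum, Finset.mul_sum] at h1 ⊢
      refine Eq.trans ?_ (h1.symm.trans ?_)
      · exact Finset.sum_congr rfl fun i _ => Finset.sum_congr rfl fun j _ => by ring
      · exact Finset.sum_congr rfl fun i _ => Finset.sum_congr rfl fun j _ => by ring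
    have h' : P.mu g * c i j = P.chi g ^ (2 ^ (i : ℕ) + 2 ^ (j : ℕ)) * c i j := congrFun (congrFun h i) j
    exact mul_right_cancel₀ hij h'

/-- A generator of `K`. -/
theorem exists_gen_k [Finite G] (hC : Ctx G Ω a t Q) :
    ∃ k ∈ kGrp G a t, orderOf k = qq G a - 1 := by
  haveI := hC.isCyclic_kGrp
  obtain ⟨g, hg⟩ := IsCyclic.exists_ofOrder_eq_natCard (α := kGrp G a t)
  refine ⟨g, g.2, ?_⟩
  rw [Subgroup.orderOf_coe, hg]
  have := hC.card_kGrp
  omega

/-- A generator of `W`. -/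
theorem exists_gen_w (hL : Lines G a t Q) :
    ∃ w ∈ wGrp G a t, orderOf w = Nat.card (wGrp G a t) := by
  haveI := hL.w_cyclic
  obtain ⟨g, hg⟩ := IsCyclic.exists_ofOrder_eq_natCard (α := wGrp G a t)
  exact ⟨g, g.2, by rw [Subgroup.orderOf_coe, hg]⟩

/-- The monomials of the squaring map. -/
theorem coord_cases [Finite G] [Fintype E] [CharP E 2] (hC : Ctx G Ω a t Q) (hU : IsUni G a Q)
    (hL : Lines G a t Q) (hW : WLarge G a t) (P : CoordPre G a t Q E f) (hf2 : 2 ≤ f)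
    (hq : qq G a = 2 ^ f) (hE : Fintype.card E = 2 ^ (2 * f)) :
    (∃ r < f, ∃ c1 c2 : E, ∀ y y', P.sq (y + y') + P.sq y + P.sq y' =
        c1 * (y ^ 2 ^ r * y' ^ 2 ^ (r + f)) + c2 * (y ^ 2 ^ (r + f) * y' ^ 2 ^ r)) ∨
    (f = 3 ∧ Nat.card (wGrp G a t) = 3 ∧ ∃ (i : ℕ) (c1 c3 : E), ∀ y y',
      P.sq (y + y') + P.sq y + P.sq y' =
        c1 * (y ^ 2 ^ i * (y' ^ 2 ^ i) ^ 2 + (y ^ 2 ^ i) ^ 2 * y' ^ 2 ^ i) +
        c3 * (y ^ 2 ^ i * (y' ^ 2 ^ i) ^ 2 + (y ^ 2 ^ i) ^ 2 * y' ^ 2 ^ i) ^ 8) := by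
  obtain ⟨c, hc, hsym, hsupp⟩ := hC.coord_support hU P hE
  obtain ⟨k, hk, hko⟩ := hC.exists_gen_k
  obtain ⟨w, hw, hwo⟩ := exists_gen_w hL
  set m := Nat.card (wGrp G a t) with hm
  have hm3 : 3 ≤ m := hL.w_three
  have hmf : m ∣ 2 ^ f + 1 := hq ▸ hL.w_dvd
  have hlarge : 2 ^ f + 1 ∣ Nat.gcd 3 (2 ^ f + 1) * m := hq ▸ hW
  have hmodd : Nat.Coprime m 2 := by
    refine ((Nat.prime_two.coprime_iff_not_dvd).2 fun h => ?_).symm
    have h2 := h.trans hmf
    have : 2 ∣ 2 ^ f := dvd_pow_self 2 (by omega)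
    omega
  -- exponents of nonzero coefficients
  have hdiff : ∀ i j : Fin (2 * f), c i j ≠ 0 → (i : ℕ) ≤ j →
      ((j : ℕ) - i = f ∨ (f = 3 ∧ m = 3 ∧ Odd ((j : ℕ) - i))) := by
    intro i j hij hle
    have h1 := hsupp i j hij w (mem_sup_right hw)
    rw [P.mu_wGrp hC hU hw] at h1
    have h2 := (P.chi_prim (mem_sup_right hw)).dvd_of_pow_eq_one _ h1.symm
    rw [hwo, show 2 ^ (i : ℕ) + 2 ^ (j : ℕ) = 2 ^ (i : ℕ) * (2 ^ ((j : ℕ) - i) + 1) by
      rw [mul_add, mul_one, ← pow_add, Nat.add_sub_cancel' hle]; ring] at h2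
    exact delta_cases hf2 hm3 hmf hlarge (by omega)
      ((Nat.Coprime.pow_right _ hmodd).dvd_of_dvd_mul_left h2)
  have hres : ∀ i j i' j' : Fin (2 * f), c i j ≠ 0 → c i' j' ≠ 0 →
      2 ^ (i : ℕ) + 2 ^ (j : ℕ) ≡ 2 ^ (i' : ℕ) + 2 ^ (j' : ℕ) [MOD 2 ^ f - 1] := by
    intro i j i' j' h h'
    have e := (hsupp i j h k (mem_sup_left hk)).symm.trans (hsupp i' j' h' k (mem_sup_left hk))
    have ho : orderOf (P.chi k) = 2 ^ f - 1 := by
      rw [← (P.chi_prim (mem_sup_left hk)).eq_orderOf, hko, hq]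
    have hu : IsUnit (P.chi k) := (P.chi_prim (mem_sup_left hk)).isUnit (orderOf_pos k).ne'
    rw [← ho]
    obtain ⟨v, hv⟩ := hu
    rw [← hv] at e ⊢
    rw [orderOf_units]
    exact pow_eq_pow_iff_modEq.1 (Units.ext (by push_cast; exact e))
  by_cases hA : ∃ i j : Fin (2 * f), c i j ≠ 0 ∧ (j : ℕ) = i + f
  · left
    obtain ⟨i0, j0, h0, hj0⟩ := hA
    have hr : (i0 : ℕ) < f := by have := j0.2; omega
    refine ⟨i0, hr, c i0 j0, c j0 i0, fun y y' => ?_⟩
    have hall : ∀ i j, c i j ≠ 0 → (i, j) = (i0, j0) ∨ (i, j) = (j0, i0) := by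
      have key : ∀ i j : Fin (2 * f), c i j ≠ 0 → (i : ℕ) ≤ j → (i, j) = (i0, j0) := by
        intro i j hij hle
        have hi : (i : ℕ) < f ∧ (j : ℕ) = i + f ∧ (i : ℕ) = i0 := by
          rcases hdiff i j hij hle with hd | ⟨hf3, -, hodd⟩
          · refine ⟨by have := j.2; omega, by omega, ?_⟩
            have h := hres i j i0 j0 hij h0
            rw [show (j : ℕ) = i + f by omega, hj0] at h
            refine eq_of_two_pow_modEq (f := f) (by have := j.2; omega) hr ?_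
            have hpw : ∀ x : ℕ, 2 ^ x + 2 ^ (x + f) ≡ 2 ^ (x + 1) [MOD 2 ^ f - 1] := fun x => by
              rw [pow_succ, mul_two, pow_add]
              refine Nat.ModEq.add_left _ ?_
              conv_rhs => rw [← mul_one (2 ^ x)]
              exact Nat.ModEq.mul_left _ ((Nat.modEq_iff_dvd' Nat.one_le_two_pow).2 dvd_rfl).symm
            exact (hpw _).symm.trans (h.trans (hpw _))
          · subst hf3
            have h := hres i j i0 j0 hij h0
            have hodd' : ((i : ℕ) + j) % 2 = 1 := by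
              obtain ⟨l, hl⟩ := hodd
              omega
            have hs := small_hermitian ⟨i0, by omega⟩ ⟨i, by omega⟩ ⟨j, by omega⟩ hodd'
              (h.trans (by rw [hj0, Nat.mod_eq_of_lt (by omega : (i0 : ℕ) + 3 < 6)]))
            simp only at hs
            omega
        exact Prod.ext (Fin.ext hi.2.2) (Fin.ext (by show (j : ℕ) = j0; omega))
      intro i j hij
      rcases le_total (i : ℕ) j with h | h
      · exact Or.inl (key i j hij h)
      · have := key j i (hsym i j ▸ hij) h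
        exact Or.inr (Prod.ext (congrArg Prod.snd this) (congrArg Prod.fst this))
    rw [hc, biSum, ← Fintype.sum_prod_type', ← Finset.sum_subset (Finset.subset_univ {(i0, j0), (j0, i0)})
      (fun p _ hp => by
        by_contra hne
        refine hp ?_
        rw [Finset.mem_insert, Finset.mem_singleton]
        exact hall p.1 p.2 fun h => hne (by rw [h]; ring)),
      Finset.sum_pair (fun e => by
        have := congrArg (fun p : Fin (2 * f) × Fin (2 * f) => (p.1 : ℕ)) e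
        simp only at this
        omega)]
    simp only [hj0]
    ring
  · push Not at hA
    have hodd : ∀ i j : Fin (2 * f), c i j ≠ 0 → f = 3 ∧ m = 3 ∧ ((i : ℕ) + j) % 2 = 1 ∧
        (j : ℕ) ≠ i + 3 ∧ (i : ℕ) ≠ j + 3 := by
      intro i j hij
      have hji : c j i ≠ 0 := hsym i j ▸ hij
      rcases le_total (i : ℕ) j with h | h
      · rcases hdiff i j hij h with hd | ⟨hf3, hm3', ⟨l, hl⟩⟩
        · exact absurd (show (j : ℕ) = i + f by omega) (hA i j hij)
        · have h1 := hA i j hij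
          have h2 := hA j i hji
          exact ⟨hf3, hm3', by omega, by omega, by omega⟩
      · rcases hdiff j i hji h with hd | ⟨hf3, hm3', ⟨l, hl⟩⟩
        · exact absurd (show (i : ℕ) = j + f by omega) (hA j i hji)
        · have h1 := hA i j hij
          have h2 := hA j i hji
          exact ⟨hf3, hm3', by omega, by omega, by omega⟩
    by_cases hz : ∀ i j, c i j = 0
    · left
      refine ⟨0, by omega, 0, 0, fun y y' => ?_⟩
      rw [hc]
      simp [biSum, hz]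
    push Not at hz
    obtain ⟨i1, j1, h1⟩ := hz
    obtain ⟨hf3, hm3', -⟩ := hodd i1 j1 h1
    subst hf3
    obtain ⟨i0, h0⟩ : ∃ i0 : Fin 6, c i0 (i0 + 1) ≠ 0 := by
      have hd : ∀ i j : Fin 6, ((i : ℕ) + j) % 2 = 1 → (j : ℕ) ≠ i + 3 → (i : ℕ) ≠ j + 3 →
          j = i + 1 ∨ i = j + 1 := by decide
      obtain ⟨-, -, e1, e2, e3⟩ := hodd i1 j1 h1
      rcases hd i1 j1 e1 e2 e3 with e | e
      · exact ⟨i1, e ▸ h1⟩
      · exact ⟨j1, e ▸ (hsym i1 j1 ▸ h1)⟩
    right
    refine ⟨rfl, hm3', (i0 : ℕ), c i0 (i0 + 1), c (i0 + 3) (i0 + 4), fun y y' => ?_⟩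
    have hall : ∀ i j : Fin 6, c i j ≠ 0 → (i, j) = (i0, i0 + 1) ∨ (i, j) = (i0 + 1, i0) ∨
        (i, j) = (i0 + 3, i0 + 4) ∨ (i, j) = (i0 + 4, i0 + 3) := by
      intro i j hij
      obtain ⟨-, -, e1, -⟩ := hodd i j hij
      have h := hres i j i0 (i0 + 1) hij h0
      have hv : ((i0 + 1 : Fin 6) : ℕ) = ((i0 : ℕ) + 1) % 6 := by rw [Fin.val_add]; rfl
      rw [hv] at h
      rcases small_other i0 i j e1 h with ⟨a, b⟩ | ⟨a, b⟩ | ⟨a, b⟩ | ⟨a, b⟩ <;> subst a b <;> simp
    have hd4 : ∀ i : Fin 6, (i, i + 1) ∉ ({(i + 1, i), (i + 3, i + 4), (i + 4, i + 3)} : Finset _) ∧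
        (i + 1, i) ∉ ({(i + 3, i + 4), (i + 4, i + 3)} : Finset _) ∧
        (i + 3, i + 4) ∉ ({(i + 4, i + 3)} : Finset _) := by decide
    rw [hc, biSum, ← Fintype.sum_prod_type', ← Finset.sum_subset (Finset.subset_univ
        {(i0, i0 + 1), (i0 + 1, i0), (i0 + 3, i0 + 4), (i0 + 4, i0 + 3)})
      (fun p _ hp => by
        by_contra hne
        refine hp ?_
        simp only [Finset.mem_insert, Finset.mem_singleton]
        exact hall p.1 p.2 fun h => hne (by rw [h]; ring)),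
      Finset.sum_insert (hd4 i0).1, Finset.sum_insert (hd4 i0).2.1, Finset.sum_insert (hd4 i0).2.2,
      Finset.sum_singleton]
    simp only
    rw [hsym (i0 + 1) i0, hsym (i0 + 4) (i0 + 3)]
    have e : ∀ (z : E) (d : Fin 6), z ^ 2 ^ ((i0 + d : Fin 6) : ℕ) = (z ^ 2 ^ (i0 : ℕ)) ^ 2 ^ (d : ℕ) :=
      fun z d => by
        rw [← pow_mul, ← pow_add, Fin.val_add]
        generalize (i0 : ℕ) + (d : ℕ) = n
        have h64 : ∀ k : ℕ, (z ^ 2 ^ (n % 6)) ^ 2 ^ (6 * k) = z ^ 2 ^ (n % 6) := fun k => by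
          induction k with
          | zero => simp
          | succ k ih =>
            rw [mul_add, mul_one, pow_add 2 (6 * k), pow_mul, ih,
              show (2 : ℕ) ^ 6 = Fintype.card E by rw [hE], FiniteField.pow_card]
        conv_rhs => rw [← Nat.mod_add_div n 6, pow_add, pow_mul, h64]
    have e1 := fun z => e z 1
    have e3 := fun z => e z 3
    have e4 := fun z => e z 4
    rw [show ((1 : Fin 6) : ℕ) = 1 from rfl] at e1
    rw [show ((3 : Fin 6) : ℕ) = 3 from rfl] at e3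
    rw [show ((4 : Fin 6) : ℕ) = 4 from rfl] at e4
    simp only [e1, e3, e4]
    norm_num
    rw [show ∀ A B : E, (A + B) ^ 8 = A ^ 8 + B ^ 8 from fun A B => by
      rw [show (8 : ℕ) = 2 ^ 3 by norm_num]; exact add_pow_char_pow A B 2 3]
    ring

end Ctx

end Cfsg.Agent.RankOneClass
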