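import Mathlib
import Cfsg.Agent.TypeA.Extension

/-!
Lane E (coordinates of `Q`): coordinates of a central extension with given bilinear cocycle, and their
average over a group of odd order.
-/

set_option autoImplicit false

namespace Cfsg.Agent.RankOneClass.Coord

variable {G : Type*} [Group G] {E : Type*} [Field E] [CharP E 2] {Q Z : Subgroup G} {x D : G → E}
  {β : E →+ E →+ E}

/-- A coordinate with prescribed cocycle. -/
theorem exists_cocycle [Finite E] (hZQ : Z ≤ Q) (hcen : ∀ z ∈ Z, ∀ u ∈ Q, u * z = z * u)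
    (hx : ∀ u ∈ Q, ∀ v ∈ Q, x (u * v) = x u + x v) (hker : ∀ u ∈ Q, (x u = 0 ↔ u ∈ Z))
    (hsurj : ∀ y, ∃ u ∈ Q, x u = y) (hD : ∀ z ∈ Z, ∀ z' ∈ Z, D (z * z') = D z + D z')
    (hD0 : ∀ z ∈ Z, D z = 0 → z = 1) (hZ2 : ∀ z ∈ Z, z * z = 1) (hβ : ∀ a b, ∃ z ∈ Z, D z = β a b)
    (hsq : ∀ u ∈ Q, u * u ∈ Z ∧ D (u * u) = β (x u) (x u)) :
    ∃ p : G → E, (∀ u ∈ Q, ∀ v ∈ Q, p (u * v) = p u + p v + β (x u) (x v)) ∧
      (∀ z ∈ Z, p z = D z) ∧ ∀ u ∈ Q, ∃ z ∈ Z, p u = D z := by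
  classical
  choose zb hzb hzbD using hβ
  have hDinj : ∀ z ∈ Z, ∀ z' ∈ Z, D z = D z' → z = z' := fun z hz z' hz' e => by
    have h := hD0 _ (Z.mul_mem hz hz') (by rw [hD z hz z' hz', e, CharTwo.add_self_eq_zero])
    rw [mul_eq_one_iff_eq_inv] at h
    rw [h]
    exact inv_eq_of_mul_eq_one_right (hZ2 z' hz')
  letI : CommGroup Z :=
    { (inferInstance : Group Z) with mul_comm := fun a b => Subtype.ext (hcen b b.2 a (hZQ a.2)) }
  let βh : E →+ E →+ Additive Z := AddMonoidHom.mk'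
    (fun a => AddMonoidHom.mk' (fun b => Additive.ofMul (⟨zb a b, hzb a b⟩ : Z)) fun b b' =>
      congrArg Additive.ofMul (Subtype.ext (show zb a (b + b') = zb a b * zb a b' from
        hDinj _ (hzb _ _) _ (mul_mem (hzb _ _) (hzb _ _)) (by
        rw [hD _ (hzb _ _) _ (hzb _ _), hzbD, hzbD, hzbD, map_add]))))
    fun a a' => AddMonoidHom.ext fun b =>
      congrArg Additive.ofMul (Subtype.ext (show zb (a + a') b = zb a b * zb a' b from
        hDinj _ (hzb _ _) _ (mul_mem (hzb _ _) (hzb _ _)) (by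
        rw [hD _ (hzb _ _) _ (hzb _ _), hzbD, hzbD, hzbD, map_add, AddMonoidHom.add_apply])))
  let ι : Additive Z → Q := fun a => ⟨(a.toMul : Z), hZQ a.toMul.2⟩
  obtain ⟨t, ht, htm⟩ := TypeA.exists_section (V := E) (W := Additive Z) (P := Q) CharTwo.add_self_eq_zero
    (fun u => x u) (fun u v => hx u u.2 v v.2) (fun y => by
      obtain ⟨u, hu, rfl⟩ := hsurj y
      exact ⟨⟨u, hu⟩, rfl⟩) ι (fun a b => Subtype.ext rfl)
    (fun a => congrArg Additive.ofMul (Subtype.ext (hZ2 _ a.toMul.2)))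
    (fun a u => Subtype.ext (hcen _ a.toMul.2 u u.2))
    (fun a => (hker _ (hZQ a.toMul.2)).2 a.toMul.2) βh
    (fun u => Subtype.ext (hDinj _ (hsq u u.2).1 _ (hzb _ _) ((hsq u u.2).2.trans (hzbD _ _).symm)))
  have hx1 : x 1 = 0 := by simpa using hx 1 Q.one_mem 1 Q.one_mem
  have hinv : ∀ u ∈ Q, x u⁻¹ = x u := fun u hu => by
    have := hx u⁻¹ (Q.inv_mem hu) u hu
    rw [inv_mul_cancel, hx1] at this
    exact CharTwo.add_eq_zero.1 this.symm
  have hrest : ∀ u ∈ Q, (t (x u) : G)⁻¹ * u ∈ Z := fun u hu => by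
    refine (hker _ (Q.mul_mem (Q.inv_mem (t (x u)).2) hu)).1 ?_
    rw [hx _ (Q.inv_mem (t (x u)).2) u hu, hinv _ (t (x u)).2, ht, CharTwo.add_self_eq_zero]
  have ht0 : (t 0 : G) = zb 0 0 := by
    have h := congrArg Subtype.val (htm 0 0)
    rw [add_zero] at h
    have h' : (t 0 : G) * t 0 = t 0 * zb 0 0 := h
    exact mul_left_cancel h'
  refine ⟨fun u => D ((t (x u) : G)⁻¹ * u), fun u hu v hv => ?_, fun z hz => ?_,
    fun u hu => ⟨_, hrest u hu, rfl⟩⟩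
  · show D ((t (x (u * v)) : G)⁻¹ * (u * v)) = D ((t (x u) : G)⁻¹ * u) + D ((t (x v) : G)⁻¹ * v) + _
    rw [← hzbD (x u) (x v)]
    set zu := (t (x u) : G)⁻¹ * u
    set zv := (t (x v) : G)⁻¹ * v
    have hzu : zu ∈ Z := hrest u hu
    have hzv : zv ∈ Z := hrest v hv
    have hm : (t (x u) : G) * t (x v) = t (x u + x v) * zb (x u) (x v) := congrArg Subtype.val (htm _ _)
    have e : (t (x (u * v)) : G)⁻¹ * (u * v) = zb (x u) (x v) * (zu * zv) := by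
      rw [hx u hu v hv, inv_mul_eq_iff_eq_mul, ← mul_assoc, ← hm]
      calc u * v = (t (x u) : G) * zu * (t (x v) * zv) := by
            simp only [zu, zv, mul_inv_cancel_left]
        _ = t (x u) * (zu * t (x v)) * zv := by simp only [mul_assoc]
        _ = t (x u) * t (x v) * (zu * zv) := by
            rw [← hcen _ hzu _ (t (x v)).2]; simp only [mul_assoc]
    rw [e, hD _ (hzb _ _) _ (Z.mul_mem hzu hzv), hD _ hzu _ hzv]
    ring
  · show D ((t (x z) : G)⁻¹ * z) = D z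
    rw [(hker z (hZQ hz)).2 hz, ht0, hD _ (Z.inv_mem (hzb 0 0)) z hz,
      inv_eq_of_mul_eq_one_right (hZ2 _ (hzb 0 0)), hzbD]
    simp

/-- Averaging a coordinate over a group of odd order. -/
theorem exists_average [Finite G] {C : Subgroup G} (hC : Odd (Nat.card C))
    (hCQ : ∀ c ∈ C, ∀ u ∈ Q, c * u * c⁻¹ ∈ Q) (hCZ : ∀ c ∈ C, ∀ z ∈ Z, c * z * c⁻¹ ∈ Z)
    (chi μ : G → E) (hμ1 : μ 1 = 1) (hμ : ∀ c ∈ C, ∀ c' ∈ C, μ (c * c') = μ c * μ c')
    (hx : ∀ c ∈ C, ∀ u ∈ Q, x (c * u * c⁻¹) = chi c * x u)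
    (hD : ∀ c ∈ C, ∀ z ∈ Z, D (c * z * c⁻¹) = μ c * D z)
    (hβ : ∀ c ∈ C, ∀ a b, β (chi c * a) (chi c * b) = μ c * β a b)
    (d : G → E) (hd : ∀ u ∈ Q, ∀ v ∈ Q, d (u * v) = d u + d v + β (x u) (x v))
    (hdz : ∀ z ∈ Z, d z = D z) :
    ∃ p : G → E, (∀ u ∈ Q, ∀ v ∈ Q, p (u * v) = p u + p v + β (x u) (x v)) ∧
      (∀ z ∈ Z, p z = D z) ∧ (∀ c ∈ C, ∀ u ∈ Q, p (c * u * c⁻¹) = μ c * p u) ∧
      ∀ (T : E →+ E) (h : E → E), (∀ c ∈ C, ∀ y, T (μ c * y) = μ c * T y) →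
        (∀ c ∈ C, ∀ y, h (chi c * y) = μ c * h y) → (∀ u ∈ Q, T (d u) = h (x u)) →
        ∀ u ∈ Q, T (p u) = h (x u) := by
  classical
  haveI : Fintype C := Fintype.ofFinite C
  have hsum : ∀ y : E, ∑ _c : C, y = y := fun y => by
    rw [Finset.sum_const, Finset.card_univ, ← Nat.card_eq_fintype_card, nsmul_eq_mul]
    obtain ⟨k, hk⟩ := hC
    rw [hk, Nat.cast_add, Nat.cast_mul, Nat.cast_two, CharTwo.two_eq_zero, zero_mul, zero_add, Nat.cast_one,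
      one_mul]
  have hcc : ∀ c ∈ C, ∀ u ∈ Q, c⁻¹ * u * c ∈ Q := fun c hc u hu => by
    simpa using hCQ c⁻¹ (C.inv_mem hc) u hu
  have hμi : ∀ c ∈ C, μ c * μ c⁻¹ = 1 := fun c hc => by
    rw [← hμ c hc _ (C.inv_mem hc), mul_inv_cancel, hμ1]
  have hxi : ∀ c ∈ C, ∀ u ∈ Q, x (c⁻¹ * u * c) = chi c⁻¹ * x u := fun c hc u hu => by
    simpa using hx c⁻¹ (C.inv_mem hc) u hu
  refine ⟨fun u => ∑ c : C, μ c * d ((c : G)⁻¹ * u * c), fun u hu v hv => ?_, fun z hz => ?_,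
    fun g hg u hu => ?_, fun T h hT hh hTd u hu => ?_⟩
  · rw [← hsum (β (x u) (x v)), ← Finset.sum_add_distrib, ← Finset.sum_add_distrib]
    refine Finset.sum_congr rfl fun c _ => ?_
    rw [show (c : G)⁻¹ * (u * v) * c = ((c : G)⁻¹ * u * c) * ((c : G)⁻¹ * v * c) by group,
      hd _ (hcc c c.2 u hu) _ (hcc c c.2 v hv), hxi c c.2 u hu, hxi c c.2 v hv,
      hβ _ (C.inv_mem c.2), mul_add, mul_add, ← mul_assoc, hμi c c.2, one_mul]
  · refine Eq.trans (Finset.sum_congr rfl fun c _ => ?_) (hsum (D z))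
    have hz' : (c : G)⁻¹ * z * c ∈ Z := by simpa using hCZ _ (C.inv_mem c.2) z hz
    rw [hdz _ hz']
    have := hD _ (C.inv_mem c.2) z hz
    rw [inv_inv] at this
    rw [this, ← mul_assoc, hμi c c.2, one_mul]
  · rw [Finset.mul_sum]
    refine (Fintype.sum_equiv (Equiv.mulLeft (⟨g, hg⟩ : C)) _ _ fun c => ?_).symm
    show μ g * (μ c * d ((c : G)⁻¹ * u * c)) = μ (g * c) * d ((g * c : G)⁻¹ * (g * u * g⁻¹) * (g * c))
    rw [hμ g hg c c.2, mul_assoc (μ g)]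
    congr 3
    group
  · rw [map_sum]
    refine Eq.trans (Finset.sum_congr rfl fun c _ => ?_) (hsum (h (x u)))
    rw [hT c c.2, hTd _ (hcc c c.2 u hu), hxi c c.2 u hu, hh _ (C.inv_mem c.2), ← mul_assoc,
      hμi c c.2, one_mul]

end Cfsg.Agent.RankOneClass.Coord
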