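import Mathlib
import Cfsg.Agent.Suzuki2.FieldLemmas

/-!
Lane E (coordinates of `Q`): the exponents of the semi-invariant quadratic maps.
-/

set_option autoImplicit false

namespace Cfsg.Agent.RankOneClass.Coord

theorem cast_two_pow_eq_neg_one {f m : ℕ} (h : m ∣ 2 ^ f + 1) : (2 : ZMod m) ^ f = -1 := by
  have h1 : ((2 ^ f + 1 : ℕ) : ZMod m) = 0 := (ZMod.natCast_eq_zero_iff _ _).2 h
  push_cast at h1
  linear_combination h1

theorem one_ne_neg_one {m : ℕ} (hm : 3 ≤ m) : (1 : ZMod m) ≠ -1 := by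
  intro h
  have h1 : ((2 : ℕ) : ZMod m) = 0 := by push_cast; linear_combination h
  have := Nat.le_of_dvd two_pos ((ZMod.natCast_eq_zero_iff _ _).1 h1)
  omega

/-- The dimension of a faithful irreducible module of `K W`. -/
theorem two_f_dvd {f m d : ℕ} (hm : 3 ≤ m) (hmf : m ∣ 2 ^ f + 1)
    (h : (2 ^ f - 1) * m ∣ 2 ^ d - 1) : 2 * f ∣ d := by
  have h1 := Nat.pow_sub_one_gcd_pow_sub_one 2 f d
  rw [Nat.gcd_eq_left ((dvd_mul_right _ _).trans h)] at h1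
  have hfd : f ∣ d := by
    have h2 : 2 ^ f = 2 ^ Nat.gcd f d := by
      have := Nat.one_le_pow f 2 two_pos
      have := Nat.one_le_pow (Nat.gcd f d) 2 two_pos
      omega
    exact Nat.pow_right_injective le_rfl h2 ▸ Nat.gcd_dvd_right f d
  obtain ⟨k, rfl⟩ := hfd
  rcases Nat.even_or_odd k with ⟨l, rfl⟩ | hk
  · exact ⟨l, by ring⟩
  exfalso
  have h3 : (2 : ZMod m) ^ (f * k) = 1 := by
    have h4 : ((2 ^ (f * k) - 1 : ℕ) : ZMod m) = 0 :=
      (ZMod.natCast_eq_zero_iff _ _).2 ((dvd_mul_left m _).trans h)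
    rw [Nat.cast_sub Nat.one_le_two_pow] at h4
    push_cast at h4
    linear_combination h4
  rw [pow_mul, cast_two_pow_eq_neg_one hmf, hk.neg_one_pow] at h3
  exact one_ne_neg_one hm h3.symm

/-- The only exponents killing `W`. -/
theorem delta_cases {f m δ : ℕ} (hf : 2 ≤ f) (hm : 3 ≤ m) (hmf : m ∣ 2 ^ f + 1)
    (hlarge : 2 ^ f + 1 ∣ Nat.gcd 3 (2 ^ f + 1) * m) (hδ : δ < 2 * f) (hd : m ∣ 2 ^ δ + 1) :
    δ = f ∨ (f = 3 ∧ m = 3 ∧ Odd δ) := by
  refine or_iff_not_imp_left.2 fun hne => ?_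
  set a : ZMod m := 2 with ha
  have haf := cast_two_pow_eq_neg_one hmf
  have had := cast_two_pow_eq_neg_one hd
  rw [← ha] at haf had
  have h1 := one_ne_neg_one hm
  have hδ0 : δ ≠ 0 := fun h => h1 (by simpa [h] using had)
  obtain ⟨d, hd0, hdf, hda⟩ : ∃ d, 0 < d ∧ d < f ∧ a ^ d = 1 := by
    rcases Nat.lt_or_gt_of_ne hne with h | h
    · refine ⟨f - δ, by omega, by omega, ?_⟩
      have e : a ^ (f - δ) * a ^ δ = a ^ f := by rw [← pow_add]; congr 1; omega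
      rw [haf, had] at e
      linear_combination -e
    · refine ⟨δ - f, by omega, by omega, ?_⟩
      have e : a ^ (δ - f) * a ^ f = a ^ δ := by rw [← pow_add]; congr 1; omega
      rw [haf, had] at e
      linear_combination -e
  set r := orderOf a with hr
  have hrd : r ∣ d := orderOf_dvd_of_pow_eq_one hda
  have hr2f : r ∣ 2 * f := orderOf_dvd_of_pow_eq_one (by rw [two_mul, pow_add, haf]; ring)
  have hrf : ¬ r ∣ f := fun h => h1 (by rw [← haf, orderOf_dvd_iff_pow_eq_one.1 h])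
  obtain ⟨h, hh⟩ : 2 ∣ r := by
    by_contra h2
    exact hrf ((Nat.Coprime.dvd_of_dvd_mul_left
      ((Nat.prime_two.coprime_iff_not_dvd.2 h2).symm) hr2f))
  obtain ⟨k, rfl⟩ : h ∣ f := by
    rw [hh] at hr2f
    exact Nat.dvd_of_mul_dvd_mul_left two_pos hr2f
  obtain ⟨l, rfl⟩ : Odd k := by
    refine Nat.not_even_iff_odd.1 fun ⟨l, hl⟩ => hrf ⟨l, ?_⟩
    rw [hh, hl]; ring
  have hrle : r ≤ d := Nat.le_of_dvd hd0 hrd
  have hl0 : 1 ≤ l := by
    by_contra hl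
    have : l = 0 := by omega
    subst this
    simp at hdf hh
    omega
  have hah : a ^ h = -1 := by
    have e : a ^ (h * (2 * l + 1)) = (a ^ r) ^ l * a ^ h := by
      rw [hh, ← pow_mul, ← pow_add]; congr 1; ring
    rw [haf, hr, pow_orderOf_eq_one, one_pow, one_mul] at e
    exact e.symm
  have hmh : m ∣ 2 ^ h + 1 := by
    refine (ZMod.natCast_eq_zero_iff _ _).1 ?_
    push_cast
    rw [← ha, hah]
    ring
  have h3h : 3 * h ≤ h * (2 * l + 1) := by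
    calc 3 * h = h * 3 := by ring
      _ ≤ _ := Nat.mul_le_mul_left _ (by omega)
  have hle : 2 ^ (h * (2 * l + 1)) + 1 ≤ 3 * (2 ^ h + 1) := by
    refine (Nat.le_of_dvd (by positivity) hlarge).trans ?_
    exact Nat.mul_le_mul (Nat.le_of_dvd (by norm_num) (Nat.gcd_dvd_left 3 _))
      (Nat.le_of_dvd (by positivity) hmh)
  have hh1 : h = 1 := by
    have hpos : 0 < h := Nat.pos_of_ne_zero fun e => by subst e; omega
    by_contra hne1
    have h8 : (2 ^ h) ^ 3 ≤ 2 ^ (h * (2 * l + 1)) := by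
      rw [← pow_mul]
      exact Nat.pow_le_pow_right two_pos (by omega)
    have h4 : 4 ≤ 2 ^ h := by
      calc 4 = 2 ^ 2 := rfl
        _ ≤ 2 ^ h := Nat.pow_le_pow_right two_pos (by omega)
    have h16 : 16 * 2 ^ h ≤ (2 ^ h) ^ 3 := by
      have : (2 ^ h) ^ 3 = 2 ^ h * 2 ^ h * 2 ^ h := by ring
      rw [this]
      exact Nat.mul_le_mul_right _ (by nlinarith)
    omega
  subst hh1
  have hm3 : m = 3 := by
    have := Nat.le_of_dvd (by norm_num) hmh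
    omega
  refine ⟨?_, hm3, ?_⟩
  · by_contra hne3
    have h5 : 2 ^ 5 ≤ 2 ^ (1 * (2 * l + 1)) := Nat.pow_le_pow_right two_pos (by omega)
    omega
  · refine Nat.not_even_iff_odd.1 fun hev => h1 ?_
    rw [← had, ha]
    subst hm3
    rw [show (2 : ZMod 3) = -1 by decide, hev.neg_one_pow]

/-- The exponent residue of a Hermitian pair determines it. -/
theorem eq_of_two_pow_modEq {f r r' : ℕ} (hr : r < f) (hr' : r' < f)
    (h : 2 ^ (r + 1) ≡ 2 ^ (r' + 1) [MOD 2 ^ f - 1]) : r = r' := by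
  rw [pow_succ, pow_succ] at h
  have hf : 1 ≤ f := by omega
  have hc : Nat.Coprime (2 ^ f - 1) 2 := by
    refine ((Nat.prime_two.coprime_iff_not_dvd).2 fun h2 => ?_).symm
    have := Nat.le_self_pow (show f ≠ 0 by omega) 2
    obtain ⟨k, hk⟩ := h2
    obtain ⟨j, hj⟩ : 2 ∣ 2 ^ f := dvd_pow_self 2 (by omega)
    omega
  have h2 : 2 ^ r ≡ 2 ^ r' [MOD 2 ^ f - 1] := Nat.ModEq.cancel_right_of_coprime hc.gcd_eq_one h
  have hb : ∀ x, x < f → 1 ≤ 2 ^ x ∧ 2 ^ x ≤ 2 ^ f - 1 := fun x hx => by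
    have := Nat.pow_lt_pow_right (a := 2) one_lt_two hx
    exact ⟨Nat.one_le_two_pow, by omega⟩
  exact Nat.pow_right_injective le_rfl
    (Suzuki2.eq_of_modEq_range h2 (hb r hr).1 (hb r hr).2 (hb r' hr').1 (hb r' hr').2)

theorem small_hermitian : ∀ i : Fin 6, ∀ i' : Fin 6, ∀ j' : Fin 6,
    ((i' : ℕ) + j') % 2 = 1 → (2 ^ (i' : ℕ) + 2 ^ (j' : ℕ)) % 7 = (2 ^ (i : ℕ) + 2 ^ (((i : ℕ) + 3) % 6)) % 7 →
      (j' : ℕ) = ((i' : ℕ) + 3) % 6 ∧ (i' : ℕ) % 3 = (i : ℕ) % 3 := by decide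

theorem small_other : ∀ i : Fin 6, ∀ i' : Fin 6, ∀ j' : Fin 6,
    ((i' : ℕ) + j') % 2 = 1 → (2 ^ (i' : ℕ) + 2 ^ (j' : ℕ)) % 7 = (2 ^ (i : ℕ) + 2 ^ (((i : ℕ) + 1) % 6)) % 7 →
      (i' = i ∧ j' = i + 1) ∨ (i' = i + 1 ∧ j' = i) ∨ (i' = i + 3 ∧ j' = i + 4) ∨ (i' = i + 4 ∧ j' = i + 3) := by decide

end Cfsg.Agent.RankOneClass.Coord
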