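import Mathlib
import Cfsg.Agent.TypeA.Monomial

/-!
Lane E (coordinates of `Q`): a fixed-point-free irreducible abelian group of automorphisms makes an
elementary abelian 2-group into a field; additive and biadditive maps of a finite field of
characteristic two are combinations of Frobenius powers.
-/

set_option autoImplicit false

namespace Cfsg.Agent.RankOneClass.Coord

open Polynomial

/-- A fixed-point-free group of automorphisms of large multiplicative order makes the module a field. -/
theorem exists_field_model {V C : Type*} [AddCommGroup V] [Finite V] [CommGroup C] [Finite C]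
    (h2 : ∀ v : V, v + v = 0) (ρ : C →* AddMonoid.End V)
    (fpf : ∀ c : C, c ≠ 1 → ∀ v : V, ρ c v = v → v = 0) {n : ℕ} (hn : 0 < n)
    (hV : Nat.card V = 2 ^ n) (hdim : ∀ d : ℕ, Nat.card C ∣ 2 ^ d - 1 → n ∣ d) :
    ∃ (E : Type) (_ : Field E) (_ : Fintype E) (L : V ≃+ E) (χ : C →* E),
      Fintype.card E = 2 ^ n ∧ (∀ c v, L (ρ c v) = χ c * L v) ∧ (∀ c, χ c = 1 → c = 1) := by
  classical
  haveI : Fact (Nat.Prime 2) := ⟨Nat.prime_two⟩
  obtain ⟨v0, hv0⟩ : ∃ v0 : V, v0 ≠ 0 := by
    haveI : Nontrivial V := Finite.one_lt_card_iff_nontrivial.1 (hV ▸ Nat.one_lt_two_pow hn.ne')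
    exact exists_ne 0
  -- irreducibility
  have hirr : ∀ S : AddSubgroup V, (∀ c, ∀ v ∈ S, ρ c v ∈ S) → S ≠ ⊥ → S = ⊤ := by
    intro S hS hne
    obtain ⟨d, hd⟩ : ∃ d, Nat.card S = 2 ^ d := by
      have h := S.card_addSubgroup_dvd_card
      rw [hV] at h
      obtain ⟨d, -, hd⟩ := (Nat.dvd_prime_pow Nat.prime_two).1 h
      exact ⟨d, hd⟩
    let X := {v : S // v ≠ 0}
    have hρ : ∀ c d : C, ∀ v, ρ (c * d) v = ρ c (ρ d v) := fun c d v => by
      rw [map_mul]; rfl
    letI : MulAction C X :=
      { smul := fun c x => ⟨⟨ρ c x.1, hS c _ x.1.2⟩, fun e => x.2 (Subtype.ext (by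
          have e' : ρ c (x.1 : V) = 0 := congrArg Subtype.val e
          have := congrArg (ρ c⁻¹) e'
          rw [← hρ, inv_mul_cancel, map_one, map_zero] at this
          simpa using this))⟩
        one_smul := fun x => Subtype.ext (Subtype.ext (show ρ 1 (x.1 : V) = _ by rw [map_one]; rfl))
        mul_smul := fun c d x => Subtype.ext (Subtype.ext (hρ c d _)) }
    have hfree : ∀ x : X, MulAction.stabilizer C x = ⊥ := fun x =>
      (Subgroup.eq_bot_iff_forall _).2 fun c hc => by
        by_contra hc1
        have e : ρ c (x.1 : V) = x.1 := congrArg (fun y : X => ((y.1 : S) : V))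
          (MulAction.mem_stabilizer_iff.1 hc)
        exact x.2 (Subtype.ext (fpf c hc1 _ e))
    have h1 := Nat.card_congr (MulAction.selfEquivOrbitsQuotientProd hfree)
    rw [Nat.card_prod] at h1
    have hX : Nat.card X = 2 ^ d - 1 := by
      letI := Fintype.ofFinite S
      rw [Nat.card_eq_fintype_card, Fintype.card_subtype_compl, Fintype.card_subtype_eq,
        ← Nat.card_eq_fintype_card, hd]
    have h3 : n ∣ d := hdim d (hX ▸ h1 ▸ dvd_mul_left _ _)
    have hd0 : d ≠ 0 := by
      rintro rfl
      exact hne (AddSubgroup.eq_bot_of_card_eq S (by simpa using hd))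
    refine AddSubgroup.eq_top_of_card_eq S ?_
    refine le_antisymm (AddSubgroup.card_le_card_addGroup S) ?_
    rw [hV, hd]
    exact Nat.pow_le_pow_right two_pos (Nat.le_of_dvd (by omega) h3)
  -- the field
  let R : Subring (AddMonoid.End V) := Subring.closure (Set.range ρ)
  letI : CommRing R := Subring.closureCommRingOfComm (by
    rintro _ ⟨c, rfl⟩ _ ⟨d, rfl⟩
    rw [← map_mul, ← map_mul, mul_comm])
  let κ : C →* R :=
    { toFun := fun c => ⟨ρ c, Subring.subset_closure ⟨c, rfl⟩⟩
      map_one' := Subtype.ext (map_one ρ)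
      map_mul' := fun c d => Subtype.ext (map_mul ρ c d) }
  have hcomm : ∀ (r : R) (c : C) (v : V), (r : AddMonoid.End V) (ρ c v) = ρ c ((r : AddMonoid.End V) v) :=
    fun r c v => congrArg (fun s : R => (s : AddMonoid.End V) v) (mul_comm r (κ c))
  let ev : R →+ V :=
    { toFun := fun r => (r : AddMonoid.End V) v0
      map_zero' := rfl
      map_add' := fun a b => rfl }
  have hinjr : ∀ r : R, r ≠ 0 → ∀ v, (r : AddMonoid.End V) v = 0 → v = 0 := by
    intro r hr v hv
    let S : AddSubgroup V := AddMonoidHom.ker ((r : AddMonoid.End V) : V →+ V)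
    have hS : ∀ c, ∀ w ∈ S, ρ c w ∈ S := fun c w hw => by
      show (r : AddMonoid.End V) (ρ c w) = 0
      rw [hcomm, show (r : AddMonoid.End V) w = 0 from hw, map_zero]
    by_contra hv0'
    have hne : S ≠ ⊥ := fun h => hv0' ((AddSubgroup.mem_bot).1 (h ▸ (hv : v ∈ S)))
    have htop := hirr S hS hne
    exact hr (Subtype.ext (AddMonoidHom.ext fun w => show (r : AddMonoid.End V) w = 0 from
      (htop ▸ AddSubgroup.mem_top w : w ∈ S)))
  have hinj : Function.Injective ev := (injective_iff_map_eq_zero ev).mpr fun r hr => by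
    by_contra hr0
    exact hv0 (hinjr r hr0 v0 hr)
  have hsurj : Function.Surjective ev := by
    have hS : ∀ c, ∀ w ∈ ev.range, ρ c w ∈ ev.range := by
      rintro c _ ⟨r, rfl⟩
      exact ⟨κ c * r, rfl⟩
    have htop := hirr ev.range hS fun h => hv0 ((AddSubgroup.mem_bot).1 (h ▸ ⟨1, rfl⟩ : v0 ∈ (⊥ : AddSubgroup V)))
    exact AddMonoidHom.range_eq_top.1 htop
  haveI : Nontrivial R := ⟨⟨1, 0, fun h => hv0 (congrArg ev h)⟩⟩
  haveI : NoZeroDivisors R := ⟨fun {r s} h => by
    refine or_iff_not_imp_left.mpr fun hr => hinj ((hinjr r hr (ev s) ?_).trans (map_zero ev).symm)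
    exact congrArg (fun t : R => (t : AddMonoid.End V) v0) h⟩
  haveI : IsDomain R := NoZeroDivisors.to_isDomain R
  haveI : Finite R := Finite.of_injective ev hinj
  letI : Fintype R := Fintype.ofFinite R
  letI : Field R := Fintype.fieldOfDomain R
  have hcard : Nat.card R = 2 ^ n :=
    (Nat.card_congr (Equiv.ofBijective ev ⟨hinj, hsurj⟩)).trans hV
  let E := GaloisField 2 n
  haveI : Finite E := Nat.finite_of_card_ne_zero (by
    rw [GaloisField.card 2 n hn.ne']; positivity)
  letI : Fintype E := Fintype.ofFinite E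
  have hE : Fintype.card E = 2 ^ n := by
    rw [← Nat.card_eq_fintype_card]; exact GaloisField.card 2 n hn.ne'
  let ψ : R ≃+* E := FiniteField.ringEquivOfCardEq (by rw [← Nat.card_eq_fintype_card, hcard, hE])
  let e : R ≃+ V := AddEquiv.ofBijective ev ⟨hinj, hsurj⟩
  refine ⟨E, inferInstance, inferInstance, e.symm.trans ψ.toAddEquiv, ψ.toMonoidHom.comp κ, hE,
    fun c v => ?_, fun c hc => ?_⟩
  · show ψ (e.symm (ρ c v)) = ψ (κ c) * ψ (e.symm v)
    rw [← map_mul]
    congr 1
    refine e.injective ?_
    rw [e.apply_symm_apply]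
    show ρ c v = ρ c (e (e.symm v))
    rw [e.apply_symm_apply]
  · by_contra hc1
    have h1 : κ c = 1 := ψ.injective (hc.trans (map_one ψ).symm)
    exact hv0 (fpf c hc1 v0 (congrArg (fun r : R => (r : AddMonoid.End V) v0) h1))

variable {F : Type*} [Field F] [Fintype F] [CharP F 2] {n : ℕ}

/-- The additive map with given coefficients at the Frobenius powers. -/
noncomputable def frobSum (a : Fin n → F) : F →+ F where
  toFun x := ∑ i, a i * x ^ 2 ^ (i : ℕ)
  map_zero' := by simp
  map_add' x y := by
    simp only [add_pow_char_pow, mul_add, Finset.sum_add_distrib]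

theorem frobSum_injective (hF : Fintype.card F = 2 ^ n) :
    Function.Injective (frobSum : (Fin n → F) → F →+ F) := by
  intro a b h
  set p : F[X] := ∑ i : Fin n, C (a i - b i) * X ^ 2 ^ (i : ℕ) with hp
  have hdeg : p.natDegree < Fintype.card F := by
    refine lt_of_le_of_lt (natDegree_sum_le_of_forall_le _ _ (n := 2 ^ n - 1) fun i _ => ?_) ?_
    · refine (natDegree_C_mul_X_pow_le _ _).trans ?_
      have := Nat.pow_lt_pow_right (a := 2) one_lt_two i.2
      omega
    · rw [hF]; have := Nat.two_pow_pos n; omega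
  have hz : p = 0 := TypeA.eq_zero_of_vanish hdeg fun x => by
    simp only [hp, eval_finsetSum, eval_mul, eval_C, eval_pow, eval_X, sub_mul, Finset.sum_sub_distrib]
    exact sub_eq_zero.2 (congrArg (fun T : F →+ F => T x) h)
  funext i
  have := congrArg (fun q : F[X] => q.coeff (2 ^ (i : ℕ))) hz
  simp only [hp, finsetSum_coeff, coeff_C_mul, coeff_X_pow, coeff_zero] at this
  rw [Finset.sum_eq_single i (fun j _ hj => by
      rw [if_neg, mul_zero]
      exact fun e => hj (Fin.ext (Nat.pow_right_injective le_rfl e.symm)))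
    (fun h => absurd (Finset.mem_univ i) h), if_pos rfl, mul_one] at this
  exact sub_eq_zero.1 this

/-- Every additive map is a combination of Frobenius powers. -/
theorem frobSum_surjective (hF : Fintype.card F = 2 ^ n) :
    Function.Surjective (frobSum : (Fin n → F) → F →+ F) := by
  classical
  letI : Algebra (ZMod 2) F := ZMod.algebra F 2
  haveI : Finite (F →+ F) := Finite.of_injective _ DFunLike.coe_injective
  refine (Nat.bijective_iff_injective_and_card _ |>.2 ⟨frobSum_injective hF, ?_⟩).2
  have hr : Module.finrank (ZMod 2) F = n := by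
    have h := Module.card_eq_pow_finrank (K := ZMod 2) (V := F)
    rw [ZMod.card, hF] at h
    exact (Nat.pow_right_injective le_rfl h).symm
  let b := Module.finBasisOfFinrankEq (ZMod 2) F hr
  exact Nat.card_congr ((b.constr ℕ).toEquiv.trans
    { toFun := LinearMap.toAddMonoidHom
      invFun := fun T => AddMonoidHom.toZModLinearMap 2 T
      left_inv := fun T => LinearMap.ext fun _ => rfl
      right_inv := fun T => AddMonoidHom.ext fun _ => rfl })

/-- The biadditive map with given coefficients. -/
def biSum (c : Fin n → Fin n → F) (x y : F) : F :=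
  ∑ i, ∑ j, c i j * x ^ 2 ^ (i : ℕ) * y ^ 2 ^ (j : ℕ)

theorem biSum_injective (hF : Fintype.card F = 2 ^ n) {c c' : Fin n → Fin n → F}
    (h : ∀ x y, biSum c x y = biSum c' x y) : c = c' := by
  have h1 : ∀ y, (fun i => ∑ j, c i j * y ^ 2 ^ (j : ℕ)) = fun i => ∑ j, c' i j * y ^ 2 ^ (j : ℕ) := fun y =>
    frobSum_injective hF (AddMonoidHom.ext fun x => by
      show ∑ i, (∑ j, c i j * y ^ 2 ^ (j : ℕ)) * x ^ 2 ^ (i : ℕ) =
        ∑ i, (∑ j, c' i j * y ^ 2 ^ (j : ℕ)) * x ^ 2 ^ (i : ℕ)
      have := h x y
      simp only [biSum] at this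
      simp only [Finset.sum_mul]
      convert this using 2 <;> exact Finset.sum_congr rfl fun j _ => by ring)
  funext i
  exact frobSum_injective hF (AddMonoidHom.ext fun y => congrFun (h1 y) i)

/-- Every biadditive map is a combination of products of Frobenius powers. -/
theorem exists_biSum (hF : Fintype.card F = 2 ^ n) (B : F → F → F)
    (hl : ∀ x x' y, B (x + x') y = B x y + B x' y) (hr : ∀ x y y', B x (y + y') = B x y + B x y') :
    ∃ c : Fin n → Fin n → F, ∀ x y, B x y = biSum c x y := by
  choose g hg using fun y => frobSum_surjective hF (AddMonoidHom.mk' (fun x => B x y) fun x x' => hl x x' y)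
  have hadd : ∀ y y', g (y + y') = g y + g y' := fun y y' => frobSum_injective hF (AddMonoidHom.ext fun x => by
    have e : ∀ a b : Fin n → F, frobSum (a + b) x = frobSum a x + frobSum b x := fun a b => by
      simp [frobSum, add_mul, Finset.sum_add_distrib]
    rw [e, hg, hg, hg]
    exact hr x y y')
  choose c hc using fun i => frobSum_surjective hF (AddMonoidHom.mk' (fun y => g y i) fun y y' => by
    rw [hadd]; rfl)
  refine ⟨c, fun x y => ?_⟩
  have h1 : frobSum (g y) x = B x y := by rw [hg]; rfl
  rw [← h1]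
  show ∑ i, g y i * x ^ 2 ^ (i : ℕ) = _
  refine Finset.sum_congr rfl fun i _ => ?_
  have h2 : frobSum (c i) y = g y i := by rw [hc]; rfl
  rw [← h2]
  show (∑ j, c i j * y ^ 2 ^ (j : ℕ)) * _ = _
  rw [Finset.sum_mul]
  exact Finset.sum_congr rfl fun j _ => by ring

end Cfsg.Agent.RankOneClass.Coord
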