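import Cfsg.Agent.RankOneClass.ZField
import Cfsg.Agent.PSU3Sylow.Heis
import Cfsg.Agent.RankOneClass.CoordField
import Cfsg.Agent.RankOneClass.CoordExp
import Cfsg.Agent.RankOneClass.CoordCocycle

/-!
Lane E (coordinates of `Q`): `Q / Z` and `Z` as subsets of a field with `q²` elements.
-/

set_option autoImplicit false

open Subgroup MulAction

namespace Cfsg.Agent.RankOneClass

open Cfsg.Agent.RankOne

universe u v

variable {G : Type u} {Ω : Type v} [Group G] [MulAction G Ω] {a : Ω} {t : G} {Q : Subgroup G}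

/-- Linear coordinates on `Q / Z` and on `Z`. -/
structure CoordPre (G : Type u) [Group G] [MulAction G Ω] (a : Ω) (t : G) (Q : Subgroup G)
    (E : Type) [Field E] (f : ℕ) where
  x : G → E
  x_mul : ∀ u ∈ Q, ∀ u' ∈ Q, x (u * u') = x u + x u'
  x_ker : ∀ u ∈ Q, (x u = 0 ↔ u ∈ zGrp G a)
  x_surj : ∀ y : E, ∃ u ∈ Q, x u = y
  chi : G → E
  chi_mul : ∀ c ∈ kGrp G a t ⊔ wGrp G a t, ∀ d ∈ kGrp G a t ⊔ wGrp G a t, chi (c * d) = chi c * chi d
  chi_inj : ∀ c ∈ kGrp G a t ⊔ wGrp G a t, chi c = 1 → c = 1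
  conj_x : ∀ c ∈ kGrp G a t ⊔ wGrp G a t, ∀ u ∈ Q, x (c * u * c⁻¹) = chi c * x u
  coord : G → E
  coord_mul : ∀ z ∈ zGrp G a, ∀ z' ∈ zGrp G a, coord (z * z') = coord z + coord z'
  coord_eq_zero : ∀ z ∈ zGrp G a, coord z = 0 → z = 1
  coord_fix : ∀ z ∈ zGrp G a, coord z ^ 2 ^ f = coord z
  coord_surj : ∀ y : E, y ^ 2 ^ f = y → ∃ z ∈ zGrp G a, coord z = y
  mu : G → E
  mu_mul : ∀ c ∈ kGrp G a t ⊔ wGrp G a t, ∀ d ∈ kGrp G a t ⊔ wGrp G a t, mu (c * d) = mu c * mu d
  mu_one : mu 1 = 1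
  conj_coord : ∀ c ∈ kGrp G a t ⊔ wGrp G a t, ∀ z ∈ zGrp G a, coord (c * z * c⁻¹) = mu c * coord z

namespace Ctx

theorem kw_le_twoPt (G : Type u) [Group G] [MulAction G Ω] (a : Ω) (t : G) :
    kGrp G a t ⊔ wGrp G a t ≤ twoPt G a t :=
  sup_le (kGrp_le G a t) ((wGrp_le G a t).trans (vGrp_le G a t))

theorem mem_kw [Finite G] (hC : Ctx G Ω a t Q) {c : G} (hc : c ∈ kGrp G a t ⊔ wGrp G a t) :
    ∃ k ∈ kGrp G a t, ∃ w ∈ wGrp G a t, c = k * w := by
  have h : kGrp G a t ⊔ wGrp G a t ≤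
      (MonoidHom.noncommCoprod (kGrp G a t).subtype (wGrp G a t).subtype
        fun k w => (hC.wGrp_kGrp w.2 k.2).symm).range := by
    refine sup_le (fun k hk => ⟨(⟨k, hk⟩, 1), ?_⟩) (fun w hw => ⟨(1, ⟨w, hw⟩), ?_⟩) <;> simp [MonoidHom.noncommCoprod]
  obtain ⟨⟨k, w⟩, rfl⟩ := h hc
  exact ⟨k, k.2, w, w.2, rfl⟩

theorem kw_comm [Finite G] (hC : Ctx G Ω a t Q) (hL : Lines G a t Q) {c d : G}
    (hc : c ∈ kGrp G a t ⊔ wGrp G a t) (hd : d ∈ kGrp G a t ⊔ wGrp G a t) : c * d = d * c := by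
  obtain ⟨k, hk, w, hw, rfl⟩ := hC.mem_kw hc
  obtain ⟨k', hk', w', hw', rfl⟩ := hC.mem_kw hd
  haveI := hL.w_cyclic
  letI : CommGroup (wGrp G a t) := IsCyclic.commGroup
  have hww : Commute w w' := congrArg Subtype.val (mul_comm (⟨w, hw⟩ : wGrp G a t) ⟨w', hw'⟩)
  exact (((hC.kGrp_comm hk hk').mul_left (hC.wGrp_kGrp hw hk')).mul_right
    (((hC.wGrp_kGrp hw' hk).symm).mul_left hww)).eq

theorem card_kw [Finite G] (hC : Ctx G Ω a t Q) :
    Nat.card ↥(kGrp G a t ⊔ wGrp G a t) = (qq G a - 1) * Nat.card (wGrp G a t) := by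
  rw [show qq G a - 1 = Nat.card (kGrp G a t) by have := hC.card_kGrp; omega, ← Nat.card_prod]
  refine (Nat.card_eq_of_bijective (fun p : kGrp G a t × wGrp G a t =>
    (⟨p.1 * p.2, mul_mem_sup p.1.2 p.2.2⟩ : ↥(kGrp G a t ⊔ wGrp G a t))) ⟨?_, ?_⟩).symm
  · rintro ⟨⟨k, hk⟩, ⟨w, hw⟩⟩ ⟨⟨k', hk'⟩, ⟨w', hw'⟩⟩ h
    have h' : k * w = k' * w' := congrArg Subtype.val h
    have e : k'⁻¹ * k = w' * w⁻¹ := by
      calc k'⁻¹ * k = k'⁻¹ * (k * w) * w⁻¹ := by group
        _ = w' * w⁻¹ := by rw [h']; group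
    have h1 := hC.kv_disjoint (mul_mem (inv_mem hk') hk)
      (e ▸ mul_mem (wGrp_le G a t hw') (inv_mem (wGrp_le G a t hw)))
    obtain rfl := (inv_mul_eq_one.1 h1).symm
    obtain rfl : w = w' := mul_left_cancel h'
    rfl
  · rintro ⟨c, hc⟩
    obtain ⟨k, hk, w, hw, rfl⟩ := hC.mem_kw hc
    exact ⟨(⟨k, hk⟩, ⟨w, hw⟩), rfl⟩

theorem kw_conj_z [Finite G] (hC : Ctx G Ω a t Q) {k w z : G} (hw : w ∈ wGrp G a t)
    (hz : z ∈ zGrp G a) : k * w * z * (k * w)⁻¹ = k * z * k⁻¹ := by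
  rw [mul_inv_rev, mul_assoc k w z, ((hC.mem_wGrp.1 hw).2 z hz).eq]
  group

/-- A nontrivial element of `K W` fixes no nontrivial element of `Q / Z`. -/
theorem kw_fpf [Finite G] (hC : Ctx G Ω a t Q) (hU : IsUni G a Q) (hL : Lines G a t Q) {c : G}
    (hc : c ∈ kGrp G a t ⊔ wGrp G a t) (hc1 : c ≠ 1) {u : G} (hu : u ∈ Q)
    (h : u⁻¹ * (c * u * c⁻¹) ∈ zGrp G a) : u ∈ zGrp G a := by
  obtain ⟨k, hk, w, hw, rfl⟩ := hC.mem_kw hc
  by_contra huz
  set z := u⁻¹ * (k * w * u * (k * w)⁻¹) with hz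
  have e : k * w * u * (k * w)⁻¹ = u * z := by rw [hz, mul_inv_cancel_left]
  have hsq : k * w * (u * u) * (k * w)⁻¹ = u * u := by
    calc k * w * (u * u) * (k * w)⁻¹ = k * w * u * (k * w)⁻¹ * (k * w * u * (k * w)⁻¹) := by group
      _ = u * (z * u) * z := by rw [e]; group
      _ = u * u * (z * z) := by rw [(hC.zGrp_central h hu).eq]; group
      _ = u * u := by rw [hC.zGrp_sq h, mul_one]
  rw [hC.kw_conj_z hw (hU.sq_mem u hu)] at hsq
  have hk1 : k = 1 := by
    by_contra hk1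
    exact huz (hU.invol_mem u hu (hC.kGrp_fpf hk hk1 (mul_mem hu hu) (mul_inv_eq_iff_eq_mul.1 hsq)))
  subst hk1
  rw [one_mul] at e hc1
  have hwz : Commute w z := (hC.mem_wGrp.1 hw).2 z h
  have hpow : ∀ n : ℕ, w ^ n * u * (w ^ n)⁻¹ = u * z ^ n := by
    intro n
    induction n with
    | zero => simp
    | succ n ih =>
      calc w ^ (n + 1) * u * (w ^ (n + 1))⁻¹ = w * (w ^ n * u * (w ^ n)⁻¹) * w⁻¹ := by
            rw [pow_succ']; group
        _ = w * (u * z ^ n) * w⁻¹ := by rw [ih]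
        _ = w * u * w⁻¹ * (w * z ^ n * w⁻¹) := by group
        _ = u * z * z ^ n := by
            rw [e, show w * z ^ n = z ^ n * w from (hwz.pow_right n).eq, mul_inv_cancel_right]
        _ = u * z ^ (n + 1) := by rw [pow_succ']; group
  have h1 := hpow (orderOf w)
  rw [pow_orderOf_eq_one, one_mul, inv_one, mul_one, left_eq_mul] at h1
  have hodd : Odd (orderOf w) := by
    refine hC.odd_vGrp.of_dvd_nat ?_
    rw [show orderOf w = orderOf (⟨w, wGrp_le G a t hw⟩ : vGrp G a t) from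
      (Subgroup.orderOf_mk _ _).symm]
    exact orderOf_dvd_natCard _
  obtain ⟨j, hj⟩ := hodd
  rw [hj, pow_succ, pow_mul, pow_two, hC.zGrp_sq h, one_pow, one_mul] at h1
  rw [h1, mul_one, mul_inv_eq_iff_eq_mul] at e
  exact huz (hL.cent_w w hw hc1 u hu e)

/-- The linear coordinates. -/
theorem exists_coordPre [Finite G] (hC : Ctx G Ω a t Q) (hU : IsUni G a Q) (hL : Lines G a t Q) :
    ∃ (E : Type) (_ : Field E) (_ : Fintype E) (f : ℕ), 2 ≤ f ∧ qq G a = 2 ^ f ∧
      Fintype.card E = 2 ^ (2 * f) ∧ Nonempty (CoordPre G a t Q E f) := by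
  classical
  obtain ⟨f, hf2, hf⟩ := hC.exists_qq_pow
  set Z := (zGrp G a).subgroupOf Q
  haveI : Z.Normal := ⟨fun z hz g => by
    show ((g : G) * z * (g : G)⁻¹) ∈ zGrp G a
    exact hC.conj_mem_zGrp (hC.setup.le g.2) hz⟩
  letI instV : CommGroup (Q ⧸ Z) :=
    { (inferInstance : Group (Q ⧸ Z)) with
      mul_comm := fun x y => by
        induction x using QuotientGroup.induction_on with | H x =>
        induction y using QuotientGroup.induction_on with | H y =>
        rw [← QuotientGroup.mk_mul, ← QuotientGroup.mk_mul, QuotientGroup.eq]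
        show ((x : G) * y)⁻¹ * (y * x) ∈ zGrp G a
        rw [mul_inv_rev, ← mul_assoc]
        exact hU.comm_mem y y.2 x x.2 }
  let V := Additive (Q ⧸ Z)
  let C := ↥(kGrp G a t ⊔ wGrp G a t)
  letI : CommGroup C :=
    { (inferInstance : Group C) with mul_comm := fun c d => Subtype.ext (hC.kw_comm hL c.2 d.2) }
  have hCQ : ∀ (c : C) (u : Q), (c : G) * u * (c : G)⁻¹ ∈ Q := fun c u =>
    conj_mem_Q hC.setup (twoPt_le (kw_le_twoPt G a t c.2)) u.2
  let act : C → (Q →* Q) := fun c => MonoidHom.mk' (fun u => ⟨(c : G) * u * (c : G)⁻¹, hCQ c u⟩)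
    fun u u' => Subtype.ext (show (c : G) * (u * u') * (c : G)⁻¹ = _ by
      simp only [Subgroup.coe_mul]; group)
  let act' : C → AddMonoid.End V := fun c => MonoidHom.toAdditive (QuotientGroup.map Z Z (act c) fun z hz =>
      hC.conj_mem_zGrp (twoPt_le (kw_le_twoPt G a t c.2)) hz)
  have hact' : ∀ (c : C) (u : Q), act' c (Additive.ofMul (QuotientGroup.mk u : Q ⧸ Z)) =
      Additive.ofMul (QuotientGroup.mk (act c u) : Q ⧸ Z) := fun _ _ => rfl
  have hrep : ∀ v : V, ∃ u : Q, Additive.ofMul (QuotientGroup.mk u : Q ⧸ Z) = v := fun v =>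
    let ⟨u, hu⟩ := QuotientGroup.mk_surjective (Additive.toMul v)
    ⟨u, congrArg Additive.ofMul hu⟩
  have hact1 : act' 1 = 1 := AddMonoidHom.ext fun v => by
    obtain ⟨u, rfl⟩ := hrep v
    show act' 1 _ = Additive.ofMul (QuotientGroup.mk u : Q ⧸ Z)
    rw [hact']
    exact congrArg (fun q : Q => Additive.ofMul (QuotientGroup.mk q : Q ⧸ Z))
      (Subtype.ext (show (1 : G) * u * (1 : G)⁻¹ = u by simp))
  have hactm : ∀ c d : C, act' (c * d) = act' c * act' d := fun c d => AddMonoidHom.ext fun v => by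
    obtain ⟨u, rfl⟩ := hrep v
    show act' (c * d) _ = act' c (act' d _)
    rw [hact', hact', hact']
    exact congrArg (fun q : Q => Additive.ofMul (QuotientGroup.mk q : Q ⧸ Z))
      (Subtype.ext (show ((c : G) * d) * u * ((c : G) * d)⁻¹ =
        (c : G) * ((d : G) * u * (d : G)⁻¹) * (c : G)⁻¹ by group))
  let ρ : C →* AddMonoid.End V := { toFun := act', map_one' := hact1, map_mul' := hactm }
  have hρ : ∀ (c : C) (u : Q), ρ c (Additive.ofMul (QuotientGroup.mk u : Q ⧸ Z)) =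
      Additive.ofMul (QuotientGroup.mk (act c u) : Q ⧸ Z) := hact'
  have h2 : ∀ v : V, v + v = 0 := fun v => by
    obtain ⟨u, hu⟩ := QuotientGroup.mk_surjective (Additive.toMul v)
    have : Additive.toMul v * Additive.toMul v = 1 := by
      rw [← hu, ← QuotientGroup.mk_mul, QuotientGroup.eq_one_iff]
      exact hU.sq_mem u u.2
    exact this
  have hcardV : Nat.card V = 2 ^ (2 * f) := by
    have h := Z.card_eq_card_quotient_mul_card_subgroup
    rw [hU.card, Nat.card_congr (Subgroup.subgroupOfEquivOfLe hC.zGrp_le).toEquiv,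
      show Nat.card (zGrp G a) = qq G a from rfl, pow_succ (qq G a) 2] at h
    have h' : Nat.card (Q ⧸ Z) = qq G a ^ 2 :=
      (Nat.eq_of_mul_eq_mul_right (by have := hC.four_le_qq; omega) h).symm
    rw [show Nat.card V = Nat.card (Q ⧸ Z) from rfl, h', hf, ← pow_mul, mul_comm]
  have hfpf : ∀ c : C, c ≠ 1 → ∀ v : V, ρ c v = v → v = 0 := by
    intro c hc v hv
    obtain ⟨u, rfl⟩ : ∃ u : Q, Additive.ofMul (QuotientGroup.mk u : Q ⧸ Z) = v :=
      let ⟨u, hu⟩ := QuotientGroup.mk_surjective (Additive.toMul v)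
      ⟨u, congrArg Additive.ofMul hu⟩
    rw [hρ] at hv
    have hv' : (QuotientGroup.mk u : Q ⧸ Z) = QuotientGroup.mk (act c u) := (Additive.ofMul.injective hv).symm
    refine congrArg Additive.ofMul ((QuotientGroup.eq_one_iff u).2 ?_)
    have h3 := QuotientGroup.eq.1 hv'
    exact hC.kw_fpf hU hL c.2 (fun e => hc (Subtype.ext e)) u.2 h3
  obtain ⟨E, iF, iT, L, χ, hE, hLρ, hχ⟩ := Coord.exists_field_model h2 ρ hfpf (by omega) hcardV
    (fun d hd => by
      rw [hC.card_kw, hf] at hd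
      exact Coord.two_f_dvd hL.w_three (hf ▸ hL.w_dvd) hd)
  obtain ⟨s, r, hlink⟩ := hC.exists_link
  obtain ⟨F, jF, jT, hF, ⟨X⟩⟩ := hC.exists_zField hlink
  haveI := PSU3Sylow.charTwo hE
  haveI := PSU3Sylow.charTwo (hF.trans hf)
  letI : Algebra (ZMod 2) E := ZMod.algebra E 2
  letI : Algebra (ZMod 2) F := ZMod.algebra F 2
  have hrank : ∀ (L : Type) [Field L] [Fintype L] [Algebra (ZMod 2) L] (n : ℕ),
      Fintype.card L = 2 ^ n → Module.finrank (ZMod 2) L = n := fun L _ _ _ n hn => by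
    have h := Module.card_eq_pow_finrank (K := ZMod 2) (V := L)
    rw [ZMod.card, hn] at h
    exact (Nat.pow_right_injective le_rfl h).symm
  obtain ⟨ι⟩ := FiniteField.nonempty_algHom_of_finrank_dvd (F := ZMod 2) (K := F) (L := E) (by
    rw [hrank F f (hF.trans hf), hrank E _ hE]; exact dvd_mul_left _ _)
  have hs : s ∈ zGrp G a := subset_closure hlink.1
  have hconjX : ∀ c ∈ kGrp G a t ⊔ wGrp G a t, ∀ z ∈ zGrp G a,
      X.coord (c * z * c⁻¹) = X.coord (c * s * c⁻¹) * X.coord z := by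
    intro c hc z hz
    obtain ⟨k, hk, w, hw, rfl⟩ := hC.mem_kw hc
    rw [hC.kw_conj_z hw hz, hC.kw_conj_z hw hs, X.conj_K k hk z hz, X.conj_K k hk s hs, X.coord_base,
      mul_one]
  have hqF : ∀ y : F, (ι y) ^ 2 ^ f = ι y := fun y => by
    rw [← map_pow, ← hf, ← hF, FiniteField.pow_card]
  let xx : G → E := fun g => if hg : g ∈ Q then L (Additive.ofMul (QuotientGroup.mk ⟨g, hg⟩ : Q ⧸ Z)) else 0
  have hxx : ∀ u : Q, xx u = L (Additive.ofMul (QuotientGroup.mk u : Q ⧸ Z)) := fun u => dif_pos u.2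
  let ch : G → E := fun g => if hg : g ∈ kGrp G a t ⊔ wGrp G a t then χ ⟨g, hg⟩ else 0
  have hch : ∀ c : C, ch c = χ c := fun c => dif_pos c.2
  refine ⟨E, iF, iT, f, hf2, hf, hE, ⟨
    { x := xx
      x_mul := fun u hu u' hu' => by
        rw [hxx ⟨u, hu⟩, hxx ⟨u', hu'⟩, hxx ⟨u * u', mul_mem hu hu'⟩, ← map_add]
        rfl
      x_ker := fun u hu => by
        rw [hxx ⟨u, hu⟩, map_eq_zero_iff L L.injective]
        exact QuotientGroup.eq_one_iff (N := Z) (⟨u, hu⟩ : Q)
      x_surj := fun y => by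
        obtain ⟨u, hu⟩ := QuotientGroup.mk_surjective (Additive.toMul (L.symm y))
        refine ⟨u, u.2, ?_⟩
        rw [hxx, hu]
        exact L.apply_symm_apply y
      chi := ch
      chi_mul := fun c hc d hd => by
        rw [hch ⟨c, hc⟩, hch ⟨d, hd⟩, hch ⟨c * d, mul_mem hc hd⟩, ← map_mul]
        rfl
      chi_inj := fun c hc h => by
        rw [hch ⟨c, hc⟩] at h
        exact congrArg Subtype.val (hχ _ h)
      conj_x := fun c hc u hu => by
        rw [hxx ⟨u, hu⟩, hch ⟨c, hc⟩, ← hLρ, hρ, ← hxx]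
        rfl
      coord := fun z => ι (X.coord z)
      coord_mul := fun z hz z' hz' => by rw [X.coord_mul z hz z' hz', map_add]
      coord_eq_zero := fun z hz h => X.coord_eq_zero z hz (ι.injective (h.trans (map_zero ι).symm))
      coord_fix := fun z _ => hqF _
      coord_surj := fun y hy => by
        obtain ⟨z, e⟩ : ∃ z : F, ι z = y := by
          by_contra hne
          push Not at hne
          have hroot : ∀ w ∈ insert y ((Finset.univ : Finset F).image ι), w ^ 2 ^ f = w := by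
            intro w hw
            rcases Finset.mem_insert.1 hw with rfl | hw
            · exact hy
            · obtain ⟨z, -, rfl⟩ := Finset.mem_image.1 hw
              exact hqF z
          open Polynomial in
          have hle := (Polynomial.X ^ 2 ^ f - Polynomial.X : E[X]).card_le_degree_of_subset_roots (Z := insert y ((Finset.univ : Finset F).image ι)) (by
            intro w hw
            rw [Finset.mem_val] at hw
            rw [Polynomial.mem_roots (FiniteField.X_pow_card_pow_sub_X_ne_zero E (by omega) (by norm_num))]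
            simp [hroot w hw])
          rw [Finset.card_insert_of_notMem (fun hm => by
              obtain ⟨z, -, e⟩ := Finset.mem_image.1 hm
              exact hne z e),
            Finset.card_image_of_injective _ (show Function.Injective ι from ι.injective), Finset.card_univ, hF, hf,
            FiniteField.X_pow_card_pow_sub_X_natDegree_eq E (by omega) (by norm_num)] at hle
          omega
          done
        exact ⟨_, (X.coord_surj z).choose_spec.1, (congrArg ι (X.coord_surj z).choose_spec.2).trans e⟩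
      mu := fun c => ι (X.coord (c * s * c⁻¹))
      mu_mul := fun c hc d hd => by
        rw [← map_mul, ← hconjX c hc _ (hC.conj_mem_zGrp (twoPt_le (kw_le_twoPt G a t hd)) hs)]
        exact congrArg (fun g => ι (X.coord g)) (by group)
      mu_one := by rw [one_mul, inv_one, mul_one, X.coord_base, map_one]
      conj_coord := fun c hc z hz => by rw [hconjX c hc z hz, map_mul] }⟩⟩

end Ctx

end Cfsg.Agent.RankOneClass
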