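import Mathlib

/-!
A Galois-descent count: an automorphism of order `n` of a finite abelian group that permutes the
powers of a sufficiently regular endomorphism has a fixed group whose `n`-th power is the order of
the group.
-/

set_option autoImplicit false

open Finset

namespace Cfsg.Agent.RankOneClass.FreeFixed

variable {M : Type*} [AddCommGroup M]

/-- Vandermonde, columns: `∑ⱼ aⱼ^i xⱼ = 0` for all `i < n` forces `x = 0`. -/
theorem vandermonde_columns : ∀ (n : ℕ) (A : ℕ → AddMonoid.End M) (x : ℕ → M),
    (∀ i j, Commute (A i) (A j)) →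
    (∀ i < n, ∀ j < n, i ≠ j → ∀ m, A i m = A j m → m = 0) →
    (∀ i < n, ∑ j ∈ range n, (A j ^ i) (x j) = 0) → ∀ j < n, x j = 0 := by
  intro n
  induction n with
  | zero => intro A x _ _ _ j hj; exact absurd hj (by omega)
  | succ n ih =>
    intro A x hc hinj hsum
    have hlow : ∀ j < n, x j = 0 := by
      have h' : ∀ j < n, A j (x j) - A n (x j) = 0 := by
        refine ih A (fun j => A j (x j) - A n (x j)) hc
          (fun i hi j hj => hinj i (by omega) j (by omega)) fun i hi => ?_
        have h1 := hsum (i + 1) (by omega)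
        have h2 := congrArg (A n) (hsum i (by omega))
        rw [map_sum, map_zero] at h2
        rw [Finset.sum_range_succ] at h1 h2
        have h3 : ∀ j, A n ((A j ^ i) (x j)) = (A j ^ i) (A n (x j)) := fun j =>
          DFunLike.congr_fun ((hc n j).pow_right i).eq (x j)
        have h4 : ∀ j, (A j ^ i) (A j (x j)) = (A j ^ (i + 1)) (x j) := fun j => by
          rw [pow_succ]; rfl
        have e : ∀ j ∈ range n, (A j ^ i) (A j (x j) - A n (x j)) =
            (A j ^ (i + 1)) (x j) - A n ((A j ^ i) (x j)) := fun j _ => by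
          rw [map_sub, h4, h3]
        rw [Finset.sum_congr rfl e, Finset.sum_sub_distrib, eq_neg_of_add_eq_zero_left h1,
          eq_neg_of_add_eq_zero_left h2, h3, ← h4, sub_neg_eq_add, neg_add_cancel]
      intro j hj
      exact hinj j (by omega) n (by omega) (by omega) _ (sub_eq_zero.1 (h' j hj))
    intro j hj
    rcases (show j < n ∨ j = n by omega) with h | rfl
    · exact hlow j h
    · have h := hsum 0 (by omega)
      rw [Finset.sum_range_succ, Finset.sum_eq_zero fun l hl => by
        rw [hlow l (mem_range.1 hl), map_zero], zero_add, pow_zero] at h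
      exact h

/-- Vandermonde, rows: a polynomial of degree `< n` with `n` roots vanishes. -/
theorem vandermonde_rows : ∀ (n : ℕ) (A : ℕ → AddMonoid.End M) (c : ℕ → M),
    (∀ i j, Commute (A i) (A j)) →
    (∀ i < n, ∀ j < n, i ≠ j → ∀ m, A i m = A j m → m = 0) →
    (∀ j < n, ∑ i ∈ range n, (A j ^ i) (c i) = 0) → ∀ i < n, c i = 0 := by
  intro n
  induction n with
  | zero => intro A c _ _ _ i hi; exact absurd hi (by omega)
  | succ n ih =>
    intro A c hc hinj hsum
    set B := A n
    set d : ℕ → M := fun i => ∑ l ∈ range (n - i), (B ^ l) (c (i + 1 + l)) with hd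
    have hrec : ∀ i < n, d i = c (i + 1) + B (d (i + 1)) := by
      intro i hi
      simp only [hd]
      rw [show n - i = n - (i + 1) + 1 by omega, Finset.sum_range_succ', pow_zero, map_sum,
        add_comm]
      congr 1
      refine Finset.sum_congr rfl fun l _ => ?_
      rw [pow_succ', show i + 1 + (l + 1) = i + 1 + 1 + l by omega]
      rfl
    have hdn : d n = 0 := by simp [hd]
    set P := c 0 + B (d 0) with hP
    have key : ∀ j, ∀ k ≤ n, ∑ i ∈ range k, (A j ^ i) (A j (d i) - B (d i)) + P =
        ∑ i ∈ range k, (A j ^ i) (c i) + (A j ^ k) (c k + B (d k)) := by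
      intro j k hk
      induction k with
      | zero => simp [hP]
      | succ k ihk =>
        rw [Finset.sum_range_succ, Finset.sum_range_succ, add_right_comm, ihk (by omega),
          map_sub, map_add, ← hrec k (by omega)]
        have : (A j ^ k) (A j (d k)) = (A j ^ (k + 1)) (d k) := by rw [pow_succ]; rfl
        rw [this]
        abel
    have hfull : ∀ j, ∑ i ∈ range n, (A j ^ i) (A j (d i) - B (d i)) + P =
        ∑ i ∈ range (n + 1), (A j ^ i) (c i) := by
      intro j
      rw [key j n le_rfl, Finset.sum_range_succ, hdn, map_zero, add_zero]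
    have hP0 : P = 0 := by
      have h := hfull n
      rw [hsum n (by omega), Finset.sum_eq_zero fun i _ => by rw [sub_self, map_zero], zero_add] at h
      exact h
    have hd0 : ∀ i < n, d i = 0 := by
      refine ih A d hc (fun i hi j hj => hinj i (by omega) j (by omega)) fun j hj => ?_
      refine hinj j (by omega) n (by omega) (by omega) _ ?_
      have h := hfull j
      rw [hsum j (by omega), hP0, add_zero] at h
      rw [← sub_eq_zero, map_sum, map_sum, ← Finset.sum_sub_distrib, ← h]
      refine Finset.sum_congr rfl fun i _ => ?_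
      rw [map_sub]
      have e1 : A j ((A j ^ i) (d i)) = (A j ^ i) (A j (d i)) :=
        DFunLike.congr_fun ((Commute.refl (A j)).pow_right i).eq (d i)
      have e2 : B ((A j ^ i) (d i)) = (A j ^ i) (B (d i)) :=
        DFunLike.congr_fun ((hc n j).pow_right i).eq (d i)
      rw [e1, e2]
    intro i hi
    rcases i with - | i
    · by_cases hn : n = 0
      · subst hn; simpa [hP, hdn] using hP0
      · simpa [hP, hd0 0 (by omega)] using hP0
    · have h := hrec i (by omega)
      rw [hd0 i (by omega)] at h
      by_cases hin : i + 1 = n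
      · rw [hin, hdn, map_zero, add_zero, ← hin] at h; exact h.symm
      · rw [hd0 (i + 1) (by omega), map_zero, add_zero] at h; exact h.symm

/-- If `v` has period `n`, maps `ρ` to its conjugates `A j` and these are pairwise separated, the
`n`-th power of the number of fixed points of `v` is `|M|`. -/
theorem card_fixed_pow_eq [Finite M] (v ρ : AddMonoid.End M) (A : ℕ → AddMonoid.End M) {n : ℕ}
    (hn : 0 < n) (hv : v ^ n = 1) (hA : ∀ j, v ^ j * ρ = A j * v ^ j)
    (hc : ∀ i j, Commute (A i) (A j))
    (hinj : ∀ i < n, ∀ j < n, i ≠ j → ∀ m, A i m = A j m → m = 0) :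
    Nat.card {m : M // v m = m} ^ n = Nat.card M := by
  classical
  have hApow : ∀ j i : ℕ, v ^ j * ρ ^ i = A j ^ i * v ^ j := by
    intro j i
    induction i with
    | zero => simp
    | succ i ih => rw [pow_succ, ← mul_assoc, ih, mul_assoc, hA, pow_succ, mul_assoc]
  have hfix : ∀ m : M, v (∑ j ∈ range n, (v ^ j) m) = ∑ j ∈ range n, (v ^ j) m := by
    intro m
    rw [map_sum]
    have h1 : ∀ j, v ((v ^ j) m) = (v ^ (j + 1)) m := fun j => by rw [pow_succ']; rfl
    simp only [h1]
    obtain ⟨k, rfl⟩ : ∃ k, n = k + 1 := ⟨n - 1, by omega⟩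
    rw [Finset.sum_range_succ, hv]
    rw [Finset.sum_range_succ' (fun j => (v ^ j) m) k, pow_zero]
  let F := {m : M // v m = m}
  have hF : Nat.card (Fin n → F) = Nat.card F ^ n := by rw [Nat.card_fun, Nat.card_fin]
  have hT : Function.Injective (fun (m : M) (i : Fin n) =>
      (⟨∑ j ∈ range n, (v ^ j) ((ρ ^ (i : ℕ)) m), hfix _⟩ : F)) := by
    intro m m' he
    have h0 : ∀ i < n, ∑ j ∈ range n, (A j ^ i) ((v ^ j) (m - m')) = 0 := by
      intro i hi
      have h := congrArg Subtype.val (congrFun he ⟨i, hi⟩)
      simp only at h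
      have e : ∀ x : M, ∀ j, (A j ^ i) ((v ^ j) x) = (v ^ j) ((ρ ^ i) x) := fun x j =>
        (DFunLike.congr_fun (hApow j i) x).symm
      simp only [map_sub, e, Finset.sum_sub_distrib, h, sub_self]
    have h := vandermonde_columns n A (fun j => (v ^ j) (m - m')) hc hinj h0 0 hn
    exact sub_eq_zero.1 (by simpa using h)
  have hS : Function.Injective (fun c : Fin n → F => ∑ i : Fin n, (ρ ^ (i : ℕ)) (c i).1) := by
    intro c c' he
    let δ : ℕ → M := fun i => if h : i < n then (c ⟨i, h⟩).1 - (c' ⟨i, h⟩).1 else 0
    have hδfix : ∀ i, v (δ i) = δ i := fun i => by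
      by_cases h : i < n
      · simp only [δ, dif_pos h, map_sub, (c ⟨i, h⟩).2, (c' ⟨i, h⟩).2]
      · simp only [δ, dif_neg h, map_zero]
    have hδpow : ∀ i j, (v ^ j) (δ i) = δ i := fun i j => by
      induction j with
      | zero => rfl
      | succ j ih =>
        rw [pow_succ]
        show (v ^ j) (v (δ i)) = δ i
        rw [hδfix, ih]
    have h0 : ∑ i ∈ range n, (ρ ^ i) (δ i) = 0 := by
      rw [Finset.sum_range, ← sub_eq_zero.2 he, ← Finset.sum_sub_distrib]
      refine Finset.sum_congr rfl fun i _ => ?_
      simp only [δ, dif_pos i.2, map_sub]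
    have h := vandermonde_rows n A δ hc hinj fun j _ => by
      have h1 := congrArg (v ^ j) h0
      rw [map_sum, map_zero] at h1
      rw [← h1]
      refine Finset.sum_congr rfl fun i _ => ?_
      have e : (v ^ j) ((ρ ^ i) (δ i)) = (A j ^ i) ((v ^ j) (δ i)) :=
        DFunLike.congr_fun (hApow j i) (δ i)
      rw [e, hδpow]
    funext i
    have hi := h i i.2
    simp only [δ, dif_pos i.2, sub_eq_zero] at hi
    exact Subtype.ext hi
  refine le_antisymm ?_ ?_
  · rw [← hF]; exact Nat.card_le_card_of_injective _ hS
  · rw [← hF]; exact Nat.card_le_card_of_injective _ hT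

end Cfsg.Agent.RankOneClass.FreeFixed
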