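import Cfsg.Agent.RankOneClass.ZField
import Cfsg.Agent.RankOneClass.FreeFixed
import Cfsg.Agent.RankOne.Centralized

/-!
The set-up induced by the centraliser of an element of `V` on its fixed points, the profile it
inherits from the induction hypothesis, and the size of the fixed group in `Q`.
-/

set_option autoImplicit false

open Subgroup MulAction

namespace Cfsg.Agent.RankOneClass

open Cfsg.Agent.RankOne

universe u v

variable {G : Type u} {Ω : Type v} [Group G] [MulAction G Ω] {a : Ω} {t : G} {Q : Subgroup G}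

/-- The fixed points of `w` as an invariant set of its centraliser. -/
def fixAct (Ω : Type v) [MulAction G Ω] (w : G) : SubMulAction (centralizer ({w} : Set G)) Ω where
  carrier := fixedBy Ω w
  smul_mem' g c hc := by
    show w • ((g : G) • c) = (g : G) • c
    rw [← mul_smul, ← mem_centralizer_singleton_iff.1 g.2, mul_smul, show w • c = c from hc]

/-- The kernel of the action of `C(w)` on the fixed points of `w`. -/
def imgKer (Ω : Type v) [MulAction G Ω] (w : G) : Subgroup (centralizer ({w} : Set G)) :=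
  (MulAction.toPermHom (centralizer ({w} : Set G)) (fixAct Ω w)).ker

instance imgKer_normal (Ω : Type v) [MulAction G Ω] (w : G) : (imgKer Ω w).Normal := by
  unfold imgKer; infer_instance

/-- The group induced by `C(w)` on the fixed points of `w`. -/
abbrev Img (Ω : Type v) [MulAction G Ω] (w : G) : Type u :=
  centralizer ({w} : Set G) ⧸ imgKer Ω w

noncomputable instance imgAction (Ω : Type v) [MulAction G Ω] (w : G) :
    MulAction (Img Ω w) (fixAct Ω w) :=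
  MulAction.compHom _ (QuotientGroup.kerLift
    (MulAction.toPermHom (centralizer ({w} : Set G)) (fixAct Ω w)))

/-- `C(w) → Img`. -/
def toImg (Ω : Type v) [MulAction G Ω] (w : G) : centralizer ({w} : Set G) →* Img Ω w :=
  QuotientGroup.mk' _

theorem toImg_smul (w : G) (g : centralizer ({w} : Set G)) (c : fixAct Ω w) :
    toImg Ω w g • c = g • c := rfl

theorem toImg_smul_val (w : G) (g : centralizer ({w} : Set G)) (c : fixAct Ω w) :
    ((toImg Ω w g • c : fixAct Ω w) : Ω) = (g : G) • (c : Ω) := rfl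

theorem toImg_eq_one {w : G} {g : centralizer ({w} : Set G)} :
    toImg Ω w g = 1 ↔ ∀ c : Ω, w • c = c → (g : G) • c = c := by
  rw [toImg, QuotientGroup.mk'_apply, QuotientGroup.eq_one_iff, imgKer, MonoidHom.mem_ker]
  constructor
  · intro h c hc
    exact congrArg Subtype.val (DFunLike.congr_fun h (⟨c, hc⟩ : fixAct Ω w))
  · intro h
    exact Equiv.ext fun c => Subtype.ext (h c c.2)

theorem toImg_surjective (w : G) : Function.Surjective (toImg Ω w) :=
  QuotientGroup.mk'_surjective _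

namespace Ctx

variable [Finite G]

/-- Coordinates are injective on `Z`. -/
theorem coord_inj (hC : Ctx G Ω a t Q) {s : G} {F : Type} [Field F] [Fintype F]
    (X : ZField G a t s F) {z z' : G} (hz : z ∈ zGrp G a) (hz' : z' ∈ zGrp G a)
    (h : X.coord z = X.coord z') : z = z' := by
  have h0 : X.coord 1 = 0 := by
    have := X.coord_mul 1 (one_mem _) 1 (one_mem _)
    rw [one_mul] at this
    exact left_eq_add.1 this
  have hz2 : X.coord z' + X.coord z' = 0 := by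
    rw [← X.coord_mul z' hz' z' hz', hC.zGrp_sq hz', h0]
  have h2 := X.coord_eq_zero _ (mul_mem hz hz') (by rw [X.coord_mul z hz z' hz', h, hz2])
  exact (eq_inv_of_mul_eq_one_left h2).trans (hC.zGrp_inv hz')

/-- The image of `C_Q(w)`. -/
def imgQ (Ω : Type v) [MulAction G Ω] (w : G) (Q : Subgroup G) : Subgroup (Img Ω w) :=
  (Q.subgroupOf (centralizer {w})).map (toImg Ω w)

omit [Finite G] in
theorem t_mem_cent {w : G} (hw : w ∈ vGrp G a t) : t ∈ centralizer ({w} : Set G) :=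
  mem_centralizer_singleton_iff.2 (mem_vGrp.1 hw).2.eq

omit [Finite G] in
theorem a_mem_fix {w : G} (hw : w ∈ vGrp G a t) : w • a = a :=
  (mem_twoPt.1 (vGrp_le G a t hw)).1

omit [Finite G] in
theorem tC_smul_a {w : G} (hw : w ∈ vGrp G a t) :
    ((toImg Ω w ⟨t, t_mem_cent hw⟩ • (⟨a, a_mem_fix hw⟩ : fixAct Ω w) : fixAct Ω w) : Ω) = t • a :=
  rfl

theorem exists_third_fixed (hC : Ctx G Ω a t Q) {w : G} (hw : w ∈ vGrp G a t) :
    ∃ d : Ω, d ≠ a ∧ d ≠ t • a ∧ ∀ x ∈ ({w} : Set G), x • d = d := by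
  obtain ⟨s, r, h⟩ := hC.exists_link
  refine ⟨s • (t • a), Q_smul_ne hC.setup (mem_I_Q hC.setup h.1) (t_smul_ne hC.setup), fun e => ?_,
    fun x hx => ?_⟩
  · exact h.1.2.1 (Q_free hC.setup (mem_I_Q hC.setup h.1) (t_smul_ne hC.setup) e)
  · rw [Set.mem_singleton_iff.1 hx, ← mul_smul, (hC.link_vGrp h hw).1.eq, mul_smul,
      (mem_twoPt.1 (vGrp_le G a t hw)).2]

/-- A fixed point of `w` other than `a` is reached by `C_Q(w)`. -/
theorem cent_stab_split (hC : Ctx G Ω a t Q) {w g : G} (hw : w ∈ vGrp G a t)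
    (hg : g ∈ centralizer ({w} : Set G)) (hga : g • a = a) :
    ∃ x ∈ Q, Commute x w ∧ ∃ d ∈ twoPt G a t, Commute d w ∧ g = x * d := by
  obtain ⟨x, hx, d, hd, e⟩ := stabilizer_split hC.setup (show g ∈ stabilizer G a from hga)
  have hwD := vGrp_le G a t hw
  have h1 : g = (w * x * w⁻¹) * (w * d * w⁻¹) := by
    rw [show w * x * w⁻¹ * (w * d * w⁻¹) = w * (x * d) * w⁻¹ by group, ← e,
      ← mem_centralizer_singleton_iff.1 hg, mul_inv_cancel_right]
  obtain ⟨e1, e2⟩ := split_unique hC.setup hx (conj_mem_Q hC.setup (twoPt_le hwD) hx) hd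
    (mul_mem (mul_mem hwD hd) (inv_mem hwD)) (e.symm.trans h1)
  exact ⟨x, hx, (mul_inv_eq_iff_eq_mul.1 e1.symm).symm, d, hd,
    (mul_inv_eq_iff_eq_mul.1 e2.symm).symm, e⟩

theorem imgQ_inj (hC : Ctx G Ω a t Q) {w : G} (hw : w ∈ vGrp G a t)
    {x : centralizer ({w} : Set G)} (hx : (x : G) ∈ Q) (h : toImg Ω w x = 1) : x = 1 :=
  Subtype.ext (Q_free hC.setup hx (t_smul_ne hC.setup)
    (toImg_eq_one.1 h _ (mem_twoPt.1 (vGrp_le G a t hw)).2))

theorem card_imgQ (hC : Ctx G Ω a t Q) {w : G} (hw : w ∈ vGrp G a t) :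
    Nat.card (imgQ Ω w Q) = Nat.card ↥(Q ⊓ centralizer {w}) := by
  refine (Nat.card_congr (Equiv.ofBijective
    (fun x : ↥(Q ⊓ centralizer ({w} : Set G)) =>
      (⟨toImg Ω w ⟨x, x.2.2⟩, ⟨⟨x, x.2.2⟩, x.2.1, rfl⟩⟩ : imgQ Ω w Q)) ⟨?_, ?_⟩)).symm
  · intro x y e
    have e' : toImg Ω w (⟨(x : G), x.2.2⟩⁻¹ * ⟨(y : G), y.2.2⟩) = 1 := by
      rw [map_mul, map_inv, show toImg Ω w ⟨(x : G), x.2.2⟩ = _ from congrArg Subtype.val e,
        inv_mul_cancel]
    have h1 := congrArg Subtype.val (hC.imgQ_inj hw (mul_mem (inv_mem (show (x : G) ∈ Q from x.2.1)) (show (y : G) ∈ Q from y.2.1)) e')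
    exact Subtype.ext (inv_mul_eq_one.1 h1)
  · rintro ⟨_, g, hg, rfl⟩
    exact ⟨⟨g, hg, g.2⟩, rfl⟩

theorem img_setup (hC : Ctx G Ω a t Q) {w : G} (hw : w ∈ vGrp G a t) :
    Cfsg.IsRankOneSetup (Img Ω w) (fixAct Ω w) ⟨a, a_mem_fix hw⟩ (toImg Ω w ⟨t, t_mem_cent hw⟩)
      (imgQ Ω w Q) := by
  have hS := hC.setup
  have hX : ∀ x ∈ ({w} : Set G), x ∈ twoPt G a t := fun x hx => by
    rw [Set.mem_singleton_iff.1 hx]; exact vGrp_le G a t hw
  have h3 := hC.exists_third_fixed hw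
  refine ⟨?_, ?_, ?_, ?_, ?_, ?_, ?_, ?_, ?_, ?_⟩
  · rw [is_two_pretransitive_iff]
    intro x y z u hxy hzu
    have fx : ∀ c : fixAct Ω w, ∀ g ∈ ({w} : Set G), g • (c : Ω) = c := fun c g hg => by
      rw [Set.mem_singleton_iff.1 hg]; exact c.2
    obtain ⟨g, hg, hga, hgb⟩ := cent_pairs hS hX h3 (fx x) (fx y) fun e => hxy (Subtype.ext e)
    obtain ⟨g', hg', hga', hgb'⟩ := cent_pairs hS hX h3 (fx z) (fx u) fun e => hzu (Subtype.ext e)
    refine ⟨toImg Ω w ⟨g' * g⁻¹, mul_mem hg' (inv_mem hg)⟩, Subtype.ext ?_, Subtype.ext ?_⟩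
    · rw [toImg_smul_val, mul_smul, ← hga, inv_smul_smul, hga']
    · rw [toImg_smul_val, mul_smul, ← hgb, inv_smul_smul, hgb']
  · rw [← map_mul, ← map_one (toImg Ω w)]
    exact congrArg _ (Subtype.ext hS.mul_self)
  · intro e
    exact hS.not_mem (toImg_eq_one.1 e a (a_mem_fix hw))
  · intro e
    exact hS.not_mem (congrArg Subtype.val (mem_stabilizer_iff.1 e))
  · rintro _ ⟨x, hx, rfl⟩
    exact Subtype.ext (smul_a_of_mem_Q hS hx)
  · intro h hh x hx
    obtain ⟨g, rfl⟩ := toImg_surjective w h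
    obtain ⟨y, hy, rfl⟩ := hx
    refine ⟨g * y * g⁻¹, ?_, by simp⟩
    exact conj_mem_Q hS (show (g : G) ∈ stabilizer G a from congrArg Subtype.val hh) hy
  · refine (eq_bot_iff_forall _).2 ?_
    rintro _ ⟨⟨x, hx, rfl⟩, hxb⟩
    have : x = 1 := Subtype.ext (Q_free hS hx (t_smul_ne hS) (congrArg Subtype.val hxb))
    rw [this, map_one]
  · refine le_antisymm (sup_le (fun _ ⟨x, hx, e⟩ => e ▸ Subtype.ext (smul_a_of_mem_Q hS hx))
      inf_le_left) fun h hh => ?_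
    obtain ⟨g, rfl⟩ := toImg_surjective w h
    obtain ⟨x, hx, hxw, d, hd, hdw, e⟩ := hC.cent_stab_split hw g.2 (congrArg Subtype.val hh)
    have e' : g = (⟨x, mem_centralizer_singleton_iff.2 hxw.eq⟩ : centralizer ({w} : Set G)) *
        ⟨d, mem_centralizer_singleton_iff.2 hdw.eq⟩ := Subtype.ext e
    rw [e', map_mul]
    exact mul_mem_sup ⟨_, hx, rfl⟩
      ⟨Subtype.ext (mem_twoPt.1 hd).1, Subtype.ext (mem_twoPt.1 hd).2⟩
  · rw [hC.card_imgQ hw]
    obtain ⟨s, r, h⟩ := hC.exists_link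
    have hs : s ∈ Q ⊓ centralizer ({w} : Set G) :=
      ⟨mem_I_Q hS h.1, mem_centralizer_singleton_iff.2 (hC.link_vGrp h hw).1.symm.eq⟩
    have ho : orderOf (⟨s, hs⟩ : ↥(Q ⊓ centralizer ({w} : Set G))) = 2 :=
      orderOf_eq_prime (Subtype.ext (by rw [Subgroup.coe_pow, pow_two]; exact h.1.2.2))
        fun e => h.1.2.1 (congrArg Subtype.val e)
    exact even_iff_two_dvd.2 (ho ▸ orderOf_dvd_natCard _)
  · refine Odd.of_dvd_nat ((hS.odd_card).of_dvd_nat (card_dvd_of_le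
      (inf_le_left : twoPt G a t ⊓ centralizer ({w} : Set G) ≤ _))) ?_
    let C' := (twoPt G a t).subgroupOf (centralizer ({w} : Set G))
    refine dvd_trans (card_dvd_of_le (K := C'.map (toImg Ω w)) ?_) ?_
    · intro h hh
      obtain ⟨g, rfl⟩ := toImg_surjective w h
      exact ⟨g, mem_twoPt.2 ⟨congrArg Subtype.val hh.1, congrArg Subtype.val hh.2⟩, rfl⟩
    · refine dvd_trans (card_map_dvd _ _) (dvd_of_eq ?_)
      exact Nat.card_congr
        { toFun := fun x => ⟨(x.1 : G), x.2, x.1.2⟩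
          invFun := fun x => ⟨⟨x.1, x.2.2⟩, x.2.1⟩
          left_inv := fun _ => rfl
          right_inv := fun _ => rfl }

omit [Finite G] in
theorem img_faithful (w : G) : FaithfulSMul (Img Ω w) (fixAct Ω w) := by
  refine ⟨fun {g h} e => ?_⟩
  obtain ⟨g, rfl⟩ := toImg_surjective w g
  obtain ⟨h, rfl⟩ := toImg_surjective w h
  have : toImg Ω w (g⁻¹ * h) = 1 := toImg_eq_one.2 fun c hc => by
    have := congrArg Subtype.val (e (⟨c, hc⟩ : fixAct Ω w))
    rw [toImg_smul_val, toImg_smul_val] at this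
    show ((g : G)⁻¹ * h) • c = c
    rw [mul_smul, ← this, inv_smul_smul]
  rw [map_mul, map_inv, inv_mul_eq_one] at this
  exact this

omit [Finite G] in
/-- When `|C_Z(w)| > 2` the induced set-up has two commuting involutions. -/
theorem img_ctx [Finite G] (hC : Ctx G Ω a t Q) {w : G} (hw : w ∈ vGrp G a t)
    (h4 : 2 < Nat.card ↥(zGrp G a ⊓ centralizer {w})) :
    Ctx (Img Ω w) (fixAct Ω w) ⟨a, a_mem_fix hw⟩ (toImg Ω w ⟨t, t_mem_cent hw⟩) (imgQ Ω w Q) := by
  classical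
  refine ⟨img_faithful w, hC.img_setup hw, ?_⟩
  haveI := Fintype.ofFinite ↥(zGrp G a ⊓ centralizer ({w} : Set G))
  rw [Nat.card_eq_fintype_card] at h4
  obtain ⟨x, y, z, hxy, hxz, hyz⟩ := Fintype.two_lt_card_iff.1 h4
  obtain ⟨p, q, hp, hq, hpq⟩ : ∃ p q : ↥(zGrp G a ⊓ centralizer ({w} : Set G)),
      p ≠ 1 ∧ q ≠ 1 ∧ p ≠ q := by
    by_cases hx : x = 1
    · exact ⟨y, z, fun e => hxy (hx.trans e.symm), fun e => hxz (hx.trans e.symm), hyz⟩
    by_cases hy : y = 1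
    · exact ⟨x, z, hx, fun e => hyz (hy.trans e.symm), hxz⟩
    exact ⟨x, y, hx, hy, hxy⟩
  let P : centralizer ({w} : Set G) := ⟨p.1, p.2.2⟩
  let R : centralizer ({w} : Set G) := ⟨q.1, q.2.2⟩
  have hsq : ∀ e : centralizer ({w} : Set G), (e : G) ∈ zGrp G a → toImg Ω w e * toImg Ω w e = 1 :=
    fun e he => by
      rw [← map_mul, ← map_one (toImg Ω w)]; exact congrArg _ (Subtype.ext (hC.zGrp_sq he))
  have hne : ∀ e : centralizer ({w} : Set G), (e : G) ∈ zGrp G a → (e : G) ≠ 1 →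
      toImg Ω w e ≠ 1 := fun e he he1 h1 =>
    he1 (congrArg Subtype.val (hC.imgQ_inj hw (hC.zGrp_le he) h1))
  refine ⟨toImg Ω w P, toImg Ω w R, hne P p.2.1 (fun e => hp (Subtype.ext e)),
    hne R q.2.1 (fun e => hq (Subtype.ext e)), fun e => ?_, hsq P p.2.1, hsq R q.2.1, ?_⟩
  · have : toImg Ω w (P * R) = 1 := by rw [map_mul, e]; exact hsq R q.2.1
    refine hpq (Subtype.ext ?_)
    have h1 := congrArg Subtype.val (hC.imgQ_inj hw (mul_mem (hC.zGrp_le p.2.1) (hC.zGrp_le q.2.1))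
      this)
    exact (eq_inv_of_mul_eq_one_left h1).trans (hC.zGrp_inv q.2.1)
  · rw [← map_mul, ← map_mul]
    exact congrArg _ (Subtype.ext (hC.zGrp_comm p.2.1 q.2.1).eq)

theorem card_img_lt (hC : Ctx G Ω a t Q) {w : G} (hw1 : w ≠ 1) :
    Nat.card (Img Ω w) < Nat.card G := by
  haveI := hC.faithful
  have h1 := Subgroup.card_eq_card_quotient_mul_card_subgroup (imgKer Ω w)
  have h2 : 2 ≤ Nat.card (imgKer Ω w) := by
    by_contra hlt
    push Not at hlt
    have hpos : 0 < Nat.card (imgKer Ω w) := Nat.card_pos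
    have hbot : imgKer Ω w = ⊥ := Subgroup.card_eq_one.1 (by omega)
    have hwk : (⟨w, mem_centralizer_singleton_iff.2 rfl⟩ : centralizer ({w} : Set G)) ∈ imgKer Ω w :=
      (QuotientGroup.eq_one_iff _).1 (toImg_eq_one.2 fun c hc => hc)
    rw [hbot, mem_bot] at hwk
    exact hw1 (congrArg Subtype.val hwk)
  have h3 : Nat.card (centralizer ({w} : Set G)) ≤ Nat.card G :=
    Nat.le_of_dvd Nat.card_pos (card_subgroup_dvd_card _)
  have hpos : 0 < Nat.card (Img Ω w) := Nat.card_pos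
  calc Nat.card (Img Ω w) < Nat.card (Img Ω w) * 2 := by omega
    _ ≤ Nat.card (Img Ω w) * Nat.card (imgKer Ω w) := Nat.mul_le_mul_left _ h2
    _ ≤ Nat.card G := h1 ▸ h3

theorem qq_img (hC : Ctx G Ω a t Q) {w : G} (hw : w ∈ vGrp G a t)
    (hCi : Ctx (Img Ω w) (fixAct Ω w) ⟨a, a_mem_fix hw⟩ (toImg Ω w ⟨t, t_mem_cent hw⟩) (imgQ Ω w Q)) :
    qq (Img Ω w) (⟨a, a_mem_fix hw⟩ : fixAct Ω w) = Nat.card ↥(zGrp G a ⊓ centralizer {w}) := by
  refine (Nat.card_congr (Equiv.ofBijective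
    (fun z : ↥(zGrp G a ⊓ centralizer ({w} : Set G)) =>
      (⟨toImg Ω w ⟨z, z.2.2⟩, hCi.mem_zGrp.2 ⟨Subtype.ext
        (smul_a_of_mem_Q hC.setup (hC.zGrp_le z.2.1)), by
          rw [← map_mul, ← map_one (toImg Ω w)]
          exact congrArg _ (Subtype.ext (hC.zGrp_sq z.2.1))⟩⟩ :
        zGrp (Img Ω w) (⟨a, a_mem_fix hw⟩ : fixAct Ω w))) ⟨?_, ?_⟩)).symm
  · intro x y e
    have e' : toImg Ω w (⟨(x : G), x.2.2⟩⁻¹ * ⟨(y : G), y.2.2⟩) = 1 := by
      rw [map_mul, map_inv, show toImg Ω w ⟨(x : G), x.2.2⟩ = _ from congrArg Subtype.val e,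
        inv_mul_cancel]
    have h1 := congrArg Subtype.val
      (hC.imgQ_inj hw (mul_mem (inv_mem (hC.zGrp_le x.2.1)) (hC.zGrp_le y.2.1)) e')
    exact Subtype.ext (inv_mul_eq_one.1 h1)
  · rintro ⟨e, he⟩
    obtain ⟨g, hg, rfl⟩ := (hCi.zGrp_le he : e ∈ imgQ Ω w Q)
    have h1 : toImg Ω w (g * g) = 1 := by rw [map_mul]; exact hCi.zGrp_sq he
    have h2 := congrArg Subtype.val (hC.imgQ_inj hw (x := g * g) (mul_mem (show (g : G) ∈ Q from hg) (show (g : G) ∈ Q from hg)) h1)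
    exact ⟨⟨g, hC.mem_zGrp_of_sq hg h2, g.2⟩, rfl⟩

/-- An element of `V` centralising `C_Z(w)` is a power of `w` modulo `W`. -/
theorem mem_of_cent_fixed (hC : Ctx G Ω a t Q) {w c : G} (hw : w ∈ vGrp G a t)
    (hc : c ∈ vGrp G a t) (h : ∀ z ∈ zGrp G a, Commute w z → Commute c z) :
    ∃ i : ℤ, c * (w ^ i)⁻¹ ∈ wGrp G a t := by
  classical
  obtain ⟨s, r, hl⟩ := hC.exists_link
  obtain ⟨F, _, _, hF, ⟨X⟩⟩ := hC.exists_zField hl
  set σ := X.aut w with hσ
  haveI : Finite (F ≃+* F) :=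
    Finite.of_injective (fun σ : F ≃+* F => (σ : F → F)) DFunLike.coe_injective
  haveI := Fintype.ofFinite (zpowers σ)
  have hfix : ∀ x : F, σ x = x → X.aut c x = x := by
    intro x hx
    obtain ⟨z, hz, rfl⟩ := X.coord_surj x
    have hzz : w * z * w⁻¹ = z := by
      have hz' : w * z * w⁻¹ ∈ zGrp G a := hC.conj_mem_zGrp (twoPt_le (vGrp_le G a t hw)) hz
      exact hC.coord_inj X hz' hz ((X.conj_V w hw z hz).trans hx)
    have h1 := h z hz (mul_inv_eq_iff_eq_mul.1 hzz)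
    rw [← X.conj_V c hc z hz, h1.eq, mul_inv_cancel_right]
  let f : F →ₐ[FixedPoints.subfield (zpowers σ) F] F :=
    { toRingHom := (X.aut c : F →+* F)
      commutes' := fun r => hfix r (r.2 ⟨σ, mem_zpowers σ⟩) }
  obtain ⟨g, hg⟩ := (FixedPoints.toAlgHom_bijective (zpowers σ) F).2 f
  obtain ⟨i, hi⟩ := mem_zpowers_iff.1 g.2
  refine ⟨i, (X.aut_eq_one _ (mul_mem hc (inv_mem (zpow_mem hw i)))).1 ?_⟩
  have hw' : (X.autHom (⟨w, hw⟩ ^ i) : F ≃+* F) = σ ^ i := map_zpow X.autHom _ i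
  have hg' : X.aut c = (g : F ≃+* F) := RingEquiv.ext fun x => (DFunLike.congr_fun hg x).symm
  have e2 : X.autHom ((⟨c, hc⟩ : vGrp G a t) * (⟨w, hw⟩ ^ i)⁻¹) = 1 := by
    rw [map_mul, map_inv, hw', hi]
    show X.aut c * _ = 1
    rw [hg', mul_inv_cancel]
  exact e2

theorem card_wGrp_img_dvd (hC : Ctx G Ω a t Q) {w : G} (hw : w ∈ vGrp G a t)
    (hCi : Ctx (Img Ω w) (fixAct Ω w) ⟨a, a_mem_fix hw⟩ (toImg Ω w ⟨t, t_mem_cent hw⟩) (imgQ Ω w Q)) :
    Nat.card (wGrp (Img Ω w) (⟨a, a_mem_fix hw⟩ : fixAct Ω w) (toImg Ω w ⟨t, t_mem_cent hw⟩)) ∣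
      Nat.card ↥(wGrp G a t ⊓ centralizer {w}) := by
  obtain ⟨s, r, hl⟩ := hC.exists_link
  have hsC : s ∈ centralizer ({w} : Set G) :=
    mem_centralizer_singleton_iff.2 (hC.link_vGrp hl hw).1.symm.eq
  refine dvd_trans (card_dvd_of_le
    (K := ((wGrp G a t).subgroupOf (centralizer ({w} : Set G))).map (toImg Ω w)) ?_) ?_
  · intro h hh
    obtain ⟨g, rfl⟩ := toImg_surjective w h
    obtain ⟨h1, h2⟩ := hCi.mem_wGrp.1 hh
    have hgD : (g : G) ∈ twoPt G a t :=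
      mem_twoPt.2 ⟨congrArg Subtype.val h1.1, congrArg Subtype.val h1.2⟩
    have hcz : ∀ z ∈ zGrp G a, Commute w z → Commute (g : G) z := by
      intro z hz hwz
      let Z' : centralizer ({w} : Set G) := ⟨z, mem_centralizer_singleton_iff.2 hwz.symm.eq⟩
      have hzi : toImg Ω w Z' ∈ zGrp (Img Ω w) (⟨a, a_mem_fix hw⟩ : fixAct Ω w) :=
        hCi.mem_zGrp.2 ⟨Subtype.ext (smul_a_of_mem_Q hC.setup (hC.zGrp_le hz)), by
          rw [← map_mul, ← map_one (toImg Ω w)]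
          exact congrArg _ (Subtype.ext (hC.zGrp_sq hz))⟩
      have e : toImg Ω w (g * Z' * g⁻¹ * Z'⁻¹) = 1 := by
        rw [map_mul, map_mul, map_mul, map_inv, map_inv, (h2 _ hzi).eq, mul_inv_cancel_right,
          mul_inv_cancel]
      have hmem : ((g * Z' * g⁻¹ * Z'⁻¹ : centralizer ({w} : Set G)) : G) ∈ Q :=
        mul_mem (conj_mem_Q hC.setup (twoPt_le hgD) (hC.zGrp_le hz)) (inv_mem (hC.zGrp_le hz))
      have h3 := congrArg Subtype.val (hC.imgQ_inj hw hmem e)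
      exact mul_inv_eq_iff_eq_mul.1 (mul_inv_eq_one.1 h3)
    obtain ⟨k, hk, c, hc, e⟩ := hC.exists_kv hgD
    have hks : Commute k s := by
      have h4 := hcz s (subset_closure hl.1) (hC.link_vGrp hl hw).1
      rw [e] at h4
      have h5 := h4.mul_left ((hC.link_vGrp hl hc).1.inv_left)
      rwa [mul_inv_cancel_right] at h5
    have hk1 : k = 1 := by
      by_contra hk1
      exact hl.1.2.1 (hC.kGrp_fpf hk hk1 (mem_I_Q hC.setup hl.1) hks)
    rw [hk1, one_mul] at e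
    obtain ⟨i, hi⟩ := hC.mem_of_cent_fixed hw (e ▸ hc) hcz
    let W' : centralizer ({w} : Set G) := ⟨w, mem_centralizer_singleton_iff.2 rfl⟩
    refine ⟨g * (W' ^ i)⁻¹, by simpa [mem_subgroupOf, W'] using hi, ?_⟩
    rw [map_mul, map_inv, map_zpow, show toImg Ω w W' = 1 from toImg_eq_one.2 fun c hc => hc,
      one_zpow, inv_one, mul_one]
  · refine dvd_trans (card_map_dvd _ _) (dvd_of_eq ?_)
    exact Nat.card_congr
      { toFun := fun x => ⟨(x.1 : G), x.2, x.1.2⟩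
        invFun := fun x => ⟨⟨x.1, x.2.2⟩, x.2.1⟩
        left_inv := fun _ => rfl
        right_inv := fun _ => rfl }

/-- The shapes available for `C_Q(w)`. -/
theorem cent_profile (hC : Ctx G Ω a t Q) (IH : IndHyp.{u, v} (Nat.card G)) {w : G}
    (hw : w ∈ vGrp G a t) (hw1 : w ≠ 1) (h4 : 2 < Nat.card ↥(zGrp G a ⊓ centralizer {w})) :
    Nat.card ↥(Q ⊓ centralizer {w}) = Nat.card ↥(zGrp G a ⊓ centralizer {w}) ∨
      Nat.card ↥(Q ⊓ centralizer {w}) = Nat.card ↥(zGrp G a ⊓ centralizer {w}) ^ 2 ∨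
      (Nat.card ↥(Q ⊓ centralizer {w}) = Nat.card ↥(zGrp G a ⊓ centralizer {w}) ^ 3 ∧
        Nat.card ↥(zGrp G a ⊓ centralizer {w}) + 1 ∣
          Nat.gcd 3 (Nat.card ↥(zGrp G a ⊓ centralizer {w}) + 1) *
            Nat.card ↥(wGrp G a t ⊓ centralizer {w})) := by
  have hCi := hC.img_ctx hw h4
  have hp := IH (Img Ω w) (fixAct Ω w) _ _ _ (hC.card_img_lt hw1) hCi
  rw [Profile, hC.qq_img hw hCi, hC.card_imgQ hw] at hp
  rcases hp with h | h | h
  · exact Or.inl h.1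
  · exact Or.inr (Or.inl h.1)
  · exact Or.inr (Or.inr ⟨h.1, h.2.trans (mul_dvd_mul_left _ (hC.card_wGrp_img_dvd hw hCi))⟩)

/-! ### Free fixed count -/

/-- In a 2-group `Q` with squares and commutators in `Z`: `|C_Q(v)| ^ n = |Q|`, where `n` is the
order of the field automorphism of `v`, provided `v ^ n = 1`. -/
theorem free_fixed_Q (hC : Ctx G Ω a t Q) {s : G} {F : Type} [Field F] [Fintype F]
    (X : ZField G a t s F) (hF : Fintype.card F = qq G a)
    (hsq : ∀ x ∈ Q, x * x ∈ zGrp G a)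
    (hcm : ∀ x ∈ Q, ∀ y ∈ Q, x⁻¹ * y⁻¹ * x * y ∈ zGrp G a) {v : G} (hv : v ∈ vGrp G a t)
    (hn : v ^ orderOf (X.aut v) = 1) :
    Nat.card ↥(Q ⊓ centralizer {v}) ^ orderOf (X.aut v) = Nat.card Q := by
  classical
  set n := orderOf (X.aut v) with hn'
  haveI : Finite (F ≃+* F) :=
    Finite.of_injective (fun σ : F ≃+* F => (σ : F → F)) DFunLike.coe_injective
  have hnpos : 0 < n := orderOf_pos _
  let Z' := (zGrp G a).subgroupOf Q
  haveI hZn : Z'.Normal := ⟨fun z hz x => by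
    rw [mem_subgroupOf] at hz ⊢
    exact hC.conj_mem_zGrp (hC.setup.le x.2) hz⟩
  have hcomm : ∀ A B : ↥Q ⧸ Z', A * B = B * A := by
    intro A B
    induction A using QuotientGroup.induction_on with
    | H x =>
      induction B using QuotientGroup.induction_on with
      | H y =>
        rw [← QuotientGroup.mk_mul, ← QuotientGroup.mk_mul, QuotientGroup.eq, mem_subgroupOf]
        have e : ((x * y)⁻¹ * (y * x) : ↥Q).1 = (y : G)⁻¹ * (x : G)⁻¹ * y * x := by
          simp [mul_assoc]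
        rw [e]
        exact hcm _ y.2 _ x.2
  letI : CommGroup (↥Q ⧸ Z') :=
    { (inferInstance : Group (↥Q ⧸ Z')) with mul_comm := hcomm }
  -- conjugation as an endomorphism of `Q / Z`
  have hcq : ∀ d ∈ twoPt G a t, ∀ x : ↥Q, d * x * d⁻¹ ∈ Q := fun d hd x =>
    conj_mem_Q hC.setup (twoPt_le hd) x.2
  let ψ : G → (↥Q →* ↥Q ⧸ Z') := fun d => if hd : d ∈ twoPt G a t then
    MonoidHom.mk' (fun x => ((⟨d * x * d⁻¹, hcq d hd x⟩ : ↥Q) : ↥Q ⧸ Z')) (fun x y => by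
      rw [← QuotientGroup.mk_mul]
      exact congrArg _ (Subtype.ext (show d * (x * y) * d⁻¹ = (d * x * d⁻¹) * (d * y * d⁻¹) by group)))
    else 1
  have hψker : ∀ d, Z' ≤ (ψ d).ker := by
    intro d z hz
    rw [MonoidHom.mem_ker]
    by_cases hd : d ∈ twoPt G a t
    · simp only [ψ, dif_pos hd, MonoidHom.mk'_apply, QuotientGroup.eq_one_iff]
      exact hC.conj_mem_zGrp (twoPt_le hd) hz
    · simp only [ψ, dif_neg hd, MonoidHom.one_apply]
  let E : G → AddMonoid.End (Additive (↥Q ⧸ Z')) := fun d =>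
    MonoidHom.toAdditive (QuotientGroup.lift Z' (ψ d) (hψker d))
  have hE : ∀ {d : G} (hd : d ∈ twoPt G a t) (x : ↥Q),
      E d (Additive.ofMul (x : ↥Q ⧸ Z')) =
        Additive.ofMul ((⟨d * x * d⁻¹, hcq d hd x⟩ : ↥Q) : ↥Q ⧸ Z') := fun {d} hd x => by
    show Additive.ofMul (QuotientGroup.lift Z' (ψ d) (hψker d) (x : ↥Q ⧸ Z')) = _
    rw [QuotientGroup.lift_mk]
    simp only [ψ, dif_pos hd, MonoidHom.mk'_apply]
  have hEmul : ∀ {d d' : G}, d ∈ twoPt G a t → d' ∈ twoPt G a t → E (d * d') = E d * E d' := by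
    intro d d' hd hd'
    refine DFunLike.ext _ _ fun m => ?_
    obtain ⟨x, hx⟩ := QuotientGroup.mk_surjective m.toMul
    rw [show m = Additive.ofMul (x : ↥Q ⧸ Z') from congrArg Additive.ofMul hx.symm]
    show E (d * d') _ = E d (E d' _)
    rw [hE (mul_mem hd hd'), hE hd', hE hd]
    exact congrArg (fun y : ↥Q => Additive.ofMul (y : ↥Q ⧸ Z')) (Subtype.ext (by simp [mul_assoc]))
  have hE1 : E 1 = 1 := DFunLike.ext _ _ fun m => by
    obtain ⟨x, hx⟩ := QuotientGroup.mk_surjective m.toMul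
    rw [show m = Additive.ofMul (x : ↥Q ⧸ Z') from congrArg Additive.ofMul hx.symm, hE (one_mem _)]
    exact congrArg (fun y : ↥Q => Additive.ofMul (y : ↥Q ⧸ Z')) (Subtype.ext (by simp))
  have hEpow : ∀ {d : G}, d ∈ twoPt G a t → ∀ j : ℕ, E (d ^ j) = E d ^ j := by
    intro d hd j
    induction j with
    | zero => rw [pow_zero, pow_zero, hE1]
    | succ j ih => rw [pow_succ, pow_succ, hEmul (pow_mem hd _) hd, ih]
  have hvD := vGrp_le G a t hv
  -- a coset of `Z` fixed by an element of odd period contains a fixed element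
  have hcoset : ∀ g ∈ twoPt G a t, ∀ m : ℕ, Odd m → g ^ m = 1 → ∀ x ∈ Q,
      x⁻¹ * (g * x * g⁻¹) ∈ zGrp G a → ∃ z ∈ zGrp G a, Commute g (x * z) := by
    intro g hg m hm hgm x hx hz0
    letI : CommGroup (zGrp G a) :=
      { (inferInstance : Group (zGrp G a)) with
        mul_comm := fun x y => Subtype.ext (hC.zGrp_comm x.2 y.2).eq }
    have hgj : ∀ j : ℕ, g ^ j ∈ twoPt G a t := fun j => pow_mem hg j
    have hcj : ∀ j : ℕ, x⁻¹ * (g ^ j * x * (g ^ j)⁻¹) ∈ zGrp G a := by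
      intro j
      induction j with
      | zero => simp
      | succ j ih =>
        have e : x⁻¹ * (g ^ (j + 1) * x * (g ^ (j + 1))⁻¹) = (x⁻¹ * (g * x * g⁻¹)) *
            (g * (x⁻¹ * (g ^ j * x * (g ^ j)⁻¹)) * g⁻¹) := by
          rw [pow_succ']; group
        rw [e]
        exact mul_mem hz0 (hC.conj_mem_zGrp (twoPt_le hg) ih)
    let γ : zGrp G a →* zGrp G a :=
      MonoidHom.mk' (fun z => ⟨g * z * g⁻¹, hC.conj_mem_zGrp (twoPt_le hg) z.2⟩)
        (fun y z => Subtype.ext (show g * (y * z) * g⁻¹ = (g * y * g⁻¹) * (g * z * g⁻¹) by group))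
    let c : ℕ → zGrp G a := fun j => ⟨_, hcj j⟩
    have hc1 : ∀ j, c (j + 1) = c 1 * γ (c j) := fun j => Subtype.ext (by
      show x⁻¹ * (g ^ (j + 1) * x * (g ^ (j + 1))⁻¹) = x⁻¹ * (g ^ 1 * x * (g ^ 1)⁻¹) *
        (g * (x⁻¹ * (g ^ j * x * (g ^ j)⁻¹)) * g⁻¹)
      rw [pow_succ', pow_one]; group)
    have hcm0 : c m = c 0 := Subtype.ext (by
      show x⁻¹ * (g ^ m * x * (g ^ m)⁻¹) = x⁻¹ * (g ^ 0 * x * (g ^ 0)⁻¹)
      rw [hgm, pow_zero])
    set S := ∏ j ∈ Finset.range m, c j with hS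
    have h1 : ∏ j ∈ Finset.range m, c (j + 1) = S := by
      have e1 := Finset.prod_range_succ' c m
      rw [Finset.prod_range_succ, hcm0] at e1
      exact (mul_right_cancel e1).symm
    rw [Finset.prod_congr rfl (fun j _ => hc1 j), Finset.prod_mul_distrib, Finset.prod_const,
      Finset.card_range, ← map_prod, ← hS] at h1
    have hsq' : c 1 * c 1 = 1 := Subtype.ext (hC.zGrp_sq (c 1).2)
    obtain ⟨l, hl⟩ := hm
    rw [hl, pow_succ, pow_mul, pow_two, hsq', one_pow, one_mul] at h1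
    refine ⟨S, S.2, ?_⟩
    have h2 : (x⁻¹ * (g * x * g⁻¹)) * (g * (S : G) * g⁻¹) = S := by
      have e3 : x⁻¹ * (g ^ 1 * x * (g ^ 1)⁻¹) * (g * (S : G) * g⁻¹) = S := congrArg Subtype.val h1
      rwa [pow_one] at e3
    refine mul_inv_eq_iff_eq_mul.1 ?_
    calc g * (x * (S : G)) * g⁻¹ = x * ((x⁻¹ * (g * x * g⁻¹)) * (g * (S : G) * g⁻¹)) := by group
      _ = x * (S : G) := by rw [h2]
  have hfix_iff : ∀ {g : G} (hg : g ∈ twoPt G a t) (x : ↥Q),
      E g (Additive.ofMul (x : ↥Q ⧸ Z')) = Additive.ofMul (x : ↥Q ⧸ Z') ↔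
        (x : G)⁻¹ * (g * x * g⁻¹) ∈ zGrp G a := by
    intro g hg x
    rw [hE hg, Additive.ofMul.injective.eq_iff, eq_comm, QuotientGroup.eq, mem_subgroupOf]
    exact Iff.rfl
  -- the endomorphism of `K`
  haveI := hC.isCyclic_kGrp
  obtain ⟨⟨k, hk⟩, hgen⟩ := IsCyclic.exists_generator (α := kGrp G a t)
  have hkj : ∀ j : ℕ, v ^ j * k * (v ^ j)⁻¹ ∈ kGrp G a t := fun j =>
    hC.conj_mem_kGrp (pow_mem hvD j) hk
  let A : ℕ → AddMonoid.End (Additive (↥Q ⧸ Z')) := fun j => E (v ^ j * k * (v ^ j)⁻¹)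
  have hkD := kGrp_le G a t hk
  have hsep : ∀ i < n, ∀ j < n, i ≠ j →
      v ^ i * k * (v ^ i)⁻¹ ≠ v ^ j * k * (v ^ j)⁻¹ := by
    intro i hi j hj hne he
    apply hne
    have hpow : ∀ j : ℕ, X.mult (v ^ j * k * (v ^ j)⁻¹) = (X.aut v ^ j) (X.mult k) := fun j => by
      rw [X.conj_mult _ (pow_mem hv j) k hk]
      exact congrArg (fun σ : F ≃+* F => σ (X.mult k))
        (map_pow X.autHom (⟨v, hv⟩ : vGrp G a t) j)
    have h1 := congrArg X.mult he
    rw [hpow, hpow] at h1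
    have hpk : ∀ m : ℕ, X.mult (k ^ m) = X.mult k ^ m := by
      intro m
      induction m with
      | zero =>
        have := X.mult_mul 1 (one_mem _) 1 (one_mem _)
        rw [one_mul] at this
        rw [pow_zero, pow_zero]
        exact (mul_eq_left₀ (X.mult_ne 1 (one_mem _))).1 this.symm
      | succ m ih => rw [pow_succ, pow_succ, X.mult_mul _ (pow_mem hk m) _ hk, ih]
    refine pow_injOn_Iio_orderOf (x := X.aut v) hi hj (RingEquiv.ext fun y => ?_)
    by_cases hy : y = 0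
    · rw [hy, map_zero, map_zero]
    obtain ⟨k', hk', rfl⟩ := X.mult_surj y hy
    obtain ⟨m, hm⟩ := (mem_powers_iff_mem_zpowers.2 (hgen ⟨k', hk'⟩))
    rw [← show k ^ m = k' from congrArg Subtype.val hm, hpk, map_pow, map_pow, h1]
  have key := FreeFixed.card_fixed_pow_eq (E v) (E k) A hnpos
    (by rw [← hEpow hvD, hn, hE1])
    (fun j => by
      rw [← hEpow hvD, ← hEmul (pow_mem hvD j) hkD,
        ← hEmul (kGrp_le G a t (hkj j)) (pow_mem hvD j), inv_mul_cancel_right])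
    (fun i j => by
      show E _ * E _ = E _ * E _
      rw [← hEmul (kGrp_le G a t (hkj i)) (kGrp_le G a t (hkj j)),
        ← hEmul (kGrp_le G a t (hkj j)) (kGrp_le G a t (hkj i)), (hC.kGrp_comm (hkj i) (hkj j)).eq])
    (fun i hi j hj hne m he => by
      obtain ⟨x, hx⟩ := QuotientGroup.mk_surjective m.toMul
      obtain rfl : m = Additive.ofMul (x : ↥Q ⧸ Z') := congrArg Additive.ofMul hx.symm
      set p := v ^ i * k * (v ^ i)⁻¹
      set p' := v ^ j * k * (v ^ j)⁻¹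
      have hg : p'⁻¹ * p ∈ kGrp G a t := mul_mem (inv_mem (hkj j)) (hkj i)
      have hgD := kGrp_le G a t hg
      have hgx : E (p'⁻¹ * p) (Additive.ofMul (x : ↥Q ⧸ Z')) = Additive.ofMul (x : ↥Q ⧸ Z') := by
        rw [hEmul (inv_mem (kGrp_le G a t (hkj j))) (kGrp_le G a t (hkj i))]
        show E p'⁻¹ (A i _) = _
        rw [he]
        show (E p'⁻¹ * E p') _ = _
        rw [← hEmul (inv_mem (kGrp_le G a t (hkj j))) (kGrp_le G a t (hkj j)), inv_mul_cancel, hE1]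
        rfl
      have hodd : Odd (orderOf (p'⁻¹ * p)) := odd_orderOf_of_mem hC.setup.odd_card hgD
      obtain ⟨z, hz, hzc⟩ := hcoset _ hgD _ hodd (pow_orderOf_eq_one _) x x.2
        ((hfix_iff hgD x).1 hgx)
      have hxz := hC.kGrp_fpf hg (fun e => hsep i hi j hj hne (inv_mul_eq_one.1 e).symm)
        (mul_mem x.2 (hC.zGrp_le hz)) hzc
      have hxZ : (x : G) ∈ zGrp G a := by
        rw [eq_inv_of_mul_eq_one_left hxz]; exact inv_mem hz
      exact congrArg Additive.ofMul ((QuotientGroup.eq_one_iff x).2 hxZ))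
  -- lifting fixed classes
  let π : ↥(Q ⊓ centralizer ({v} : Set G)) →* ↥Q ⧸ Z' :=
    (QuotientGroup.mk' Z').comp (Subgroup.inclusion inf_le_left)
  have hπ : Nat.card π.range = Nat.card {m : Additive (↥Q ⧸ Z') // E v m = m} := by
    refine Nat.card_congr (Equiv.subtypeEquiv Additive.ofMul fun m => ?_)
    constructor
    · rintro ⟨y, rfl⟩
      refine (hfix_iff hvD ⟨y.1, y.2.1⟩).2 ?_
      rw [← mem_centralizer_singleton_iff.1 y.2.2]
      simp
    · intro hm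
      obtain ⟨x, rfl⟩ := QuotientGroup.mk_surjective m
      have hodd : Odd n := hC.odd_vGrp.of_dvd_nat
        ((orderOf_map_dvd X.autHom (⟨v, hv⟩ : vGrp G a t)).trans (orderOf_dvd_natCard _))
      obtain ⟨z, hz, hzc⟩ := hcoset v hvD n hodd hn x x.2 ((hfix_iff hvD x).1 hm)
      refine ⟨⟨(x : G) * z, mul_mem x.2 (hC.zGrp_le hz),
        mem_centralizer_singleton_iff.2 hzc.symm.eq⟩, QuotientGroup.eq.2 ?_⟩
      rw [mem_subgroupOf]
      show ((x : G) * z)⁻¹ * x ∈ zGrp G a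
      rw [show ((x : G) * z)⁻¹ * x = z⁻¹ by group]
      exact inv_mem hz
  have hker : Nat.card π.ker = Nat.card ↥(zGrp G a ⊓ centralizer ({v} : Set G)) := Nat.card_congr
    { toFun := fun y => ⟨(y.1 : G), (QuotientGroup.eq_one_iff (N := Z') (Subgroup.inclusion inf_le_left y.1)).1 y.2, y.1.2.2⟩
      invFun := fun z => ⟨⟨z.1, hC.zGrp_le z.2.1, z.2.2⟩, (QuotientGroup.eq_one_iff (N := Z') (Subgroup.inclusion inf_le_left (⟨z.1, hC.zGrp_le z.2.1, z.2.2⟩ : ↥(Q ⊓ centralizer ({v} : Set G))))).2 z.2.1⟩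
      left_inv := fun _ => rfl
      right_inv := fun _ => rfl }
  have h1 := Subgroup.card_mul_index π.ker
  rw [Subgroup.index_ker, hπ, hker] at h1
  rw [← h1, mul_pow, key, hC.card_centralizer_pow X hF hv, Nat.card_congr Additive.toMul,
    qq, ← Nat.card_congr (subgroupOfEquivOfLe hC.zGrp_le).toEquiv, mul_comm]
  exact (Subgroup.card_eq_card_quotient_mul_card_subgroup Z').symm

end Ctx

end Cfsg.Agent.RankOneClass
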