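import Cfsg.Agent.RankOneClass.Base

/-!
When `r ∈ Z`: the group generated by `Z` and `t` is `Z K ∪ Z K t Z`; its action on the circle.
-/

set_option autoImplicit false

open Subgroup MulAction
open scoped Pointwise

namespace Cfsg.Agent.RankOneClass

open Cfsg.Agent.RankOne

universe u v

variable {G : Type u} {Ω : Type v} [Group G] [MulAction G Ω] {a : Ω} {t : G} {Q : Subgroup G}

namespace Ctx

/-! ### The circle -/

theorem a_mem_line0 (a : Ω) (t : G) : a ∈ line0 G a t := Set.mem_insert _ _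

theorem mem_line0 {p : Ω} : p ∈ line0 G a t ↔ p = a ∨ ∃ z ∈ zGrp G a, z • (t • a) = p := by
  simp [line0, Set.mem_image]

theorem b_mem_line0 (a : Ω) (t : G) : t • a ∈ line0 G a t :=
  mem_line0.2 (Or.inr ⟨1, one_mem _, one_smul _ _⟩)

theorem ncard_line0 [Finite G] (hC : Ctx G Ω a t Q) : (line0 G a t).ncard = qq G a + 1 := by
  haveI := finite_points hC.setup
  have hinj : Set.InjOn (fun z : G => z • (t • a)) (zGrp G a : Set G) := fun z hz z' hz' h =>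
    Q_smul_inj hC.setup (hC.zGrp_le hz) (hC.zGrp_le hz') (t_smul_ne hC.setup) h
  rw [line0, Set.ncard_insert_of_notMem, Set.ncard_image_of_injOn hinj, ← Nat.card_coe_set_eq]
  · rfl
  · rintro ⟨z, hz, e⟩
    exact Q_smul_ne hC.setup (hC.zGrp_le hz) (t_smul_ne hC.setup) e

theorem kGrp_smul_line0 [Finite G] (hC : Ctx G Ω a t Q) {d : G} (hd : d ∈ twoPt G a t) {p : Ω}
    (hp : p ∈ line0 G a t) : d • p ∈ line0 G a t := by
  obtain ⟨hda, hdb⟩ := mem_twoPt.1 hd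
  rcases mem_line0.1 hp with rfl | ⟨z, hz, rfl⟩
  · rw [hda]; exact a_mem_line0 _ _
  · refine mem_line0.2 (Or.inr ⟨d * z * d⁻¹, hC.conj_mem_zGrp (twoPt_le hd) hz, ?_⟩)
    rw [mul_smul, mul_smul, (mem_twoPt.1 (inv_mem hd)).2]

theorem zGrp_smul_line0 [Finite G] (hC : Ctx G Ω a t Q) {z : G} (hz : z ∈ zGrp G a) {p : Ω}
    (hp : p ∈ line0 G a t) : z • p ∈ line0 G a t := by
  rcases mem_line0.1 hp with rfl | ⟨z', hz', rfl⟩
  · rw [smul_a_of_mem_Q hC.setup (hC.zGrp_le hz)]; exact a_mem_line0 _ _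
  · exact mem_line0.2 (Or.inr ⟨z * z', mul_mem hz hz', mul_smul _ _ _⟩)

/-! ### The group `Σ` -/

/-- Conjugating an involution of `G_a` by `t`. -/
theorem t_conj_zGrp [Finite G] (hC : Ctx G Ω a t Q) {s r : G} (h : IsLink G a t Q s r)
    (hr : r ∈ zGrp G a) {z : G} (hz : z ∈ zGrp G a) (hz1 : z ≠ 1) :
    ∃ z' ∈ zGrp G a, ∃ k ∈ kGrp G a t, t * z * t = z' * (k * k) * t * z' := by
  obtain ⟨c, hc, rfl⟩ := hC.exists_kGrp_conj (subset_closure h.1) h.1.2.1 hz hz1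
  refine ⟨c⁻¹ * r * c, by simpa using hC.conj_mem_zGrp (inv_mem (twoPt_le (kGrp_le G a t hc))) hr,
    c⁻¹, inv_mem hc, ?_⟩
  have htc : t * c * t = c⁻¹ := hC.t_conj_kGrp hc
  have htc' : t * c⁻¹ * t = c := by simpa using hC.t_conj_kGrp (inv_mem hc)
  have hk : c⁻¹ * c⁻¹ * t = c⁻¹ * t * c := by
    calc c⁻¹ * c⁻¹ * t = c⁻¹ * (t * (t * c⁻¹ * t)) := by
          simp only [← mul_assoc]; rw [mul_assoc c⁻¹ t t, hC.setup.mul_self, mul_one]
      _ = c⁻¹ * t * c := by rw [htc', mul_assoc]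
  calc t * (c * s * c⁻¹) * t = (t * c * t) * (t * s * t) * (t * c⁻¹ * t) := by
        simp only [mul_assoc]; simp only [← mul_assoc t t, hC.setup.mul_self, one_mul]
    _ = c⁻¹ * (r * t * r) * c := by rw [htc, htc', h.2.2, hC.zGrp_inv hr]
    _ = c⁻¹ * r * c * (c⁻¹ * t * c) * (c⁻¹ * r * c) := by group
    _ = c⁻¹ * r * c * (c⁻¹ * c⁻¹) * t * (c⁻¹ * r * c) := by
        rw [mul_assoc (c⁻¹ * r * c) (c⁻¹ * c⁻¹) t, hk]

/-- The elements `z k` and `z k t z'`. -/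
def sigSet (G : Type u) [Group G] [MulAction G Ω] (a : Ω) (t : G) : Set G :=
  {x | ∃ z ∈ zGrp G a, ∃ k ∈ kGrp G a t, x = z * k ∨ ∃ z' ∈ zGrp G a, x = z * k * t * z'}

theorem sigSet_mul_k [Finite G] (hC : Ctx G Ω a t Q) {z k k' : G} (hz : z ∈ zGrp G a)
    (hk : k ∈ kGrp G a t) (hk' : k' ∈ kGrp G a t) {z' : G} (hz' : z' ∈ zGrp G a) :
    ∃ z'' ∈ zGrp G a, z * k * t * z' * k' = z * (k * k'⁻¹) * t * z'' := by
  refine ⟨k'⁻¹ * z' * k', by simpa using hC.conj_mem_zGrp (inv_mem (twoPt_le (kGrp_le G a t hk'))) hz',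
    ?_⟩
  have h1 : k'⁻¹ * t = t * k' := by
    rw [← hC.t_conj_kGrp hk', mul_assoc, hC.setup.mul_self, mul_one]
  calc z * k * t * z' * k' = z * k * (t * k') * (k'⁻¹ * z' * k') := by group
    _ = z * (k * k'⁻¹) * t * (k'⁻¹ * z' * k') := by rw [← h1]; group

theorem mul_mem_sigSet [Finite G] (hC : Ctx G Ω a t Q) {s r : G} (h : IsLink G a t Q s r)
    (hr : r ∈ zGrp G a) {x y : G} (hx : x ∈ sigSet G a t) (hy : y ∈ sigSet G a t) :
    x * y ∈ sigSet G a t := by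
  obtain ⟨z, hz, k, hk, hx⟩ := hx
  obtain ⟨w, hw, l, hl, hy⟩ := hy
  have hw' : k * w * k⁻¹ ∈ zGrp G a := hC.conj_mem_zGrp (twoPt_le (kGrp_le G a t hk)) hw
  rcases hx with rfl | ⟨z', hz', rfl⟩
  · refine ⟨z * (k * w * k⁻¹), mul_mem hz hw', k * l, mul_mem hk hl, ?_⟩
    rcases hy with rfl | ⟨w', hw2, rfl⟩
    · exact Or.inl (by group)
    · exact Or.inr ⟨w', hw2, by group⟩
  · obtain ⟨u, hu, e⟩ := hC.sigSet_mul_k hz hk hl (mul_mem hz' hw)
    rcases hy with rfl | ⟨w', hw2, rfl⟩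
    · exact ⟨z, hz, k * l⁻¹, mul_mem hk (inv_mem hl), Or.inr ⟨u, hu, by rw [← e]; group⟩⟩
    have e' : z * k * t * z' * (w * l * t * w') = z * (k * l⁻¹) * t * u * t * w' := by
      rw [← e]; group
    rw [e']
    by_cases hu1 : u = 1
    · subst hu1
      refine ⟨z * ((k * l⁻¹) * w' * (k * l⁻¹)⁻¹), mul_mem hz (hC.conj_mem_zGrp (twoPt_le (kGrp_le G a t
        (mul_mem hk (inv_mem hl)))) hw2), k * l⁻¹, mul_mem hk (inv_mem hl), Or.inl ?_⟩
      rw [mul_one, mul_assoc (z * (k * l⁻¹)) t t, hC.setup.mul_self]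
      group
    obtain ⟨v, hv, m, hm, ev⟩ := hC.t_conj_zGrp h hr hu hu1
    set n := k * l⁻¹ with hn
    have hnK : n ∈ kGrp G a t := mul_mem hk (inv_mem hl)
    refine ⟨z * (n * v * n⁻¹), mul_mem hz (hC.conj_mem_zGrp (twoPt_le (kGrp_le G a t hnK)) hv),
      n * (m * m), mul_mem hnK (mul_mem hm hm), Or.inr ⟨v * w', mul_mem hv hw2, ?_⟩⟩
    calc z * n * t * u * t * w' = z * n * (t * u * t) * w' := by group
      _ = z * n * (v * (m * m) * t * v) * w' := by rw [ev]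
      _ = z * (n * v * n⁻¹) * (n * (m * m)) * t * (v * w') := by group

theorem inv_mem_sigSet [Finite G] (hC : Ctx G Ω a t Q) {x : G} (hx : x ∈ sigSet G a t) :
    x⁻¹ ∈ sigSet G a t := by
  obtain ⟨z, hz, k, hk, hx⟩ := hx
  rcases hx with rfl | ⟨z', hz', rfl⟩
  · exact ⟨k⁻¹ * z⁻¹ * k, by
      simpa using hC.conj_mem_zGrp (inv_mem (twoPt_le (kGrp_le G a t hk))) (inv_mem hz),
      k⁻¹, inv_mem hk, Or.inl (by group)⟩
  · refine ⟨z', hz', k, hk, Or.inr ⟨z, hz, ?_⟩⟩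
    have h1 : t * k⁻¹ = k * t := by
      rw [← hC.t_conj_kGrp hk]
      simp only [← mul_assoc, hC.setup.mul_self, one_mul]
    calc (z * k * t * z')⁻¹ = z'⁻¹ * (t⁻¹ * k⁻¹) * z⁻¹ := by group
      _ = z' * k * t * z := by
        rw [t_inv hC.setup, h1, hC.zGrp_inv hz, hC.zGrp_inv hz']; group

theorem coe_sigGrp [Finite G] (hC : Ctx G Ω a t Q) {s r : G} (h : IsLink G a t Q s r)
    (hr : r ∈ zGrp G a) : (sigGrp G a t : Set G) = sigSet G a t := by
  have hone : (1 : G) ∈ sigSet G a t := ⟨1, one_mem _, 1, one_mem _, Or.inl (one_mul 1).symm⟩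
  let S : Subgroup G :=
    { carrier := sigSet G a t
      one_mem' := hone
      mul_mem' := fun hx hy => hC.mul_mem_sigSet h hr hx hy
      inv_mem' := fun hx => hC.inv_mem_sigSet hx }
  have hle : sigGrp G a t ≤ S := by
    refine sup_le (fun z hz => ⟨z, hz, 1, one_mem _, Or.inl (mul_one z).symm⟩) ((closure_le _).2 ?_)
    rintro x rfl
    exact ⟨1, one_mem _, 1, one_mem _, Or.inr ⟨1, one_mem _, by group⟩⟩
  refine Set.Subset.antisymm hle ?_
  have hZ : ∀ z ∈ zGrp G a, z ∈ sigGrp G a t := fun z hz => mem_sup_left hz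
  have ht : t ∈ sigGrp G a t := mem_sup_right (subset_closure rfl)
  have hK : ∀ k ∈ kGrp G a t, k ∈ sigGrp G a t := by
    intro k hk
    have hko : Odd (orderOf k) :=
      odd_orderOf_of_mem hC.setup.odd_card (kGrp_le G a t hk)
    have hck : oddRoot k ∈ kGrp G a t := oddRoot_mem hk
    set c := oddRoot k with hc
    have hcc : c * c = k := oddRoot_mul_self hko
    have hz : c⁻¹ * s * c ∈ zGrp G a := by
      simpa using hC.conj_mem_zGrp (inv_mem (twoPt_le (kGrp_le G a t hck))) (subset_closure h.1)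
    have htc : t * c⁻¹ * t = c := by simpa using hC.t_conj_kGrp (inv_mem hck)
    have htc' : t * c * t = c⁻¹ := hC.t_conj_kGrp hck
    have hw : c * r * c⁻¹ ∈ zGrp G a := hC.conj_mem_zGrp (twoPt_le (kGrp_le G a t hck)) hr
    have e : t * (c⁻¹ * s * c) * t = (c * r * c⁻¹) * (k * t) * (c * r * c⁻¹) := by
      calc t * (c⁻¹ * s * c) * t = (t * c⁻¹ * t) * (t * s * t) * (t * c * t) := by
            simp only [mul_assoc]; simp only [← mul_assoc t t, hC.setup.mul_self, one_mul]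
        _ = c * (r * t * r) * c⁻¹ := by rw [htc, htc', h.2.2, hC.zGrp_inv hr]
        _ = (c * r * c⁻¹) * (c * t * c⁻¹) * (c * r * c⁻¹) := by group
        _ = _ := by
          rw [show c * t * c⁻¹ = k * t by
            rw [← htc', ← hcc]; simp only [← mul_assoc]
            rw [mul_assoc c t t, hC.setup.mul_self, mul_one]]
    have : k = (c * r * c⁻¹)⁻¹ * (t * (c⁻¹ * s * c) * t) * (c * r * c⁻¹)⁻¹ * t := by
      rw [e]
      calc k = k * (t * t) := by rw [hC.setup.mul_self, mul_one]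
        _ = _ := by group
    rw [this]
    exact mul_mem (mul_mem (mul_mem (inv_mem (hZ _ hw)) (mul_mem (mul_mem ht (hZ _ hz)) ht))
      (inv_mem (hZ _ hw))) ht
  rintro x ⟨z, hz, k, hk, rfl | ⟨z', hz', rfl⟩⟩
  · exact mul_mem (hZ z hz) (hK k hk)
  · exact mul_mem (mul_mem (mul_mem (hZ z hz) (hK k hk)) ht) (hZ z' hz')

theorem zk_smul_a [Finite G] (hC : Ctx G Ω a t Q) {z k : G} (hz : z ∈ zGrp G a)
    (hk : k ∈ kGrp G a t) : (z * k) • a = a := by
  rw [mul_smul, (mem_twoPt.1 (kGrp_le G a t hk)).1, smul_a_of_mem_Q hC.setup (hC.zGrp_le hz)]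

theorem zktz_smul_a [Finite G] (hC : Ctx G Ω a t Q) {z k z' : G} (hz : z ∈ zGrp G a)
    (hk : k ∈ kGrp G a t) (hz' : z' ∈ zGrp G a) : (z * k * t * z') • a = z • (t • a) := by
  rw [mul_smul, mul_smul, mul_smul, smul_a_of_mem_Q hC.setup (hC.zGrp_le hz'),
    (mem_twoPt.1 (kGrp_le G a t hk)).2]

theorem sig_stabilizer [Finite G] (hC : Ctx G Ω a t Q) {s r : G} (h : IsLink G a t Q s r)
    (hr : r ∈ zGrp G a) {x : G} (hx : x ∈ sigGrp G a t) (hxa : x • a = a) :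
    ∃ z ∈ zGrp G a, ∃ k ∈ kGrp G a t, x = z * k := by
  rw [← SetLike.mem_coe, hC.coe_sigGrp h hr] at hx
  obtain ⟨z, hz, k, hk, rfl | ⟨z', hz', rfl⟩⟩ := hx
  · exact ⟨z, hz, k, hk, rfl⟩
  · rw [hC.zktz_smul_a hz hk hz'] at hxa
    exact absurd hxa (Q_smul_ne hC.setup (hC.zGrp_le hz) (t_smul_ne hC.setup))

theorem sig_twoPt [Finite G] (hC : Ctx G Ω a t Q) {s r : G} (h : IsLink G a t Q s r)
    (hr : r ∈ zGrp G a) {x : G} (hx : x ∈ sigGrp G a t) (hxd : x ∈ twoPt G a t) :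
    x ∈ kGrp G a t := by
  obtain ⟨z, hz, k, hk, rfl⟩ := hC.sig_stabilizer h hr hx (mem_twoPt.1 hxd).1
  have h1 := (split_unique hC.setup (hC.zGrp_le hz) Q.one_mem (kGrp_le G a t hk) hxd
    (by rw [one_mul])).1
  rwa [h1, one_mul]

theorem smul_line0 [Finite G] (hC : Ctx G Ω a t Q) {s r : G} (h : IsLink G a t Q s r)
    (hr : r ∈ zGrp G a) {g : G} (hg : g ∈ sigGrp G a t) : g • line0 G a t = line0 G a t := by
  haveI := finite_points hC.setup
  have hmap : ∀ x ∈ sigGrp G a t, ∀ p ∈ line0 G a t, x • p ∈ line0 G a t := by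
    have ht : ∀ p ∈ line0 G a t, t • p ∈ line0 G a t := by
      intro p hp
      rcases mem_line0.1 hp with rfl | ⟨z, hz, rfl⟩
      · exact b_mem_line0 _ _
      by_cases hz1 : z = 1
      · rw [hz1, one_smul, t_smul_smul hC.setup]; exact a_mem_line0 _ _
      obtain ⟨c, hc, rfl⟩ := hC.exists_kGrp_conj (subset_closure h.1) h.1.2.1 hz hz1
      rw [hC.t_smul_invol h hc]
      exact mem_line0.2 (Or.inr ⟨_, by
        simpa [hC.zGrp_inv hr] using hC.conj_mem_zGrp (inv_mem (twoPt_le (kGrp_le G a t hc))) hr, rfl⟩)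
    intro x hx p hp
    rw [← SetLike.mem_coe, hC.coe_sigGrp h hr] at hx
    obtain ⟨z, hz, k, hk, rfl | ⟨z', hz', rfl⟩⟩ := hx
    · rw [mul_smul]; exact hC.zGrp_smul_line0 hz (hC.kGrp_smul_line0 (kGrp_le G a t hk) hp)
    · rw [mul_smul, mul_smul, mul_smul]
      exact hC.zGrp_smul_line0 hz (hC.kGrp_smul_line0 (kGrp_le G a t hk)
        (ht _ (hC.zGrp_smul_line0 hz' hp)))
  ext p
  constructor
  · rintro ⟨p', hp', rfl⟩; exact hmap g hg p' hp'
  · intro hp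
    exact ⟨g⁻¹ • p, hmap _ (inv_mem hg) p hp, smul_inv_smul g p⟩

theorem card_sigGrp [Finite G] (hC : Ctx G Ω a t Q) {s r : G} (h : IsLink G a t Q s r)
    (hr : r ∈ zGrp G a) : Nat.card (sigGrp G a t) = qq G a * (qq G a ^ 2 - 1) := by
  haveI := finite_points hC.setup
  have horb : MulAction.orbit (sigGrp G a t) a = line0 G a t := by
    ext p
    constructor
    · rintro ⟨g, rfl⟩
      show (g : G) • a ∈ _
      rw [← hC.smul_line0 h hr g.2]
      exact Set.smul_mem_smul_set (a_mem_line0 _ _)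
    · intro hp
      rcases mem_line0.1 hp with rfl | ⟨z, hz, rfl⟩
      · exact mem_orbit_self _
      · exact ⟨⟨z * t, mul_mem (mem_sup_left hz) (mem_sup_right (subset_closure rfl))⟩, mul_smul z t a⟩
  have hst : Nat.card (MulAction.stabilizer (sigGrp G a t) a) =
      qq G a * Nat.card (kGrp G a t) := by
    rw [qq, ← Nat.card_prod]
    refine (Nat.card_congr (Equiv.ofBijective
      (fun p : zGrp G a × kGrp G a t => (⟨⟨p.1 * p.2, by
        rw [← SetLike.mem_coe, hC.coe_sigGrp h hr]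
        exact ⟨p.1, p.1.2, p.2, p.2.2, Or.inl rfl⟩⟩, hC.zk_smul_a p.1.2 p.2.2⟩ :
          MulAction.stabilizer (sigGrp G a t) a)) ⟨?_, ?_⟩)).symm
    · rintro ⟨⟨z, hz⟩, ⟨k, hk⟩⟩ ⟨⟨z', hz'⟩, ⟨k', hk'⟩⟩ e
      have e' : z * k = z' * k' := congrArg (fun x => ((x.1 : sigGrp G a t) : G)) e
      obtain ⟨rfl, rfl⟩ := split_unique hC.setup (hC.zGrp_le hz) (hC.zGrp_le hz')
        (kGrp_le G a t hk) (kGrp_le G a t hk') e'
      rfl
    · rintro ⟨⟨x, hx⟩, hxa⟩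
      obtain ⟨z, hz, k, hk, rfl⟩ := hC.sig_stabilizer h hr hx hxa
      exact ⟨(⟨z, hz⟩, ⟨k, hk⟩), rfl⟩
  have hc := Subgroup.card_mul_index (MulAction.stabilizer (sigGrp G a t) a)
  rw [MulAction.index_stabilizer, horb, hC.ncard_line0, hst] at hc
  rw [← hc, ← hC.card_kGrp]
  set k := Nat.card (kGrp G a t)
  rw [show (k + 1) ^ 2 - 1 = k * (k + 2) by
    rw [Nat.sub_eq_iff_eq_add (Nat.one_le_pow _ _ (by omega))]; ring]
  ring

end Ctx

end Cfsg.Agent.RankOneClass
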