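import Cfsg.Prelude.Def_LieRecognition
import Cfsg.Prelude.Def_Exceptional
import Cfsg.Agent.FTCons.Basic
import Cfsg.Agent.Invol.SEPairs
import Cfsg.Agent.PrimeGraphCIT.SzIso

/-!
The classification of rank-one groups applied to simple groups: strongly embedded subgroups with a
regular normal subgroup (S1222) and the common end of the BN-pair statement.
-/

set_option autoImplicit false

open Subgroup MulAction

namespace Cfsg.Agent.RankOneClass

universe u v

/-- The classification of rank-one groups, as a hypothesis (the statement of S1136). -/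
def RankOneClassification : Prop :=
  ∀ {G : Type u} {Ω : Type v} [Group G] [Finite G] [MulAction G Ω] [FaithfulSMul G Ω] {a : Ω} {t : G}
    {Q : Subgroup G}, Cfsg.IsRankOneSetup G Ω a t Q →
    (∃ x y : G, x ≠ 1 ∧ y ≠ 1 ∧ x ≠ y ∧ x * x = 1 ∧ y * y = 1 ∧ x * y = y * x) →
    ∃ L : Subgroup G, L.Normal ∧ Odd L.index ∧
      ((∃ (F : Type) (_ : Field F) (_ : Fintype F), (∃ n : ℕ, 2 ≤ n ∧ Fintype.card F = 2 ^ n) ∧
          Nonempty (L ≃* Matrix.ProjectiveSpecialLinearGroup (Fin 2) F)) ∨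
        Cfsg.Lie.IsoSuzuki L ∨
        (∃ (F : Type) (_ : Field F) (_ : Fintype F) (n : ℕ), 2 ≤ n ∧ Fintype.card F = (2 ^ n) ^ 2 ∧
          Nonempty (L ≃* Cfsg.PSU 3 F (2 ^ n))))

variable {G : Type u} [Group G] [Finite G]

/-- A noncyclic simple group of even order has two commuting involutions. -/
theorem exists_commuting_pair [IsSimpleGroup G] (he : Even (Nat.card G)) (hG : ¬ IsCyclic G) :
    ∃ x y : G, x ≠ 1 ∧ y ≠ 1 ∧ x ≠ y ∧ x * x = 1 ∧ y * y = 1 ∧ x * y = y * x := by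
  obtain ⟨P⟩ : Nonempty (Sylow 2 G) := inferInstance
  obtain ⟨z, -, hz, hzc⟩ := FTCons.exists_central_involution (P : Subgroup G) P.2
    (P.ne_bot_of_dvd_card he.two_dvd)
  have hz1 : z ≠ 1 := fun h => by rw [h, orderOf_one] at hz; omega
  by_cases hu : ∀ t ∈ (P : Subgroup G), orderOf t = 2 → t = z
  · have hiso := Invol.isolated_of_sylow P hz fun g hg => hu _ hg ((Invol.orderOf_conj g z).trans hz)
    exfalso
    refine hG (FTCons.isCyclic_of_central (z := z) (Subgroup.mem_center_iff.2 fun g => ?_) hz1)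
    have h := Invol.zstar hiso g
    rw [FTCons.oddCore_eq_bot_of_simple he, Subgroup.mem_bot, mul_inv_eq_one, mul_inv_eq_iff_eq_mul] at h
    exact h.symm
  · push Not at hu
    obtain ⟨t, htP, ht, htz⟩ := hu
    have hsq : ∀ u : G, orderOf u = 2 → u * u = 1 := fun u hu => by
      have := pow_orderOf_eq_one u
      rwa [hu, pow_two] at this
    exact ⟨t, z, fun h => by rw [h, orderOf_one] at ht; omega, hz1, htz, hsq t ht, hsq z hz, hzc t htP⟩

/-- In a simple group with a rank-one set-up, the classification gives the group itself. -/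
theorem simple_cases (hC : RankOneClassification.{u, v}) [IsSimpleGroup G] {Ω : Type v} [MulAction G Ω]
    [FaithfulSMul G Ω] {a : Ω} {t : G} {Q : Subgroup G} (hS : Cfsg.IsRankOneSetup G Ω a t Q)
    (hG : ¬ IsCyclic G) :
    (∃ (F : Type) (_ : Field F) (_ : Fintype F), (∃ n : ℕ, 2 ≤ n ∧ Fintype.card F = 2 ^ n) ∧
        Nonempty (G ≃* Matrix.ProjectiveSpecialLinearGroup (Fin 2) F)) ∨
      Cfsg.IsSuzuki G ∨
      (∃ (F : Type) (_ : Field F) (_ : Fintype F) (n : ℕ), 2 ≤ n ∧ Fintype.card F = (2 ^ n) ^ 2 ∧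
        Nonempty (G ≃* Cfsg.PSU 3 F (2 ^ n))) := by
  have he : Even (Nat.card G) := by
    have h2 : orderOf t = 2 := orderOf_eq_prime (by rw [pow_two, hS.mul_self]) hS.ne_one
    exact even_iff_two_dvd.2 (h2 ▸ orderOf_dvd_natCard t)
  obtain ⟨L, hLn, hLo, hL⟩ := hC hS (exists_commuting_pair he hG)
  have hLtop : L = ⊤ := by
    rcases IsSimpleGroup.eq_bot_or_eq_top_of_normal L hLn with h | h
    · rw [h, Subgroup.index_bot] at hLo
      exact absurd he (Nat.not_even_iff_odd.2 hLo)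
    · exact h
  subst hLtop
  rcases hL with ⟨F, iF, iFF, hn, ⟨e⟩⟩ | h | ⟨F, iF, iFF, n, hn, hF, ⟨e⟩⟩
  · exact Or.inl ⟨F, iF, iFF, hn, ⟨Subgroup.topEquiv.symm.trans e⟩⟩
  · obtain ⟨F, iF, iFF, m, hm, hF, ⟨e⟩⟩ := h
    exact Or.inr (Or.inl (PrimeGraphCIT.isSuzuki_of_isoSuzuki
      ⟨F, iF, iFF, m, hm, hF, ⟨Subgroup.topEquiv.symm.trans e⟩⟩))
  · exact Or.inr (Or.inr ⟨F, iF, iFF, n, hn, hF, ⟨Subgroup.topEquiv.symm.trans e⟩⟩)

section Coset

variable {H : Subgroup G}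

theorem coset_faithful [IsSimpleGroup G] (hH : H ≠ ⊤) : FaithfulSMul G (G ⧸ H) := by
  refine ⟨fun {m₁ m₂} h => ?_⟩
  have hN : H.normalCore = ⊥ := by
    refine (IsSimpleGroup.eq_bot_or_eq_top_of_normal H.normalCore inferInstance).resolve_right fun h => hH ?_
    exact top_unique (h ▸ H.normalCore_le)
  have h1 : m₁⁻¹ * m₂ ∈ H.normalCore := fun b => by
    have h2 : m₂ • (QuotientGroup.mk b⁻¹ : G ⧸ H) = m₁ • (QuotientGroup.mk b⁻¹ : G ⧸ H) := (h _).symm
    simp only [MulAction.Quotient.smul_mk, smul_eq_mul] at h2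
    have h3 := QuotientGroup.eq.1 h2.symm
    rw [mul_inv_rev, inv_inv] at h3
    simpa [mul_assoc] using h3
  rwa [hN, Subgroup.mem_bot, inv_mul_eq_one] at h1

theorem stabilizer_self (H : Subgroup G) : stabilizer G ((1 : G) : G ⧸ H) = H :=
  stabilizer_quotient H

theorem mem_stabilizer_smul {t x : G} :
    x ∈ stabilizer G (t • ((1 : G) : G ⧸ H)) ↔ t⁻¹ * x * t ∈ H := by
  rw [mem_stabilizer_iff, MulAction.Quotient.smul_mk, smul_eq_mul, mul_one,
    MulAction.Quotient.smul_mk, smul_eq_mul, eq_comm, QuotientGroup.eq, mul_assoc]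

theorem coset_two_transitive (htr : ∀ g₁ g₂ : G, g₁ ∉ H → g₂ ∉ H → ∃ h ∈ H, g₂⁻¹ * (h * g₁) ∈ H) :
    MulAction.IsMultiplyPretransitive G (G ⧸ H) 2 := by
  rw [is_two_pretransitive_iff]
  intro p q r s hpq hrs
  induction p using QuotientGroup.induction_on with | H p =>
  induction q using QuotientGroup.induction_on with | H q =>
  induction r using QuotientGroup.induction_on with | H r =>
  induction s using QuotientGroup.induction_on with | H s =>
  have h1 : p⁻¹ * q ∉ H := fun h => hpq (QuotientGroup.eq.2 h)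
  have h2 : r⁻¹ * s ∉ H := fun h => hrs (QuotientGroup.eq.2 h)
  obtain ⟨h, hh, he⟩ := htr _ _ h1 h2
  refine ⟨r * h * p⁻¹, ?_, ?_⟩
  · rw [MulAction.Quotient.smul_mk, smul_eq_mul, QuotientGroup.eq]
    simpa [mul_assoc] using inv_mem hh
  · rw [MulAction.Quotient.smul_mk, smul_eq_mul, eq_comm, QuotientGroup.eq]
    simpa [mul_assoc] using he

/-- The set-up on the cosets of a subgroup with a regular normal subgroup. -/
theorem coset_setup {t : G} {Q : Subgroup G} (ht2 : t * t = 1) (htH : t ∉ H) (hQH : Q ≤ H)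
    (hQn : ∀ h ∈ H, ∀ x ∈ Q, h * x * h⁻¹ ∈ Q)
    (htrans : ∀ g₁ g₂ : G, g₁ ∉ H → g₂ ∉ H → ∃ u ∈ Q, g₂⁻¹ * (u * g₁) ∈ H)
    (hreg : ∀ u ∈ Q, t⁻¹ * u * t ∈ H → u = 1)
    (hHe : Even (Nat.card H)) (hD : Odd (Nat.card ↥(H ⊓ H.map (MulAut.conj t).toMonoidHom))) :
    Cfsg.IsRankOneSetup G (G ⧸ H) ((1 : G) : G ⧸ H) t Q := by
  have hstab : stabilizer G (t • ((1 : G) : G ⧸ H)) = H.map (MulAut.conj t).toMonoidHom := by
    ext x
    rw [mem_stabilizer_smul, Invol.mem_map_conj_iff]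
  have hinf : Q ⊓ stabilizer G (t • ((1 : G) : G ⧸ H)) = ⊥ :=
    (eq_bot_iff).2 fun u hu => Subgroup.mem_bot.2
      (hreg u (Subgroup.mem_inf.1 hu).1 (mem_stabilizer_smul.1 (Subgroup.mem_inf.1 hu).2))
  have hfac : ∀ h ∈ H, ∃ u ∈ Q, ∃ d ∈ H ⊓ stabilizer G (t • ((1 : G) : G ⧸ H)), h = u * d := by
    intro h hh
    obtain ⟨u, hu, he⟩ := htrans t (h * t) htH fun h' => htH (by simpa using H.mul_mem (H.inv_mem hh) h')
    refine ⟨u, hu, u⁻¹ * h, Subgroup.mem_inf.2 ⟨H.mul_mem (H.inv_mem (hQH hu)) hh,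
      mem_stabilizer_smul.2 ?_⟩, (mul_inv_cancel_left u h).symm⟩
    have := H.inv_mem he
    simpa [mul_assoc] using this
  refine ⟨coset_two_transitive fun g₁ g₂ h1 h2 => ?_, ht2, ?_, ?_, ?_, ?_, hinf, ?_, ?_, ?_⟩
  · obtain ⟨u, hu, he⟩ := htrans g₁ g₂ h1 h2
    exact ⟨u, hQH hu, he⟩
  · rintro rfl
    exact htH H.one_mem
  · rw [stabilizer_self]; exact htH
  · rw [stabilizer_self]; exact hQH
  · rw [stabilizer_self]; exact hQn
  · rw [stabilizer_self]
    refine le_antisymm (sup_le hQH inf_le_left) fun h hh => ?_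
    obtain ⟨u, hu, d, hd, rfl⟩ := hfac h hh
    exact Subgroup.mul_mem_sup hu hd
  · by_contra hodd
    rw [Nat.not_even_iff_odd] at hodd
    set D := H ⊓ stabilizer G (t • ((1 : G) : G ⧸ H)) with hDdef
    have hb : Nat.card H = Nat.card Q * Nat.card D := by
      rw [← Nat.card_prod]
      refine (Nat.card_eq_of_bijective (fun p : Q × D =>
        (⟨p.1 * p.2, H.mul_mem (hQH p.1.2) (Subgroup.mem_inf.1 p.2.2).1⟩ : H)) ⟨?_, ?_⟩).symm
      · intro p q e
        have e' : (p.1 : G) * p.2 = q.1 * q.2 := congrArg Subtype.val e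
        have h1 : (q.1 : G)⁻¹ * p.1 ∈ Q ⊓ stabilizer G (t • ((1 : G) : G ⧸ H)) := by
          refine Subgroup.mem_inf.2 ⟨mul_mem (inv_mem q.1.2) p.1.2, ?_⟩
          rw [show (q.1 : G)⁻¹ * p.1 = q.2 * (p.2 : G)⁻¹ by
            rw [eq_mul_inv_iff_mul_eq, mul_assoc, e', inv_mul_cancel_left]]
          exact mul_mem (Subgroup.mem_inf.1 q.2.2).2 (inv_mem (Subgroup.mem_inf.1 p.2.2).2)
        rw [hinf, Subgroup.mem_bot, inv_mul_eq_one] at h1
        refine Prod.ext (Subtype.ext h1.symm) (Subtype.ext ?_)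
        rw [h1] at e'
        exact mul_left_cancel e'
      · rintro ⟨h, hh⟩
        obtain ⟨u, hu, d, hd, rfl⟩ := hfac h hh
        exact ⟨(⟨u, hu⟩, ⟨d, hd⟩), rfl⟩
    rw [hb] at hHe
    rcases Nat.even_mul.1 hHe with h | h
    · exact Nat.not_even_iff_odd.2 hodd h
    · rw [hDdef, hstab] at h
      exact Nat.not_even_iff_odd.2 hD h
  · rw [stabilizer_self, hstab]
    exact hD

end Coset

/-- A simple group with a strongly embedded subgroup having a normal subgroup regular on the other cosets. -/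
theorem strongly_embedded_cases (hC : RankOneClassification.{u, u}) [IsSimpleGroup G] (H : Subgroup G)
    (hH : Cfsg.IsStronglyEmbedded H) (Q : Subgroup G) (hQH : Q ≤ H) (hQn : (Q.subgroupOf H).Normal)
    (htrans : ∀ g₁ g₂ : G, g₁ ∉ H → g₂ ∉ H → ∃ u ∈ Q, g₂⁻¹ * (u * g₁) ∈ H)
    (hreg : ∀ g : G, g ∉ H → ∀ u ∈ Q, g⁻¹ * (u * g) ∈ H → u = 1) :
    (∃ (F : Type) (_ : Field F) (_ : Fintype F), CharP F 2 ∧ 4 ≤ Fintype.card F ∧
        Nonempty (G ≃* Matrix.ProjectiveSpecialLinearGroup (Fin 2) F)) ∨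
      Cfsg.IsSuzuki G ∨
      (∃ (F : Type) (_ : Field F) (_ : Fintype F) (q : ℕ), Fintype.card F = q ^ 2 ∧ Even q ∧ 4 ≤ q ∧
        Nonempty (G ≃* Cfsg.PSU 3 F q)) := by
  obtain ⟨z, hzH, hz⟩ := Invol.se_exists_involution hH
  have hsq : ∀ u : G, orderOf u = 2 → u * u = 1 := fun u hu => by
    have := pow_orderOf_eq_one u
    rwa [hu, pow_two] at this
  obtain ⟨g, hg⟩ : ∃ g, g ∉ H := by
    by_contra h
    push Not at h
    exact hH.1 ((Subgroup.eq_top_iff' H).2 h)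
  -- an involution outside
  have htH : g * z * g⁻¹ ∉ H := fun h => hg (by
    have := Invol.se_mem hH hz hzH (g := g⁻¹) (by rwa [inv_inv])
    simpa using inv_mem this)
  haveI := coset_faithful hH.1
  have hS := coset_setup (H := H) (t := g * z * g⁻¹) (Q := Q) (hsq _ ((Invol.orderOf_conj g z).trans hz))
    htH hQH (fun h hh x hx => hQn.conj_mem ⟨x, hQH hx⟩ hx ⟨h, hh⟩) htrans
    (fun u hu h => hreg _ htH u hu (by rwa [← mul_assoc])) hH.2.1 (hH.2.2 _ htH)
  have hG : ¬ IsCyclic G := fun hc => by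
    have hcomm : ∀ a b : G, a * b = b * a := fun a b =>
      let ⟨c, hc⟩ := hc.exists_generator
      let ⟨m, hm⟩ := hc a
      let ⟨n, hn⟩ := hc b
      hm ▸ hn ▸ zpow_mul_comm c m n
    have : g * z * g⁻¹ ∈ H := by rw [hcomm g z, mul_inv_cancel_right]; exact hzH
    exact htH this
  rcases simple_cases hC hS hG with ⟨F, iF, iFF, ⟨n, hn, hF⟩, he⟩ | h | ⟨F, iF, iFF, n, hn, hF, he⟩
  · refine Or.inl ⟨F, iF, iFF, charP_of_card_eq_prime_pow hF, ?_, he⟩
    rw [hF]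
    calc 4 = 2 ^ 2 := rfl
      _ ≤ 2 ^ n := Nat.pow_le_pow_right (by norm_num) hn
  · exact Or.inr (Or.inl h)
  · refine Or.inr (Or.inr ⟨F, iF, iFF, 2 ^ n, hF, ?_, ?_, he⟩)
    · exact (Nat.even_pow).2 ⟨even_two, by omega⟩
    · calc 4 = 2 ^ 2 := rfl
        _ ≤ 2 ^ n := Nat.pow_le_pow_right (by norm_num) hn

end Cfsg.Agent.RankOneClass
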