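import Cfsg.Agent.RankOneClass.SqPerm
import Cfsg.Agent.Char.Gen
import Cfsg.Agent.Char.Linear
import Cfsg.Agent.S1121

/-!
`|Q| = q²`: a linear character of the point stabiliser, trivial on `Q` and unchanged by `t` on the
two-point stabiliser, extends to the group. Its induced character has two constituents, and the class
multiplication coefficients of the involutions leave only a linear one.
-/

set_option autoImplicit false
set_option linter.unusedSectionVars false

open Subgroup MulAction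
open scoped ComplexConjugate

namespace Cfsg.Agent.RankOneClass.SqChar

open Cfsg.Agent.RankOne SqPerm

universe u v

variable {G : Type u} {Ω : Type v} [Group G] [Fintype G] [MulAction G Ω] {a : Ω} {t : G}
  {Q : Subgroup G}

theorem exists_two_of_sq_sum {X : Type*} [Fintype X] (c : X → ℕ) (h : ∑ i, c i ^ 2 = 2) :
    ∃ i j, i ≠ j ∧ c i = 1 ∧ c j = 1 ∧ ∀ k, k ≠ i → k ≠ j → c k = 0 := by
  classical
  have hle : ∀ i, c i ≤ 1 := fun i => by
    by_contra hi
    have h1 : c i ^ 2 ≤ 2 :=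
      (Finset.single_le_sum (f := fun k => c k ^ 2) (fun k _ => Nat.zero_le _)
        (Finset.mem_univ i)).trans_eq h
    nlinarith
  have h2 : ∀ i, c i ^ 2 = if c i = 1 then 1 else 0 := fun i => by
    rcases Nat.le_one_iff_eq_zero_or_eq_one.1 (hle i) with e | e <;> simp [e]
  rw [Finset.sum_congr rfl fun i _ => h2 i, ← Finset.card_filter, Finset.card_eq_two] at h
  obtain ⟨i, j, hij, e⟩ := h
  have hm : ∀ k, c k = 1 ↔ k = i ∨ k = j := fun k => by
    simpa using SetLike.ext_iff.1 e k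
  exact ⟨i, j, hij, (hm i).2 (Or.inl rfl), (hm j).2 (Or.inr rfl), fun k h1 h2 =>
    (Nat.le_one_iff_eq_zero_or_eq_one.1 (hle k)).resolve_right fun h3 => ((hm k).1 h3).elim h1 h2⟩

/-- The arithmetic of the two constituents. -/
theorem arith {q A A' d d' x x' : ℤ} (hq4 : 4 ≤ q) (hqe : Even q) (hA : A = 1 ∨ A = q)
    (hqA : q * A = d + (q - 1) * x) (hd : d + d' = q ^ 2 + 1) (hx : x + x' = 1)
    (he : x ^ 2 * d' + x' ^ 2 * d = d * d') (hqA' : A + A' = q + 1) : d = 1 ∨ d' = 1 := by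
  have hd' : d = q * A - (q - 1) * x := by linarith
  obtain ⟨r, rfl⟩ := hqe
  rcases hA with rfl | rfl
  · left
    set B := 1 - x with hB
    have hxB : x = 1 - B := by omega
    have hdB : d = 1 + (r + r - 1) * B := by rw [hd', hxB]; ring
    have key : (r + r) ^ 2 * (B * (2 * B - (r + r + 1))) = 0 := by
      have e1 : d' = (r + r) ^ 2 + 1 - d := by linarith
      have e2 : x' = 1 - x := by linarith
      rw [e1, e2, hdB, hxB] at he
      linear_combination he
    rcases mul_eq_zero.1 key with h | h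
    · nlinarith
    rcases mul_eq_zero.1 h with h | h
    · rw [hdB, h]; ring
    · omega
  · right
    set B := (r + r) - x with hB
    have hxB : x = (r + r) - B := by omega
    have hdB : d = (r + r) + (r + r - 1) * B := by rw [hd', hxB]; ring
    have key : (r + r) ^ 2 * ((B - (r + r)) * (2 * B - (r + r) + 1)) = 0 := by
      have e1 : d' = (r + r) ^ 2 + 1 - d := by linarith
      have e2 : x' = 1 - x := by linarith
      rw [e1, e2, hdB, hxB] at he
      linear_combination he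
    rcases mul_eq_zero.1 key with h | h
    · nlinarith
    rcases mul_eq_zero.1 h with h | h
    · have hBr : B = r + r := by linarith
      rw [hdB, hBr] at hd
      linarith
    · omega

/-- A constituent that has value `η` with multiplicity one sums to a positive multiple of the order
over a subgroup on which `η` is trivial. -/
theorem sum_subgroup (η : stabilizer G a →* ℂˣ) [Fintype (stabilizer G a)] {θ : G → ℂ}
    (hθ : Cfsg.IsCharacter G θ)
    (h1 : Cfsg.classInner (fun l : stabilizer G a => θ l) (fun l => (η l : ℂ)) = 1)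
    (H : Subgroup G) [Fintype H] (hH : H ≤ stabilizer G a) (hη : ∀ l ∈ H, ev η l = 1) :
    ∃ m : ℕ, 1 ≤ m ∧ ∑ y : H, θ y = (Nat.card H : ℂ) * m := by
  have hR := Char.IsChar.sub_constituent (Char.isCharacter_res (stabilizer G a) hθ)
    (Char.isIrrCharacter_hom η) (by rw [h1]; exact one_ne_zero)
  have hR' := Char.isCharacter_comp (inclusion hH) hR
  obtain ⟨m, hm⟩ := Char.classInner_isCharacter_eq_natCast hR' (Char.isCharacter_one (G := H))
  refine ⟨1 + m, by omega, ?_⟩
  rw [Cfsg.classInner, inv_mul_eq_iff_eq_mul₀ Char.card_ne_zero] at hm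
  have e : ∀ y : H, θ y = ((fun l : stabilizer G a => θ l) - fun l => (η l : ℂ)) (inclusion hH y) *
      conj (1 : ℂ) + 1 := fun y => by
    have hy : (η (inclusion hH y) : ℂ) = 1 := by
      have := hη y y.2
      rw [ev_of_mem η (hH y.2)] at this
      exact congrArg Units.val this
    simp only [Pi.sub_apply, hy, map_one, mul_one, coe_inclusion, sub_add_cancel]
  rw [Finset.sum_congr rfl fun y _ => e y, Finset.sum_add_distrib]
  simp only [Finset.sum_const, Finset.card_univ, nsmul_eq_mul, mul_one, ← Nat.card_eq_fintype_card]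
  simp only [map_one, mul_one] at hm
  simp only [map_one, mul_one]
  rw [hm]
  push_cast
  ring

/-- The sum of a twisted permutation character over a subgroup of `Q`. -/
theorem sum_nfix_Q (hS : Cfsg.IsRankOneSetup G Ω a t Q) (H : Subgroup G) [Fintype H] (hH : H ≤ Q) :
    ∑ y : H, nfix Ω (y : G) = Nat.card Q + Nat.card H := by
  classical
  rw [← Finset.add_sum_erase _ _ (Finset.mem_univ (1 : H)),
    Finset.sum_congr rfl fun y hy => nfix_Q hS (hH y.2)
      (fun e => Finset.ne_of_mem_erase hy (Subtype.ext e)),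
    Finset.sum_const, Finset.card_erase_of_mem (Finset.mem_univ _), Finset.card_univ,
    ← Nat.card_eq_fintype_card, smul_eq_mul, mul_one, OneMemClass.coe_one, nfix_one hS]
  have := (Nat.card_pos : 0 < Nat.card H)
  omega

/-- A class function on `Z`: its sum. -/
theorem sum_zGrp (hC : Ctx G Ω a t Q) [Fintype (zGrp G a)] {θ : G → ℂ}
    (hθ : Cfsg.IsClassFunction G θ) {s : G} (hs : s ∈ zGrp G a) (hs1 : s ≠ 1) :
    ∑ z : zGrp G a, θ z = θ 1 + ((qq G a : ℂ) - 1) * θ s := by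
  classical
  have hconst : ∀ z ∈ (Finset.univ : Finset (zGrp G a)).erase 1, θ z = θ s := fun z hz => by
    obtain ⟨k, -, e⟩ := hC.exists_kGrp_conj hs hs1 z.2
      (fun e => Finset.ne_of_mem_erase hz (Subtype.ext e))
    rw [← e, hθ]
  rw [← Finset.add_sum_erase _ _ (Finset.mem_univ (1 : zGrp G a)), Finset.sum_congr rfl hconst,
    Finset.sum_const, Finset.card_erase_of_mem (Finset.mem_univ _), Finset.card_univ,
    ← Nat.card_eq_fintype_card, nsmul_eq_mul, OneMemClass.coe_one,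
    Nat.cast_sub (Nat.card_pos (α := zGrp G a))]
  simp [qq]

/-- A class function sums equally over the non-trivial cosets of `Z` in `Q`. -/
theorem sum_cosets (hC : Ctx G Ω a t Q) [Fintype (zGrp G a)] [Fintype Q]
    (htr : ∀ y ∈ Q, y ∉ zGrp G a → ∀ y' ∈ Q, y' ∉ zGrp G a →
      ∃ k ∈ kGrp G a t, y'⁻¹ * (k * y * k⁻¹) ∈ zGrp G a)
    (hN : Nat.card Q = qq G a ^ 2) {θ : G → ℂ} (hθ : Cfsg.IsClassFunction G θ) {y₀ : G}
    (hy₀ : y₀ ∈ Q) (hy₀' : y₀ ∉ zGrp G a) :
    ∑ y : Q, θ y = ∑ z : zGrp G a, θ z + ((qq G a : ℂ) - 1) * ∑ z : zGrp G a, θ (y₀ * z) := by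
  classical
  set T := ∑ z : zGrp G a, θ (y₀ * z)
  let P := {y : Q // (y : G) ∉ zGrp G a}
  have hzQ := hC.zGrp_le
  have hT : ∀ y : P, ∑ z : zGrp G a, θ ((y.1 : G) * z) = T := by
    intro y
    obtain ⟨k, hk, hz₀⟩ := htr _ y.1.2 y.2 y₀ hy₀ hy₀'
    have hka := twoPt_le (Ctx.kGrp_le G a t hk)
    let e₀ : zGrp G a ≃ zGrp G a :=
      { toFun := fun z => ⟨y₀⁻¹ * (k * (y.1 : G) * k⁻¹) * (k * (z : G) * k⁻¹),
          mul_mem hz₀ (hC.conj_mem_zGrp hka z.2)⟩
        invFun := fun z => ⟨k⁻¹ * ((y₀⁻¹ * (k * (y.1 : G) * k⁻¹))⁻¹ * (z : G)) * k, by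
          simpa using hC.conj_mem_zGrp (inv_mem hka) (mul_mem (inv_mem hz₀) z.2)⟩
        left_inv := fun z => Subtype.ext (by simp [mul_assoc])
        right_inv := fun z => Subtype.ext (by simp [mul_assoc]) }
    refine Fintype.sum_equiv e₀ _ _ fun z => ?_
    rw [← hθ ((y.1 : G) * z) k]
    congr 1
    simp only [e₀, Equiv.coe_fn_mk]
    group
  have hS' : ∀ z : zGrp G a, ∑ y : P, θ ((y.1 : G) * z) = ∑ y : P, θ (y.1 : G) := fun z =>
    Fintype.sum_equiv
      { toFun := fun (y : P) => ⟨y.1 * ⟨(z : G), hzQ z.2⟩, fun h =>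
          (show (y.1 : G) ∉ zGrp G a from y.2) (by simpa using mul_mem h (inv_mem z.2))⟩
        invFun := fun (y : P) => ⟨y.1 * ⟨(z : G), hzQ z.2⟩⁻¹, fun h =>
          (show (y.1 : G) ∉ zGrp G a from y.2) (by simpa using mul_mem h z.2)⟩
        left_inv := fun y => Subtype.ext (mul_inv_cancel_right _ _)
        right_inv := fun y => Subtype.ext (inv_mul_cancel_right _ _) } _ _ fun y => rfl
  have hdouble : (qq G a : ℂ) * ∑ y : P, θ (y.1 : G) = (Nat.card P : ℂ) * T := by
    have h1 : ∑ z : zGrp G a, ∑ y : P, θ ((y.1 : G) * z) = (qq G a : ℂ) * ∑ y : P, θ (y.1 : G) := by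
      rw [Finset.sum_congr rfl fun z _ => hS' z, Finset.sum_const, Finset.card_univ, nsmul_eq_mul,
        ← Nat.card_eq_fintype_card]
      rfl
    rw [← h1, Finset.sum_comm, Finset.sum_congr rfl fun y _ => hT y, Finset.sum_const,
      Finset.card_univ, nsmul_eq_mul, Nat.card_eq_fintype_card]
  let e : {y : Q // (y : G) ∈ zGrp G a} ≃ zGrp G a :=
    { toFun := fun y => ⟨y.1, y.2⟩
      invFun := fun z => ⟨⟨z, hzQ z.2⟩, z.2⟩
      left_inv := fun _ => rfl
      right_inv := fun _ => rfl }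
  have hsplit : ∑ y : Q, θ y = ∑ z : zGrp G a, θ z + ∑ y : P, θ (y.1 : G) := by
    rw [← Fintype.sum_subtype_add_sum_subtype (fun y : Q => (y : G) ∈ zGrp G a) (fun y : Q => θ y)]
    exact congrArg₂ (· + ·) (Fintype.sum_equiv e _ _ fun _ => rfl) rfl
  have hP : (Nat.card P : ℂ) = (qq G a : ℂ) * ((qq G a : ℂ) - 1) := by
    have h1 : Nat.card P + qq G a = Nat.card Q := by
      rw [show qq G a = Nat.card {y : Q // (y : G) ∈ zGrp G a} from (Nat.card_congr e).symm,
        Nat.card_eq_fintype_card, Nat.card_eq_fintype_card, Nat.card_eq_fintype_card,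
        show Fintype.card P = _ from Fintype.card_subtype_compl (fun y : Q => (y : G) ∈ zGrp G a),
        Nat.sub_add_cancel (Fintype.card_subtype_le _)]
    rw [hN] at h1
    have h2 : (Nat.card P : ℂ) + (qq G a : ℂ) = (qq G a : ℂ) ^ 2 := by exact_mod_cast h1
    linear_combination h2
  have hq0 : (qq G a : ℂ) ≠ 0 := Nat.cast_ne_zero.2 (by have := hC.four_le_qq; omega)
  rw [hsplit, mul_left_cancel₀ hq0 (hdouble.trans (by rw [hP, mul_assoc]))]

/-- An integral number with an integer multiple is an integer. -/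
theorem int_of_mul {z : ℂ} (hz : IsIntegral ℤ z) {n m : ℤ} (hn : n ≠ 0) (h : (n : ℂ) * z = m) :
    ∃ k : ℤ, z = k ∧ n * k = m := by
  have e : z = (((m : ℚ) / n : ℚ) : ℂ) := by
    push_cast
    rw [eq_div_iff (Int.cast_ne_zero.2 hn), mul_comm, h]
  obtain ⟨k, hk⟩ := Char.exists_int_of_isIntegral_rat (e ▸ hz)
  refine ⟨k, by rw [e, ← hk]; push_cast; rfl, ?_⟩
  have h2 : (n : ℂ) * (k : ℂ) = m := by rw [← h, e, ← hk]; push_cast; rfl
  exact_mod_cast h2

/-- A linear constituent is the extension. -/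
theorem exists_hom_of_degree_one (η : stabilizer G a →* ℂˣ) [Fintype (stabilizer G a)] {θ : G → ℂ}
    (hθ : Cfsg.IsCharacter G θ) (hd : θ 1 = 1)
    (h1 : Cfsg.classInner (fun l : stabilizer G a => θ l) (fun l => (η l : ℂ)) = 1) :
    ∃ Λ : G →* ℂˣ, ∀ l : stabilizer G a, Λ l = η l := by
  obtain ⟨Λ, rfl⟩ := Char.IsChar.exists_hom hθ hd
  refine ⟨Λ, fun l => ?_⟩
  by_contra hne
  refine one_ne_zero (h1.symm.trans (Char.classInner_irr_ne
    (Char.isIrrCharacter_hom (Λ.comp (stabilizer G a).subtype)) (Char.isIrrCharacter_hom η) ?_))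
  exact fun e => hne (Units.ext (congrFun e l))

/-- The extension. -/
theorem exists_extension (hC : Ctx G Ω a t Q) (hN : Nat.card Q = qq G a ^ 2)
    (htr : ∀ y ∈ Q, y ∉ zGrp G a → ∀ y' ∈ Q, y' ∉ zGrp G a →
      ∃ k ∈ kGrp G a t, y'⁻¹ * (k * y * k⁻¹) ∈ zGrp G a)
    (η : stabilizer G a →* ℂˣ) (hQ : ∀ x ∈ Q, ev η x = 1)
    (ht : ∀ d ∈ twoPt G a t, ev η (t * d * t) = ev η d) :
    ∃ Λ : G →* ℂˣ, ∀ l : stabilizer G a, Λ l = η l := by
  classical
  have hS := hC.setup
  have := Fintype.ofFinite (stabilizer G a)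
  have := Fintype.ofFinite (zGrp G a)
  have := Fintype.ofFinite Q
  set f : stabilizer G a → ℂ := fun l => (η l : ℂ) with hf
  set φ := Cfsg.indFun (stabilizer G a) f with hφdef
  have hφc : Cfsg.IsCharacter G φ := Char.isCharacter_indFun (stabilizer G a) (Char.isCharacter_hom η)
  -- values
  have hφB : ∀ l : stabilizer G a, φ l = (η l : ℂ) * nfix Ω (l : G) := fun l => by
    rw [← show ev η (l : G) = η l from ev_of_mem η l.2]
    exact indFun_eq hS η fun x hx => congrArg Units.val (ev_fusion hS η ht l.2 hx)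
  have hφQ : ∀ y ∈ Q, φ y = nfix Ω y := fun y hy => by
    have h := hφB ⟨y, hS.le hy⟩
    rw [← ev_of_mem η (hS.le hy), hQ y hy, Units.val_one, one_mul] at h
    exact h
  have hφprod : ∀ i j : G, i * i = 1 → j * j = 1 → φ (i * j) = nfix Ω (i * j) := fun i j hi hj => by
    rw [hφdef, hf, indFun_eq hS η (c := 1) fun x hx => ?_, one_mul]
    have hcj : x⁻¹ * (i * j) * x = (x⁻¹ * i * x) * (x⁻¹ * j * x) := by group
    rw [hcj] at hx ⊢
    refine congrArg Units.val (ev_prod hS η ht hQ ?_ ?_ hx)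
    · calc x⁻¹ * i * x * (x⁻¹ * i * x) = x⁻¹ * (i * i) * x := by group
        _ = 1 := by rw [hi]; group
    · calc x⁻¹ * j * x * (x⁻¹ * j * x) = x⁻¹ * (j * j) * x := by group
        _ = 1 := by rw [hj]; group
  -- the norm
  have hnorm : Cfsg.classInner φ φ = 2 := by
    rw [hφdef, Char.classInner_indFun_left _ f (Char.isClassFunction_indFun _ _), Cfsg.classInner,
      ← hφdef]
    have e : ∀ l : stabilizer G a, f l * conj (φ l) = (nfix Ω (l : G) : ℂ) := fun l => by
      rw [hφB, map_mul, Complex.conj_natCast, ← mul_assoc]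
      have h1 : ‖(η l : ℂ)‖ = 1 := by
        refine Complex.norm_eq_one_of_pow_eq_one (n := Nat.card (stabilizer G a)) ?_ Nat.card_pos.ne'
        rw [← Units.val_pow_eq_pow_val, ← map_pow, pow_card_eq_one', map_one, Units.val_one]
      rw [hf, Complex.mul_conj', h1]
      simp
    rw [Finset.sum_congr rfl fun l _ => e l, ← Nat.cast_sum, sum_nfix_stabilizer hS, Nat.cast_mul,
      inv_mul_eq_iff_eq_mul₀ Char.card_ne_zero]
    push_cast
    ring
  obtain ⟨c, hc, hexp, hn⟩ := Char.IsChar.exists_mult hφc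
  rw [hnorm] at hn
  obtain ⟨θ, θ', hne, hcθ, hcθ', hzero⟩ := exists_two_of_sq_sum c (by exact_mod_cast hn.symm)
  have hsum : ∀ g, φ g = (θ : G → ℂ) g + (θ' : G → ℂ) g := fun g => by
    conv_lhs => rw [hexp]
    rw [Finset.sum_apply, ← Finset.add_sum_erase _ _ (Finset.mem_univ θ),
      Finset.sum_eq_single θ' (fun k hk hk' => by
        simp [hzero k (Finset.ne_of_mem_erase hk) hk'])
        (fun h => absurd (Finset.mem_erase.2 ⟨hne.symm, Finset.mem_univ _⟩) h)]
    simp [hcθ, hcθ']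
  have hrec : ∀ χ : Cfsg.IrrCharacter G, c χ = 1 →
      Cfsg.classInner (fun l : stabilizer G a => (χ : G → ℂ) l) f = 1 := fun χ hχ => by
    rw [← Char.classInner_indFun_right _ f (Char.isClassFunction_of_isIrr χ.2),
      ← Char.classInner_conj_symm, ← hφdef, hc, hχ, Nat.cast_one, map_one]
  set q : ℕ := qq G a with hq
  have hq4 := hC.four_le_qq
  obtain ⟨fexp, hf2, hqpow⟩ := hC.exists_qq_pow
  have hqe : Even (q : ℤ) := by
    rw [hq, hqpow]
    push_cast
    exact ((even_two (α := ℤ)).pow_of_ne_zero (by omega))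
  -- an involution, a coset
  obtain ⟨s, hs, hs1⟩ : ∃ s ∈ zGrp G a, s ≠ 1 := by
    refine (bot_or_exists_ne_one _).resolve_left fun e => ?_
    have : qq G a = 1 := by rw [qq, e, Subgroup.card_bot]
    omega
  have hzlt : zGrp G a < Q := lt_of_le_of_ne hC.zGrp_le fun e => by
    have : qq G a = qq G a ^ 2 := by rw [← hN, ← e]; rfl
    nlinarith
  obtain ⟨y₀, hy₀, hy₀'⟩ := SetLike.exists_of_lt hzlt
  -- data of a constituent
  have hdata : ∀ χ : Cfsg.IrrCharacter G, c χ = 1 →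
      ∃ mQ A : ℕ, 1 ≤ mQ ∧ 1 ≤ A ∧ ∑ y : Q, (χ : G → ℂ) y = (Nat.card Q : ℂ) * mQ ∧
        ∑ z : zGrp G a, (χ : G → ℂ) z = (q : ℂ) * A := fun χ hχ => by
    obtain ⟨mQ, h1, h2⟩ := sum_subgroup η (Char.IsIrr.isCharacter χ.2) (hrec χ hχ) Q hS.le hQ
    obtain ⟨A, h3, h4⟩ := sum_subgroup η (Char.IsIrr.isCharacter χ.2) (hrec χ hχ) (zGrp G a)
      (hC.zGrp_le.trans hS.le) fun l hl => hQ l (hC.zGrp_le hl)
    exact ⟨mQ, A, h1, h3, h2, h4⟩
  obtain ⟨mQ, A, hmQ, hA, eQ, eZ⟩ := hdata θ hcθ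
  obtain ⟨mQ', A', hmQ', hA', eQ', eZ'⟩ := hdata θ' hcθ'
  have htot : ∀ (H : Subgroup G) [Fintype H], H ≤ Q →
      ∑ y : H, (θ : G → ℂ) y + ∑ y : H, (θ' : G → ℂ) y = ((Nat.card Q + Nat.card H : ℕ) : ℂ) := by
    intro H _ hH
    rw [← Finset.sum_add_distrib, ← sum_nfix_Q hS H hH, Nat.cast_sum]
    exact Finset.sum_congr rfl fun y _ => by rw [← hsum, hφQ _ (hH y.2)]
  have hmQ2 : mQ + mQ' = 2 := by
    have h1 := htot Q le_rfl
    rw [eQ, eQ', ← mul_add] at h1
    have h2 : Nat.card Q * (mQ + mQ') = Nat.card Q + Nat.card Q := by exact_mod_cast h1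
    exact Nat.eq_of_mul_eq_mul_left Nat.card_pos (h2.trans (by ring))
  have hAA : A + A' = q + 1 := by
    have h1 := htot (zGrp G a) hC.zGrp_le
    rw [eZ, eZ', ← mul_add, hN] at h1
    have h2 : q * (A + A') = q ^ 2 + q := by
      have : (q : ℂ) * ((A + A' : ℕ) : ℂ) = ((q ^ 2 + q : ℕ) : ℂ) := by
        push_cast; push_cast at h1; exact h1
      exact_mod_cast this
    exact Nat.eq_of_mul_eq_mul_left (show 0 < q by omega) (h2.trans (by ring))
  obtain rfl : mQ = 1 := by omega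
  -- the cosets give the congruence
  have hA01 : (A : ℤ) = 1 ∨ (A : ℤ) = q := by
    have h := sum_cosets hC htr hN (Char.isClassFunction_of_isIrr θ.2) hy₀ hy₀'
    rw [eQ, eZ, hN] at h
    obtain ⟨τ, -, hτ⟩ := int_of_mul (n := (q : ℤ) - 1) (m := (q : ℤ) ^ 2 - q * A)
      (IsIntegral.sum _ fun (z : zGrp G a) _ =>
        Char.IsChar.isIntegral (Char.IsIrr.isCharacter θ.2) (y₀ * (z : G)))
      (by omega) (by push_cast at h ⊢; linear_combination -h)
    have hAle : (A : ℤ) ≤ q := by omega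
    have hA1 : (1 : ℤ) ≤ A := by omega
    have hk : ((q : ℤ) - 1) * (τ - ((q : ℤ) - A)) = (q : ℤ) - A := by linear_combination hτ
    by_cases h0 : τ - ((q : ℤ) - A) ≤ 0
    · right; nlinarith
    · left; nlinarith
  -- degrees and values at the involution
  obtain ⟨d, hd0, hd⟩ := Char.IsIrr.degree θ.2
  obtain ⟨d', hd0', hd'⟩ := Char.IsIrr.degree θ'.2
  have hdd : (d : ℤ) + d' = (q : ℤ) ^ 2 + 1 := by
    have h1 := hsum 1
    rw [hd, hd', hφQ 1 Q.one_mem, nfix_one hS, hN] at h1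
    exact_mod_cast h1.symm
  have hz := sum_zGrp hC (Char.isClassFunction_of_isIrr θ.2) hs hs1
  rw [eZ, hd] at hz
  obtain ⟨x, hx, hxA⟩ := int_of_mul (n := (q : ℤ) - 1) (m := (q : ℤ) * A - d)
    (Char.IsChar.isIntegral (Char.IsIrr.isCharacter θ.2) s) (by omega)
    (by push_cast at hz ⊢; linear_combination -hz)
  have hss : s * s = 1 := hC.zGrp_sq hs
  have hx' : (θ' : G → ℂ) s = ((1 - x : ℤ) : ℂ) := by
    have h1 := hsum s
    rw [hx, hφQ s (hC.zGrp_le hs), nfix_Q hS (hC.zGrp_le hs) hs1] at h1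
    push_cast at h1 ⊢
    linear_combination -h1
  -- class multiplication
  set C := Finset.univ.filter (fun g : G => g ≠ 1 ∧ g * g = 1) with hCdef
  have hconj : ∀ _ : DecidablePred (IsConj s), Finset.univ.filter (IsConj s) = C := by
    intro inst
    refine Finset.ext fun g => ?_
    simp only [hCdef, Finset.mem_filter, Finset.mem_univ, true_and]
    constructor
    · intro h
      obtain ⟨e, rfl⟩ := isConj_iff.1 h
      exact ⟨fun h1 => hs1 (conj_eq_one_iff.1 h1), by rw [conj_mul, hss, mul_one, mul_inv_cancel]⟩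
    · rintro ⟨h1, h2⟩
      exact isConj_iff.2 ((S1121.result hS).2 s g hs1 hss h1 h2)
  have hidx : ((centralizer ({s} : Set G)).index : ℂ) = C.card := by
    rw [← Char.card_isConj_eq_index, Nat.card_eq_fintype_card, Fintype.card_subtype, hconj _]
  have hmul : ∀ χ : Cfsg.IrrCharacter G, (χ : G → ℂ) 1 * ∑ i ∈ C, ∑ j ∈ C, (χ : G → ℂ) (i * j) =
      (C.card : ℂ) ^ 2 * (χ : G → ℂ) s ^ 2 := fun χ => by
    have h := Char.sum_classes_mul χ.2 s s
    rw [hconj _, hidx] at h
    rw [h]; ring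
  have htotC : ∑ i ∈ C, ∑ j ∈ C, (θ : G → ℂ) (i * j) + ∑ i ∈ C, ∑ j ∈ C, (θ' : G → ℂ) (i * j) =
      (C.card : ℂ) ^ 2 := by
    rw [← Finset.sum_add_distrib, ← Nat.cast_pow,
      show C.card ^ 2 = ∑ i ∈ C, ∑ j ∈ C, nfix Ω (i * j) from (sum_nfix_prod hC).symm,
      Nat.cast_sum]
    refine Finset.sum_congr rfl fun i hi => ?_
    rw [← Finset.sum_add_distrib, Nat.cast_sum]
    refine Finset.sum_congr rfl fun j hj => ?_
    rw [← hsum]
    exact hφprod i j (Finset.mem_filter.1 hi).2.2 (Finset.mem_filter.1 hj).2.2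
  have hC0 : (C.card : ℂ) ≠ 0 := Nat.cast_ne_zero.2 (Finset.card_pos.2 ⟨s, by
    rw [hCdef]; simp [hs1, hss]⟩).ne'
  have h1 := hmul θ
  have h2 := hmul θ'
  rw [hd, hx] at h1
  rw [hd', hx'] at h2
  have heq : x ^ 2 * (d' : ℤ) + (1 - x) ^ 2 * (d : ℤ) = (d : ℤ) * d' := by
    have h3 : (C.card : ℂ) ^ 2 * ((x : ℂ) ^ 2 * d' + (1 - (x : ℂ)) ^ 2 * d) =
        (C.card : ℂ) ^ 2 * ((d : ℂ) * d') := by
      push_cast at h2
      linear_combination -(d' : ℂ) * h1 - (d : ℂ) * h2 + (d : ℂ) * d' * htotC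
    have h4 := mul_left_cancel₀ (pow_ne_zero 2 hC0) h3
    exact_mod_cast h4
  rcases arith (q := (q : ℤ)) (A := (A : ℤ)) (A' := (A' : ℤ)) (d := (d : ℤ)) (d' := (d' : ℤ))
    (x := x) (x' := 1 - x) (by omega) hqe hA01 (by linarith) hdd (by ring) heq
    (by exact_mod_cast hAA) with e | e
  · exact exists_hom_of_degree_one η (Char.IsIrr.isCharacter θ.2)
      (by rw [hd, show d = 1 by exact_mod_cast e, Nat.cast_one]) (hrec θ hcθ)
  · exact exists_hom_of_degree_one η (Char.IsIrr.isCharacter θ'.2)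
      (by rw [hd', show d' = 1 by exact_mod_cast e, Nat.cast_one]) (hrec θ' hcθ')

end Cfsg.Agent.RankOneClass.SqChar
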