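import Cfsg.Agent.RankOneClass.Base
import Cfsg.Agent.Char.ClassAlg
import Cfsg.Agent.Char.Induced

/-!
A homomorphism of the point stabiliser to `ℂˣ` that is unchanged by `t` on the two-point stabiliser:
the induced character is the permutation character twisted by it; counts of involutions.
-/

set_option autoImplicit false
set_option linter.unusedSectionVars false

open Subgroup MulAction
open scoped ComplexConjugate

namespace Cfsg.Agent.RankOneClass.SqPerm

open Cfsg.Agent.RankOne

universe u v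

variable {G : Type u} {Ω : Type v} [Group G] [MulAction G Ω] {a : Ω} {t : G} {Q : Subgroup G}

/-- Extension by `1` of a homomorphism of the stabiliser. -/
noncomputable def ev (η : stabilizer G a →* ℂˣ) (g : G) : ℂˣ :=
  open scoped _root_.Classical in if h : g ∈ stabilizer G a then η ⟨g, h⟩ else 1

theorem ev_of_mem (η : stabilizer G a →* ℂˣ) {g : G} (h : g ∈ stabilizer G a) :
    ev η g = η ⟨g, h⟩ := dif_pos h

theorem ev_mul (η : stabilizer G a →* ℂˣ) {g h : G} (hg : g ∈ stabilizer G a)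
    (hh : h ∈ stabilizer G a) : ev η (g * h) = ev η g * ev η h := by
  rw [ev_of_mem η hg, ev_of_mem η hh, ev_of_mem η (mul_mem hg hh), ← map_mul]
  rfl

theorem ev_inv (η : stabilizer G a →* ℂˣ) {g : G} (hg : g ∈ stabilizer G a) :
    ev η g⁻¹ = (ev η g)⁻¹ := by
  rw [ev_of_mem η hg, ev_of_mem η (inv_mem hg), ← map_inv]
  rfl

theorem ev_conj (η : stabilizer G a →* ℂˣ) {g h : G} (hg : g ∈ stabilizer G a)
    (hh : h ∈ stabilizer G a) : ev η (h⁻¹ * g * h) = ev η g := by
  rw [ev_mul η (mul_mem (inv_mem hh) hg) hh, ev_mul η (inv_mem hh) hg, ev_inv η hh]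
  rw [mul_comm, mul_inv_cancel_left]

/-- Conjugation inside the stabiliser does not change the value. -/
theorem ev_fusion (hS : Cfsg.IsRankOneSetup G Ω a t Q) (η : stabilizer G a →* ℂˣ)
    (ht : ∀ d ∈ twoPt G a t, ev η (t * d * t) = ev η d) {g x : G} (hg : g ∈ stabilizer G a)
    (hx : x⁻¹ * g * x ∈ stabilizer G a) : ev η (x⁻¹ * g * x) = ev η g := by
  by_cases hxa : x ∈ stabilizer G a
  · exact ev_conj η hg hxa
  obtain ⟨⟨h, q⟩, hh, hq, rfl⟩ := form_exists hS hxa
  dsimp only at hh hq hx ⊢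
  have hqa := hS.le hq
  have hg' : h⁻¹ * g * h ∈ stabilizer G a := mul_mem (mul_mem (inv_mem hh) hg) hh
  have e : (h * t * q)⁻¹ * g * (h * t * q) = q⁻¹ * (t * (h⁻¹ * g * h) * t) * q := by
    rw [mul_inv_rev, mul_inv_rev, t_inv hS]
    simp only [mul_assoc]
  rw [e] at hx ⊢
  have h2 : t * (h⁻¹ * g * h) * t ∈ stabilizer G a := by
    simpa [mul_assoc] using mul_mem (mul_mem hqa hx) (inv_mem hqa)
  have hgD : h⁻¹ * g * h ∈ twoPt G a t := by
    refine mem_twoPt.2 ⟨hg', ?_⟩
    have h3 : (t * (h⁻¹ * g * h) * t) • a = a := h2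
    rw [mul_smul, mul_smul, smul_eq_iff_eq_inv_smul, t_inv hS] at h3
    exact h3
  rw [ev_conj η h2 hqa, ht _ hgD, ev_conj η hg hh]

/-- On the stabiliser the values have odd order, if trivial on `Q`. -/
theorem ev_odd [Finite G] (hS : Cfsg.IsRankOneSetup G Ω a t Q) (η : stabilizer G a →* ℂˣ)
    (hQ : ∀ q ∈ Q, ev η q = 1) {g : G} (hg : g ∈ stabilizer G a)
    (h2 : ev η g * ev η g = 1) : ev η g = 1 := by
  obtain ⟨q, hq, d, hd, rfl⟩ := stabilizer_split hS hg
  rw [ev_mul η (hS.le hq) (twoPt_le hd), hQ q hq, one_mul] at h2 ⊢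
  obtain ⟨k, hk⟩ : Odd (Nat.card (twoPt G a t)) := hS.odd_card
  have hpow : (ev η d) ^ Nat.card (twoPt G a t) = 1 := by
    have h1 : (⟨d, twoPt_le hd⟩ : stabilizer G a) ^ Nat.card (twoPt G a t) = 1 := by
      refine Subtype.ext ?_
      have := congrArg Subtype.val (pow_card_eq_one' (x := (⟨d, hd⟩ : twoPt G a t)))
      simpa using this
    rw [ev_of_mem η (twoPt_le hd), ← map_pow, h1, map_one]
  rw [hk, pow_succ, pow_mul, pow_two, h2, one_pow, one_mul] at hpow
  exact hpow

/-- A product of two involutions in the stabiliser has value `1`. -/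
theorem ev_prod [Finite G] (hS : Cfsg.IsRankOneSetup G Ω a t Q) (η : stabilizer G a →* ℂˣ)
    (ht : ∀ d ∈ twoPt G a t, ev η (t * d * t) = ev η d) (hQ : ∀ q ∈ Q, ev η q = 1) {i j : G}
    (hi : i * i = 1) (hj : j * j = 1) (h : i * j ∈ stabilizer G a) : ev η (i * j) = 1 := by
  have e : i⁻¹ * (i * j) * i = (i * j)⁻¹ := by
    rw [mul_inv_rev, inv_eq_of_mul_eq_one_right hi, inv_eq_of_mul_eq_one_right hj, ← mul_assoc i i j,
      hi, one_mul]
  have h1 := ev_fusion hS η ht h (x := i) (e ▸ inv_mem h)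
  rw [e, ev_inv η h, inv_eq_iff_mul_eq_one] at h1
  exact ev_odd hS η hQ h h1

section Perm

variable [Fintype G]

/-- The number of fixed points. -/
noncomputable def nfix (Ω : Type v) [MulAction G Ω] (g : G) : ℕ := Nat.card {c : Ω // g • c = c}

theorem card_smul_eq (hS : Cfsg.IsRankOneSetup G Ω a t Q) (c : Ω) :
    Nat.card {x : G // x • a = c} = Nat.card (stabilizer G a) := by
  obtain ⟨g, hg⟩ := exists_smul hS a c
  refine Nat.card_congr
    { toFun := fun x => ⟨g⁻¹ * x.1, show (g⁻¹ * x.1) • a = a by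
        rw [mul_smul, x.2, inv_smul_eq_iff, hg]⟩
      invFun := fun y => ⟨g * y.1, by rw [mul_smul, show (y : G) • a = a from y.2, hg]⟩
      left_inv := fun x => Subtype.ext (mul_inv_cancel_left g x.1)
      right_inv := fun y => Subtype.ext (inv_mul_cancel_left g y.1) }

theorem card_smul_fix (hS : Cfsg.IsRankOneSetup G Ω a t Q) (g : G) :
    Nat.card {x : G // x⁻¹ * g * x ∈ stabilizer G a} = Nat.card (stabilizer G a) * nfix Ω g := by
  have hiff : ∀ x : G, x⁻¹ * g * x ∈ stabilizer G a ↔ g • x • a = x • a := fun x => by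
    rw [mem_stabilizer_iff, mul_smul, mul_smul, inv_smul_eq_iff]
  have : Finite Ω := finite_points hS
  have := Fintype.ofFinite {c : Ω // g • c = c}
  let e : {x : G // x⁻¹ * g * x ∈ stabilizer G a} ≃
      Σ c : {c : Ω // g • c = c}, {x : G // x • a = (c : Ω)} :=
    { toFun := fun x => ⟨⟨x.1 • a, (hiff x.1).1 x.2⟩, ⟨x.1, rfl⟩⟩
      invFun := fun y => ⟨y.2.1, (hiff _).2 (by rw [y.2.2]; exact y.1.2)⟩
      left_inv := fun x => rfl
      right_inv := by
        rintro ⟨⟨c, hc⟩, ⟨x, hx⟩⟩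
        dsimp only at hx
        subst hx
        rfl }
  rw [Nat.card_congr e, Nat.card_sigma, Finset.sum_congr rfl fun c _ => card_smul_eq hS c.1,
    Finset.sum_const, Finset.card_univ, smul_eq_mul, nfix, ← Nat.card_eq_fintype_card, mul_comm]

/-- The value of the induced character when all contributions agree. -/
theorem indFun_eq (hS : Cfsg.IsRankOneSetup G Ω a t Q) (η : stabilizer G a →* ℂˣ) {g : G} {c : ℂ}
    (hc : ∀ x : G, x⁻¹ * g * x ∈ stabilizer G a → (ev η (x⁻¹ * g * x) : ℂ) = c) :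
    Cfsg.indFun (stabilizer G a) (fun l => (η l : ℂ)) g = c * nfix Ω g := by
  classical
  have hterm : ∀ x : G, Cfsg.extendByZero (stabilizer G a) (fun l => (η l : ℂ)) (x⁻¹ * g * x) =
      if x⁻¹ * g * x ∈ stabilizer G a then c else 0 := fun x => by
    split_ifs with h
    · rw [Char.extendByZero_of_mem _ _ h, ← hc x h, ev_of_mem η h]
    · exact Char.extendByZero_of_not_mem _ _ h
  rw [Char.indFun_apply, Finset.sum_congr rfl fun x _ => hterm x, ← Finset.sum_filter,
    Finset.sum_const, nsmul_eq_mul,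
    show (Finset.univ.filter fun x : G => x⁻¹ * g * x ∈ stabilizer G a).card =
      Nat.card {x : G // x⁻¹ * g * x ∈ stabilizer G a} by
      rw [Nat.card_eq_fintype_card, Fintype.card_subtype],
    card_smul_fix hS, Nat.cast_mul]
  have h0 : (Nat.card (stabilizer G a) : ℂ) ≠ 0 := Nat.cast_ne_zero.2 Nat.card_pos.ne'
  field_simp

theorem nfix_one (hS : Cfsg.IsRankOneSetup G Ω a t Q) : nfix Ω (1 : G) = Nat.card Q + 1 := by
  rw [nfix, ← card_points hS]
  exact Nat.card_congr (Equiv.subtypeUnivEquiv fun c => one_smul G c)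

theorem nfix_Q (hS : Cfsg.IsRankOneSetup G Ω a t Q) {x : G} (hx : x ∈ Q) (hx1 : x ≠ 1) :
    nfix Ω x = 1 :=
  Nat.card_eq_one_iff_unique.2
    ⟨⟨fun c e => Subtype.ext ((fixes_only hS hx hx1 c.2).trans (fixes_only hS hx hx1 e.2).symm)⟩,
      ⟨⟨a, smul_a_of_mem_Q hS hx⟩⟩⟩

theorem sum_nfix_stabilizer (hS : Cfsg.IsRankOneSetup G Ω a t Q) [Fintype (stabilizer G a)] :
    ∑ l : stabilizer G a, nfix Ω (l : G) = 2 * Nat.card (stabilizer G a) := by
  classical
  have : Finite Ω := finite_points hS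
  have := Fintype.ofFinite Ω
  have h1 : ∀ l : stabilizer G a, nfix Ω (l : G) =
      ∑ c : Ω, if (l : G) • c = c then 1 else 0 := fun l => by
    rw [nfix, Nat.card_eq_fintype_card, Fintype.card_subtype, Finset.card_filter]
  rw [Finset.sum_congr rfl fun l _ => h1 l, Finset.sum_comm, ← Finset.add_sum_erase _ _
    (Finset.mem_univ a)]
  have h2 : ∀ c ∈ Finset.univ.erase a,
      (∑ l : stabilizer G a, if (l : G) • c = c then 1 else 0) = Nat.card (twoPt G a t) := by
    intro c hc
    obtain ⟨q, hq, rfl⟩ := exists_Q_smul hS (Finset.ne_of_mem_erase hc)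
    rw [← Finset.card_filter, ← Fintype.card_subtype, ← Nat.card_eq_fintype_card]
    refine Nat.card_congr
      { toFun := fun l => ⟨q⁻¹ * l.1 * q,
          ⟨(stabilizer G a).mul_mem ((stabilizer G a).mul_mem ((stabilizer G a).inv_mem (hS.le hq)) l.1.2) (hS.le hq), by
            show (q⁻¹ * (l.1 : G) * q) • t • a = t • a
            rw [mul_smul, mul_smul, l.2, inv_smul_smul]⟩⟩
        invFun := fun d => ⟨⟨q * d * q⁻¹,
          mul_mem (mul_mem (hS.le hq) (twoPt_le d.2)) (inv_mem (hS.le hq))⟩, by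
            show (q * (d : G) * q⁻¹) • q • t • a = q • t • a
            rw [mul_smul, mul_smul, inv_smul_smul, (mem_twoPt.1 d.2).2]⟩
        left_inv := fun l => Subtype.ext (Subtype.ext (by simp [mul_assoc]))
        right_inv := fun d => Subtype.ext (by simp [mul_assoc]) }
  rw [Finset.sum_congr rfl h2, Finset.sum_const, Finset.card_erase_of_mem (Finset.mem_univ a),
    Finset.card_univ, ← Nat.card_eq_fintype_card, card_points hS, Nat.add_sub_cancel, smul_eq_mul,
    Finset.sum_congr rfl fun (l : stabilizer G a) _ => if_pos (show (l : G) • a = a from l.2),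
    Finset.sum_const, Finset.card_univ, smul_eq_mul, mul_one, ← Nat.card_eq_fintype_card,
    card_stabilizer hS]
  ring

/-- Exactly `q - 1` involutions carry a point to another one. -/
theorem card_invol_map (hC : Ctx G Ω a t Q) (c p : Ω) :
    Nat.card {y : G // (y ≠ 1 ∧ y * y = 1) ∧ y • c = p} =
      Nat.card (Cfsg.involutionsIn (stabilizer G a : Set G)) := by
  have hS := hC.setup
  -- transport by a group element
  have hmove : ∀ g : G, Nat.card {y : G // (y ≠ 1 ∧ y * y = 1) ∧ y • c = p} =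
      Nat.card {y : G // (y ≠ 1 ∧ y * y = 1) ∧ y • g • c = g • p} := fun g =>
    Nat.card_congr ((MulAut.conj g).toEquiv.subtypeEquiv fun y => by
      simp only [MulEquiv.toEquiv_eq_coe, EquivLike.coe_coe, MulAut.conj_apply, mul_smul,
        inv_smul_smul, smul_left_cancel_iff, ne_eq]
      rw [conj_eq_one_iff, show g * y * g⁻¹ * (g * y * g⁻¹) = g * (y * y) * g⁻¹ by group,
        conj_eq_one_iff])
  by_cases hcp : c = p
  · subst hcp
    obtain ⟨g, hg⟩ := exists_smul hS c a
    rw [hmove g, hg]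
    exact Nat.card_congr (Equiv.subtypeEquivRight fun y =>
      ⟨fun h => ⟨h.2, h.1.1, h.1.2⟩, fun h => ⟨⟨h.2.1, h.2.2⟩, h.1⟩⟩)
  · obtain ⟨g, hga, hgb⟩ := RankOne.exists_smul_pair hS hcp (t_smul_ne hS).symm
    rw [hmove g, hga, hgb, ← card_invertedBy hS]
    refine Nat.card_congr
      { toFun := fun y => ⟨y.1 * t, mem_invertedBy_of_swap hS y.2.1.2 y.2.2⟩
        invFun := fun k => ⟨k.1 * t,
          ⟨(swap_invol hS k.2).2.1, (swap_invol hS k.2).1⟩, (swap_invol hS k.2).2.2⟩
        left_inv := fun y => Subtype.ext (by simp [mul_assoc, hS.mul_self])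
        right_inv := fun k => Subtype.ext (by simp [mul_assoc, hS.mul_self]) }

open scoped _root_.Classical in
/-- The total number of common images of two involutions. -/
theorem sum_nfix_prod (hC : Ctx G Ω a t Q) :
    ∑ x ∈ Finset.univ.filter (fun g : G => g ≠ 1 ∧ g * g = 1),
      ∑ y ∈ Finset.univ.filter (fun g : G => g ≠ 1 ∧ g * g = 1), nfix Ω (x * y) =
    (Finset.univ.filter (fun g : G => g ≠ 1 ∧ g * g = 1)).card ^ 2 := by
  have : Finite Ω := finite_points hC.setup
  have := Fintype.ofFinite Ω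
  set C := Finset.univ.filter (fun g : G => g ≠ 1 ∧ g * g = 1) with hC'
  set n := Nat.card (Cfsg.involutionsIn (stabilizer G a : Set G))
  have hn : ∀ c p : Ω, (∑ y ∈ C, if y • c = p then 1 else 0) = n := fun c p => by
    rw [← Finset.card_filter, hC', Finset.filter_filter, ← Fintype.card_subtype,
      ← Nat.card_eq_fintype_card]
    exact card_invol_map hC c p
  have hm : C.card = Nat.card Ω * n := by
    have h1 : ∑ y ∈ C, ∑ p : Ω, (if y • a = p then 1 else 0) = C.card := by
      simp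
    rw [← h1, Finset.sum_comm, Finset.sum_congr rfl fun p _ => hn a p, Finset.sum_const,
      Finset.card_univ, smul_eq_mul, Nat.card_eq_fintype_card]
  have h2 : ∀ x ∈ C, ∀ y : G, nfix Ω (x * y) = ∑ c : Ω, if y • c = x • c then 1 else 0 := by
    intro x hx y
    have hx2 : x * x = 1 := (Finset.mem_filter.1 hx).2.2
    rw [nfix, Nat.card_eq_fintype_card, Fintype.card_subtype, Finset.card_filter]
    refine Finset.sum_congr rfl fun c _ => ?_
    rw [mul_smul, smul_eq_iff_eq_inv_smul, inv_eq_of_mul_eq_one_right hx2]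
  rw [Finset.sum_congr rfl fun x hx => Finset.sum_congr rfl fun y _ => h2 x hx y,
    Finset.sum_congr rfl fun x _ => Finset.sum_comm,
    Finset.sum_congr rfl fun x _ => Finset.sum_congr rfl fun c _ => hn c (x • c)]
  simp only [Finset.sum_const, Finset.card_univ, smul_eq_mul, ← Nat.card_eq_fintype_card]
  rw [pow_two]
  nth_rw 3 [hm]

end Perm

end Cfsg.Agent.RankOneClass.SqPerm
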